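import Cfsg.Agent.H90.Orbits
import Cfsg.Agent.H37.SmallIsoBase
import Cfsg.Agent.H37.Generation
import Cfsg.Agent.H37.PSL34

/-! The three-point stabiliser is PSL(3,4). -/

set_option autoImplicit false
set_option linter.style.haveILetI false

namespace H90

open Cfsg Matrix
open scoped MatrixGroups

/-- The four elements of the model field. -/
def k4Elt : ℕ → H37.K4
  | 0 => 0
  | 1 => 1
  | 2 => ⟨0, 1⟩
  | _ => ⟨1, 1⟩

/-- Homogeneous coordinates of the points, as base-4 numbers (0 at the three fixed points). -/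
def planeCode : List ℕ :=
  [0, 0, 1, 4, 16, 5, 23, 21, 31, 25, 27, 28, 30, 19, 6, 26, 17, 7, 29, 20, 24, 22, 18, 0]

/-- Coordinates of a position. -/
def planeVec (i : Fin 24) : Fin 3 → H37.K4 :=
  ![k4Elt (planeCode.getD i.val 0 / 16), k4Elt (planeCode.getD i.val 0 / 4 % 4),
    k4Elt (planeCode.getD i.val 0 % 4)]

/-- Scale so that the first nonzero coordinate is 1. -/
def planeNorm (v : Fin 3 → H37.K4) : Fin 3 → H37.K4 :=
  let c := if v 0 ≠ 0 then v 0 else if v 1 ≠ 0 then v 1 else v 2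
  fun k => c * c * v k

/-- The three fixed points. -/
def special3 (x : GolayPt) : Bool :=
  decide (x = none) || decide (x = some 0) || decide (x = some 1)

/-- The position with the given coordinates. -/
def planeFind (v : Fin 3 → H37.K4) : GolayPt :=
  pt (((List.finRange 24).find? fun i => !special3 (pt i) &&
    (decide (planeVec i 0 = v 0) && decide (planeVec i 1 = v 1) && decide (planeVec i 2 = v 2))).getD 0)

theorem planeNorm_ne_zero : ∀ v : Fin 3 → H37.K4, v ≠ 0 → planeNorm v ≠ 0 := by decide +kernel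

theorem planeNorm_idem : ∀ v : Fin 3 → H37.K4, planeNorm (planeNorm v) = planeNorm v := by
  decide +kernel

theorem planeNorm_smul : ∀ v : Fin 3 → H37.K4, ∀ c : H37.K4, c ≠ 0 →
    planeNorm (c • v) = planeNorm v := by decide +kernel

theorem planeNorm_eq_smul (v : Fin 3 → H37.K4) (hv : v ≠ 0) :
    ∃ c : H37.K4, c ≠ 0 ∧ planeNorm v = c • v := by
  revert v; decide +kernel

theorem planeFind_spec : ∀ v : Fin 3 → H37.K4, v ≠ 0 →
    special3 (planeFind (planeNorm v)) = false ∧
      planeVec (idx (planeFind (planeNorm v))) = planeNorm v := by decide +kernel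

theorem planeVec_spec : ∀ x : GolayPt, special3 x = false →
    planeVec (idx x) ≠ 0 ∧ planeNorm (planeVec (idx x)) = planeVec (idx x) ∧
      planeFind (planeVec (idx x)) = x := by decide +kernel

/-- The action of a matrix on the 24 points. -/
def planeFun (g : Matrix (Fin 3) (Fin 3) H37.K4) (x : GolayPt) : GolayPt :=
  if special3 x = true then x else planeFind (planeNorm (g *ᵥ planeVec (idx x)))

theorem mulVec_ne_zero (g : SpecialLinearGroup (Fin 3) H37.K4) {v : Fin 3 → H37.K4} (hv : v ≠ 0) :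
    g.1 *ᵥ v ≠ 0 := fun h => hv (by
  have := congrArg (fun w => (g⁻¹).1 *ᵥ w) h
  simp only [mulVec_mulVec, mulVec_zero] at this
  rw [show (g⁻¹).1 * g.1 = (g⁻¹ * g).1 from rfl, inv_mul_cancel,
    show (1 : SpecialLinearGroup (Fin 3) H37.K4).1 = (1 : Matrix (Fin 3) (Fin 3) H37.K4) from rfl,
    one_mulVec] at this
  exact this)

theorem planeFun_mul (g h : SpecialLinearGroup (Fin 3) H37.K4) (x : GolayPt) :
    planeFun (g * h).1 x = planeFun g.1 (planeFun h.1 x) := by
  unfold planeFun
  by_cases hx : special3 x = true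
  · simp [hx]
  rw [if_neg hx, if_neg hx]
  obtain ⟨hv, -, -⟩ := planeVec_spec x (by simpa using hx)
  obtain ⟨h1, h2⟩ := planeFind_spec _ (mulVec_ne_zero h hv)
  rw [if_neg (by simp [h1]), h2]
  obtain ⟨c, hc, he⟩ := planeNorm_eq_smul _ (mulVec_ne_zero h hv)
  rw [he, mulVec_smul, planeNorm_smul _ c hc, mulVec_mulVec]
  rfl

theorem planeFun_one (x : GolayPt) :
    planeFun (1 : SpecialLinearGroup (Fin 3) H37.K4).1 x = x := by
  unfold planeFun
  by_cases hx : special3 x = true
  · simp [hx]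
  rw [if_neg hx,
    show (1 : SpecialLinearGroup (Fin 3) H37.K4).1 = (1 : Matrix (Fin 3) (Fin 3) H37.K4) from rfl,
    one_mulVec]
  obtain ⟨-, h2, h3⟩ := planeVec_spec x (by simpa using hx)
  rw [h2, h3]

/-- The permutation representation of `SL(3,4)` on the 24 points. -/
def planeHom : SpecialLinearGroup (Fin 3) H37.K4 →* Equiv.Perm GolayPt where
  toFun g :=
    { toFun := planeFun g.1
      invFun := planeFun (g⁻¹).1
      left_inv := fun x => by rw [← planeFun_mul, inv_mul_cancel, planeFun_one]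
      right_inv := fun x => by rw [← planeFun_mul, mul_inv_cancel, planeFun_one] }
  map_one' := Equiv.ext planeFun_one
  map_mul' g h := Equiv.ext (planeFun_mul g h)

theorem planeHom_apply (g : SpecialLinearGroup (Fin 3) H37.K4) (x : GolayPt) :
    planeHom g x = planeFun g.1 x := rfl

/-- The three-point stabiliser. -/
def fixThree : Subgroup (Equiv.Perm GolayPt) :=
  M24 ⊓ MulAction.stabilizer _ (none : GolayPt) ⊓ MulAction.stabilizer _ (some 0 : GolayPt) ⊓
    MulAction.stabilizer _ (some 1 : GolayPt)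

theorem transvection_check : ∀ i j : Fin 3, i ≠ j → ∀ a : H37.K4,
    preservesCode (packAux
      (fun k => (idx (planeFun (Matrix.transvection i j a) (pt (Fin.ofNat 24 k)))).val) 24) = true := by
  decide +kernel

theorem planeHom_special (g : SpecialLinearGroup (Fin 3) H37.K4) (x : GolayPt)
    (hx : special3 x = true) : planeHom g x = x := by
  rw [planeHom_apply, planeFun, if_pos hx]

theorem planeHom_mem (g : SpecialLinearGroup (Fin 3) H37.K4) : planeHom g ∈ fixThree := by
  refine ⟨⟨⟨?_, planeHom_special g none rfl⟩, planeHom_special g _ rfl⟩, planeHom_special g _ rfl⟩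
  show planeHom g ∈ M24
  induction g using H37.SL_transvection_induction with
  | h1 => rw [map_one]; exact one_mem _
  | htransvec i j h c =>
    refine (mem_M24_iff_preservesCode (p := packAux
      (fun k => (idx (planeFun (Matrix.transvection i j c) (pt (Fin.ofNat 24 k)))).val) 24) ?_).mpr
      (transvection_check i j h c)
    refine repr_pack' _ (fun k => lt_trans (idx _).isLt (by norm_num)) fun k => ?_
    rw [Fin.ofNat_eq_cast, Fin.cast_val_eq_self]
    rfl
  | hmul A B hA hB => rw [map_mul]; exact mul_mem hA hB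
where
  repr_pack' {σ : Equiv.Perm GolayPt} (f : ℕ → ℕ) (hf : ∀ i, f i < 32)
      (h : ∀ i : Fin 24, (idx (σ (pt i))).val = f i.val) : Repr σ (packAux f 24) := by
    intro i
    rw [h i, img_packAux f hf, if_pos i.isLt]

theorem planeHom_center (g : SpecialLinearGroup (Fin 3) H37.K4)
    (hg : g ∈ Subgroup.center (SpecialLinearGroup (Fin 3) H37.K4)) : planeHom g = 1 := by
  obtain ⟨r, hr, hgr⟩ := Matrix.SpecialLinearGroup.mem_center_iff.mp hg
  refine Equiv.ext fun x => ?_
  rw [planeHom_apply, planeFun, Equiv.Perm.one_apply]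
  split_ifs with hx
  · rfl
  obtain ⟨hv, h2, h3⟩ := planeVec_spec x (by simpa using hx)
  have hr0 : r ≠ 0 := by
    rintro rfl; simp at hr
  rw [← hgr, scalar_apply, diagonal_mulVec_eq]
  rw [planeNorm_smul _ r hr0, h2, h3]
where
  diagonal_mulVec_eq {r : H37.K4} {v : Fin 3 → H37.K4} :
      Matrix.diagonal (fun _ : Fin 3 => r) *ᵥ v = r • v := by
    funext i; rw [mulVec_diagonal]; rfl

theorem natCard_fixThree : Nat.card fixThree = 20160 := by
  let A : Subgroup M24 := MulAction.stabilizer M24 (none : GolayPt) ⊓ MulAction.stabilizer M24 (some 0 : GolayPt)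
  have h := natCard_inf_stabilizer A (some 1 : GolayPt) {x | x ≠ none ∧ x ≠ some 0} fun r => by
    constructor
    · rintro ⟨hr, hr0⟩
      obtain ⟨σ, hσ, e1, e2, e3⟩ := exists_move3 (p := (none : GolayPt)) (q := some 0) (r := some 1)
        (p' := none) (q' := some 0) (r' := r) (by simp) (by simp) (by simp; decide +kernel) (by simp)
        (Ne.symm hr) (Ne.symm hr0)
      exact ⟨⟨σ, hσ⟩, ⟨e1, e2⟩, e3⟩
    · rintro ⟨g, ⟨h1, h2⟩, rfl⟩
      constructor
      · intro e
        exact absurd (MulAction.injective g (e.trans h1.symm)) (by simp)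
      · intro e
        exact absurd (MulAction.injective g (e.trans h2.symm)) (by simp; decide +kernel)
  have hn : ({x | x ≠ none ∧ x ≠ some 0} : Set GolayPt).ncard = 22 := by
    rw [Set.ncard_eq_toFinset_card' _]
    decide +kernel
  rw [hn, natCard_stab_pair (by simp)] at h
  let e : ↥(A ⊓ MulAction.stabilizer M24 (some 1 : GolayPt)) ≃ fixThree :=
    { toFun := fun g => ⟨g.1.1, ⟨⟨g.1.2, g.2.1.1⟩, g.2.1.2⟩, g.2.2⟩
      invFun := fun g => ⟨⟨g.1, g.2.1.1.1⟩, ⟨g.2.1.1.2, g.2.1.2⟩, g.2.2⟩ }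
  rw [← Nat.card_congr e]
  omega

theorem card_psl_k4 : Nat.card (ProjectiveSpecialLinearGroup (Fin 3) H37.K4) = 20160 := by
  have h := H37.card_PSL_fin (F := H37.K4) 3 (by norm_num)
  rw [H37.card_K4] at h
  norm_num [Fin.prod_univ_three] at h
  rw [Nat.card_eq_fintype_card]
  omega

/-- `PSL(3,4)` is the three-point stabiliser. -/
theorem psl_equiv_fixThree :
    Nonempty (ProjectiveSpecialLinearGroup (Fin 3) H37.K4 ≃* fixThree) := by
  haveI : IsSimpleGroup (ProjectiveSpecialLinearGroup (Fin 3) H37.K4) :=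
    H37.isSimpleGroup_PSL (by simp)
  let φ0 : SpecialLinearGroup (Fin 3) H37.K4 →* fixThree :=
    planeHom.codRestrict fixThree planeHom_mem
  let φ : ProjectiveSpecialLinearGroup (Fin 3) H37.K4 →* fixThree :=
    QuotientGroup.lift _ φ0 fun g hg => Subtype.ext (planeHom_center g hg)
  have hne : ∃ g, φ g ≠ 1 := by
    have h01 : (0 : Fin 3) ≠ 1 := by decide
    refine ⟨QuotientGroup.mk ⟨Matrix.transvection 0 1 1, det_transvection_of_ne _ _ h01 _⟩,
      fun h => ?_⟩
    have h1 : planeFun (Matrix.transvection (0 : Fin 3) 1 (1 : H37.K4)) (pt 3) = pt 3 :=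
      DFunLike.congr_fun (congrArg Subtype.val h) (pt 3)
    exact absurd h1 (by decide +kernel)
  have hinj := H37.injective_of_simple φ hne
  refine ⟨MulEquiv.ofBijective φ ((Nat.bijective_iff_injective_and_card φ).mpr ⟨hinj, ?_⟩)⟩
  rw [card_psl_k4, natCard_fixThree]

theorem three_point_iso (p q r : GolayPt) (hpq : p ≠ q) (hpr : p ≠ r) (hqr : q ≠ r)
    (F : Type) [Field F] [Fintype F] (hF : Fintype.card F = 4) :
    Nonempty (↥(MulAction.stabilizer M24 p ⊓ MulAction.stabilizer M24 q ⊓
      MulAction.stabilizer M24 r) ≃* Matrix.ProjectiveSpecialLinearGroup (Fin 3) F) := by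
  obtain ⟨e⟩ := psl_equiv_fixThree
  let k : H37.K4 ≃+* F := FiniteField.ringEquivOfCardEq (by
    rw [hF, ← Nat.card_eq_fintype_card, H37.card_K4])
  obtain ⟨σ, hσ, e1, e2, e3⟩ := exists_move3 (p := (none : GolayPt)) (q := some 0) (r := some 1)
    (by simp) (by simp) (by simp; decide +kernel) hpq hpr hqr
  have i1 : σ⁻¹ p = none := Equiv.Perm.inv_eq_iff_eq.mpr e1.symm
  have i2 : σ⁻¹ q = some 0 := Equiv.Perm.inv_eq_iff_eq.mpr e2.symm
  have i3 : σ⁻¹ r = some 1 := Equiv.Perm.inv_eq_iff_eq.mpr e3.symm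
  let E : fixThree ≃* ↥(MulAction.stabilizer M24 p ⊓ MulAction.stabilizer M24 q ⊓
      MulAction.stabilizer M24 r) :=
    { toFun := fun h => ⟨⟨σ * h.1 * σ⁻¹, (show σ * h.1 * σ⁻¹ ∈ M24 from mul_mem (mul_mem hσ h.2.1.1.1) (inv_mem hσ))⟩,
        ⟨show σ (h.1 (σ⁻¹ p)) = p by rw [i1, show h.1 none = none from h.2.1.1.2, e1],
          show σ (h.1 (σ⁻¹ q)) = q by rw [i2, show h.1 (some 0) = some 0 from h.2.1.2, e2]⟩,
        show σ (h.1 (σ⁻¹ r)) = r by rw [i3, show h.1 (some 1) = some 1 from h.2.2, e3]⟩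
      invFun := fun h => ⟨σ⁻¹ * h.1.1 * σ, ⟨⟨(show σ⁻¹ * h.1.1 * σ ∈ M24 from mul_mem (mul_mem (inv_mem hσ) h.1.2) hσ),
        show σ⁻¹ (h.1.1 (σ none)) = none by rw [e1, show h.1.1 p = p from h.2.1.1, i1]⟩,
        show σ⁻¹ (h.1.1 (σ (some 0))) = some 0 by rw [e2, show h.1.1 q = q from h.2.1.2, i2]⟩,
        show σ⁻¹ (h.1.1 (σ (some 1))) = some 1 by rw [e3, show h.1.1 r = r from h.2.2, i3]⟩
      left_inv := fun h => Subtype.ext (by simp [mul_assoc])
      right_inv := fun h => Subtype.ext (Subtype.ext (by simp [mul_assoc]))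
      map_mul' := fun a b => Subtype.ext (Subtype.ext (by simp [mul_assoc])) }
  exact ⟨E.symm.trans (e.symm.trans (H37.pslCongr k))⟩

end H90
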