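import Cfsg.Agent.H90.CentralizerComp

/-!
The centraliser of `k ρ k⁻¹`, `ρ` the representative fixing an octad, is the core extended by the
complement.
-/

set_option autoImplicit false

namespace H90

open Cfsg
open scoped Pointwise

/-- Two encodings commute on all positions. -/
def commutes' (p q : ℕ) : Bool := samePerm (compN p q) (compN q p)

theorem commute_of_check {k g h : ↥M24} {p q : ℕ} (hg : CRepr k g p) (hh : CRepr k h q)
    (e : commutes' p q = true) : g * h = h * g := (hg.mul hh).eq_of_same (hh.mul hg) e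

theorem inList_of_mem {k g : ↥M24} {l : List ℕ} {p : ℕ} (hp : p ∈ l) (hg : CRepr k g p) :
    InList k l g := ⟨p, hp, hg⟩

theorem coreGens_head : coreGens = invAN :: coreGens.tail := by decide +kernel

theorem core_commutes_z : coreGens.all (fun a => commutes' a invAN) = true := by decide +kernel

theorem comp_commutes_z : compPerm.all (fun a => commutes' a invAN) = true := by decide +kernel

theorem comp_normalizes : ((List.finRange 2).all fun b => coreGens.all fun a =>
    (prodList coreGens).any fun q =>
      samePerm (compN (compEnc (compGenMat b)) a) (compN q (compEnc (compGenMat b)))) = true := by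
  decide +kernel

theorem comp_disjoint : compPerm.all (fun p =>
    samePerm p idN || (prodList coreGens).all fun q => !samePerm p q) = true := by decide +kernel

/-- The conjugators to the fifteen involutions with the same octad stabilise it. -/
theorem fibre_check : (validList fibreConj && fibreConj.all (fun c =>
    Nat.beq (permMask c invAFix) invAFix) && distinctList fibreImg && validList fibreImg &&
      ((List.range 15).all fun i => samePerm (compN (fibreConj.getD i idN) invAN)
        (compN (fibreImg.getD i idN) (fibreConj.getD i idN)))) = true := by decide +kernel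

theorem fibre_lengths : fibreConj.length = 15 ∧ fibreImg.length = 15 := by decide +kernel

theorem natCard_stab_octad {o : Finset GolayPt} (ho : o ∈ octads) :
    Nat.card (MulAction.stabilizer M24 o) = 322560 := by
  have h := natCard_stabilizer_mul (G := M24) o octads fun o' => by
    constructor
    · intro ho'
      obtain ⟨σ, hσ, e⟩ := exists_M24_octad ho ho'
      exact ⟨⟨σ, hσ⟩, e⟩
    · rintro ⟨g, rfl⟩
      exact image_mem_wordsOfWeight g.2 ho
  rw [octads_ncard, natCard_M24] at h
  omega

variable {k z : ↥M24} (hz : CRepr k z invAN)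
include hz

theorem coreSub_le_centralizer : coreSub k ≤ Subgroup.centralizer ({z} : Set ↥M24) := by
  refine (Subgroup.closure_le _).mpr ?_
  rintro g ⟨p, hp, hg⟩
  exact Subgroup.mem_centralizer_singleton_iff.mpr
    (commute_of_check hg hz (List.all_eq_true.mp core_commutes_z p hp))

theorem z_mem_coreSub : z ∈ coreSub k :=
  mem_listSub_of_inList ⟨invAN, by rw [coreGens_head]; exact List.mem_cons_self, hz⟩

theorem z_mem_fourSub : z ∈ fourSub k :=
  mem_listSub_of_inList ⟨invAN, by rw [fourGens, coreGens_head]; exact List.mem_cons_self, hz⟩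

theorem compHom_mem_centralizer (A : Matrix.SpecialLinearGroup (Fin 3) (ZMod 2)) :
    compHom k A ∈ Subgroup.centralizer ({z} : Set ↥M24) :=
  Subgroup.mem_centralizer_singleton_iff.mpr
    (commute_of_check (compHom_repr k A) hz (List.all_eq_true.mp comp_commutes_z _ (compEnc_mem A)))

omit hz in
theorem compHom_conj_core (A : Matrix.SpecialLinearGroup (Fin 3) (ZMod 2)) :
    ∀ x ∈ coreSub k, compHom k A * x * (compHom k A)⁻¹ ∈ coreSub k := by
  refine comp_induction (P := fun A => ∀ x ∈ coreSub k,
    compHom k A * x * (compHom k A)⁻¹ ∈ coreSub k) (fun x hx => by simpa using hx) ?_ A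
  rintro A B hA ⟨b, hb⟩ x hx
  have hgen : ∀ y ∈ coreSub k, compHom k B * y * (compHom k B)⁻¹ ∈ coreSub k := by
    intro y hy
    induction hy using Subgroup.closure_induction with
    | mem y hy =>
      obtain ⟨a, ha, hy⟩ := hy
      have h := List.all_eq_true.mp (List.all_eq_true.mp comp_normalizes b (List.mem_finRange _)) a ha
      obtain ⟨q, hq, hs⟩ := List.any_eq_true.mp h
      obtain ⟨g, hg⟩ := exists_crepr_of_valid (k := k) coreList_valid hq
      have hB := compHom_repr k B
      rw [hb] at hB
      have e : compHom k B * y = g * compHom k B := (hB.mul hy).eq_of_same (hg.mul hB) hs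
      rw [e, mul_inv_cancel_right]
      exact mem_coreSub.mpr ⟨q, hq, hg⟩
    | one => simp
    | mul a c _ _ h1 h2 =>
      rw [show compHom k B * (a * c) * (compHom k B)⁻¹ =
        (compHom k B * a * (compHom k B)⁻¹) * (compHom k B * c * (compHom k B)⁻¹) by group]
      exact mul_mem h1 h2
    | inv a _ h1 =>
      rw [show compHom k B * a⁻¹ * (compHom k B)⁻¹ = (compHom k B * a * (compHom k B)⁻¹)⁻¹ by group]
      exact inv_mem h1
  rw [map_mul, show compHom k A * compHom k B * x * (compHom k A * compHom k B)⁻¹ =
    compHom k A * (compHom k B * x * (compHom k B)⁻¹) * (compHom k A)⁻¹ by group]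
  exact hA _ (hgen x hx)

omit hz in
theorem compHom_disjoint {A : Matrix.SpecialLinearGroup (Fin 3) (ZMod 2)}
    (h : compHom k A ∈ coreSub k) : A = 1 := by
  obtain ⟨q, hq, hg⟩ := mem_coreSub.mp h
  refine compHom_injective k ?_
  rw [map_one]
  have hA := compHom_repr k A
  rcases (Bool.or_eq_true _ _).mp (List.all_eq_true.mp comp_disjoint _ (compEnc_mem A)) with h1 | h1
  · exact hA.eq_of_same crepr_one h1
  · exact absurd (hA.same_of_eq hg rfl) (by simpa using List.all_eq_true.mp h1 q hq)

theorem natCard_centralizer_le :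
    15 * Nat.card (Subgroup.centralizer ({z} : Set ↥M24)) ≤ 322560 := by
  have hc := fibre_check
  simp only [Bool.and_eq_true] at hc
  obtain ⟨⟨⟨⟨hv, hstab⟩, hd⟩, hvi⟩, hconj⟩ := hc
  have hex : ∀ i : Fin 15, ∃ c e : ↥M24, Repr c.1 (fibreConj.getD i.val idN) ∧
      Repr e.1 (fibreImg.getD i.val idN) := by
    intro i
    have h1 : i.val < fibreConj.length := by rw [fibre_lengths.1]; exact i.isLt
    have h2 : i.val < fibreImg.length := by rw [fibre_lengths.2]; exact i.isLt
    rw [List.getD_eq_getElem _ _ h1, List.getD_eq_getElem _ _ h2]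
    have a := List.all_eq_true.mp hv _ (List.getElem_mem h1)
    have b := List.all_eq_true.mp hvi _ (List.getElem_mem h2)
    rw [Bool.and_eq_true] at a b
    obtain ⟨σ, hσ, hr⟩ := exists_M24_repr a.1 a.2
    obtain ⟨τ, hτ, hr'⟩ := exists_M24_repr b.1 b.2
    exact ⟨⟨σ, hσ⟩, ⟨τ, hτ⟩, hr, hr'⟩
  choose c e hcr her using hex
  set ρ : ↥M24 := k⁻¹ * z * k with hρ
  have hρr : Repr ρ.1 invAN := hz
  have hce : ∀ i, c i * ρ = e i * c i := by
    intro i
    have hs := List.all_eq_true.mp hconj i.val (List.mem_range.mpr i.isLt)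
    refine Subtype.ext (((hcr i).mul hρr).unique fun j => ?_)
    rw [Subgroup.coe_mul, (her i).mul (hcr i) j]
    exact (Nat.eq_of_beq_eq_true (List.all_eq_true.mp hs j.val (List.mem_range.mpr j.isLt))).symm
  have hcO : ∀ i, (setOf' invAFix).image (c i).1 = setOf' invAFix := by
    intro i
    rw [← setOf'_permMask (hcr i)]
    have h1 : i.val < fibreConj.length := by rw [fibre_lengths.1]; exact i.isLt
    rw [List.getD_eq_getElem _ _ h1]
    exact congrArg setOf' (Nat.eq_of_beq_eq_true (List.all_eq_true.mp hstab _ (List.getElem_mem h1)))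
  have hu : ∀ g : Subgroup.centralizer ({z} : Set ↥M24),
      (k⁻¹ * g.1 * k) * ρ = ρ * (k⁻¹ * g.1 * k) := by
    intro g
    have := Subgroup.mem_centralizer_singleton_iff.mp g.2
    rw [hρ, show k⁻¹ * g.1 * k * (k⁻¹ * z * k) = k⁻¹ * (g.1 * z) * k by group, this]
    group
  have huO : ∀ g : Subgroup.centralizer ({z} : Set ↥M24),
      (setOf' invAFix).image (k⁻¹ * g.1 * k : ↥M24).1 = setOf' invAFix := by
    intro g
    have h := fixed_conj (k⁻¹ * g.1 * k : ↥M24).1 ρ.1
    rw [invA_fixed hρr] at h
    rw [← h, show (k⁻¹ * g.1 * k : ↥M24).1 * ρ.1 = ρ.1 * (k⁻¹ * g.1 * k : ↥M24).1 from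
      congrArg Subtype.val (hu g), mul_inv_cancel_right, invA_fixed hρr]
  let F : Subgroup.centralizer ({z} : Set ↥M24) × Fin 15 →
      MulAction.stabilizer M24 (setOf' invAFix) := fun gi =>
    ⟨c gi.2 * (k⁻¹ * gi.1.1 * k), by
      show (setOf' invAFix).image ((c gi.2).1 * (k⁻¹ * gi.1.1 * k : ↥M24).1) = setOf' invAFix
      rw [Equiv.Perm.coe_mul, ← Finset.image_image, huO, hcO]⟩
  have hF : Function.Injective F := by
    rintro ⟨g, i⟩ ⟨g', j⟩ heq
    have h' : c i * (k⁻¹ * g.1 * k) = c j * (k⁻¹ * g'.1 * k) := congrArg Subtype.val heq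
    have he : e i = e j := by
      have h1 : c i * (k⁻¹ * g.1 * k) * ρ = e i * (c i * (k⁻¹ * g.1 * k)) := by
        rw [mul_assoc, hu, ← mul_assoc, hce, mul_assoc]
      have h2 : c j * (k⁻¹ * g'.1 * k) * ρ = e j * (c j * (k⁻¹ * g'.1 * k)) := by
        rw [mul_assoc, hu, ← mul_assoc, hce, mul_assoc]
      rw [h'] at h1
      exact mul_right_cancel (h1.symm.trans h2)
    have hij : i = j := by
      have hi : i.val < fibreImg.length := by rw [fibre_lengths.2]; exact i.isLt
      have hj : j.val < fibreImg.length := by rw [fibre_lengths.2]; exact j.isLt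
      have hr := her i
      rw [he, List.getD_eq_getElem _ _ hi] at hr
      have hr' := her j
      rw [List.getD_eq_getElem _ _ hj] at hr'
      have hsame : ∀ a b : ℕ, Repr (e j).1 a → Repr (e j).1 b → samePerm a b = true := by
        intro a b ha hb
        refine List.all_eq_true.mpr fun m hm => ?_
        exact Nat.beq_eq.mpr ((ha ⟨m, List.mem_range.mp hm⟩).symm.trans (hb ⟨m, List.mem_range.mp hm⟩))
      have hp := List.pairwise_iff_getElem.mp (distinctList_pairwise hd)
      rcases lt_trichotomy i.val j.val with h | h | h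
      · exact absurd (hsame _ _ hr hr') (by simp [hp _ _ hi hj h])
      · exact Fin.ext h
      · exact absurd (hsame _ _ hr' hr) (by simp [hp _ _ hj hi h])
    subst hij
    rw [mul_right_inj, mul_left_inj, mul_right_inj] at h'
    exact Prod.ext (Subtype.ext h') rfl
  have := Nat.card_le_card_of_injective F hF
  rw [Nat.card_prod, Nat.card_fin, natCard_stab_octad invA_fixed_mem] at this
  omega

/-- The product map onto the centraliser. -/
noncomputable def centralizerProd :
    coreSub k × Matrix.SpecialLinearGroup (Fin 3) (ZMod 2) →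
      Subgroup.centralizer ({z} : Set ↥M24) := fun p =>
  ⟨p.1.1 * compHom k p.2, mul_mem (coreSub_le_centralizer hz p.1.2) (compHom_mem_centralizer hz p.2)⟩

theorem centralizerProd_bijective : Function.Bijective (centralizerProd hz) := by
  have hinj : Function.Injective (centralizerProd hz) := by
    rintro ⟨q, A⟩ ⟨q', B⟩ e
    have e' : q.1 * compHom k A = q'.1 * compHom k B := congrArg Subtype.val e
    have h : compHom k (A * B⁻¹) ∈ coreSub k := by
      have : compHom k (A * B⁻¹) = q.1⁻¹ * q'.1 := by
        rw [map_mul, map_inv, eq_inv_mul_iff_mul_eq, ← mul_assoc, e', mul_inv_cancel_right]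
      rw [this]
      exact mul_mem (inv_mem q.2) q'.2
    obtain rfl : A = B := mul_inv_eq_one.mp (compHom_disjoint h)
    exact Prod.ext (Subtype.ext (mul_right_cancel e')) rfl
  refine hinj.bijective_of_nat_card_le ?_
  rw [Nat.card_prod, natCard_coreSub, natCard_sl32]
  have := natCard_centralizer_le hz
  omega

theorem exists_factor {g : ↥M24} (hg : g ∈ Subgroup.centralizer ({z} : Set ↥M24)) :
    ∃ q ∈ coreSub k, ∃ A, g = q * compHom k A := by
  obtain ⟨⟨q, A⟩, h⟩ := (centralizerProd_bijective hz).2 ⟨g, hg⟩
  exact ⟨q.1, q.2, A, (congrArg Subtype.val h).symm⟩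

theorem coreSub_normalized : Subgroup.centralizer ({z} : Set ↥M24) ≤
    Subgroup.normalizer (coreSub k : Set ↥M24) := by
  intro g hg
  have key : ∀ h ∈ Subgroup.centralizer ({z} : Set ↥M24), ∀ x ∈ coreSub k,
      h * x * h⁻¹ ∈ coreSub k := by
    intro h hh x hx
    obtain ⟨q, hq, A, rfl⟩ := exists_factor hz hh
    rw [show q * compHom k A * x * (q * compHom k A)⁻¹ =
      q * (compHom k A * x * (compHom k A)⁻¹) * q⁻¹ by group]
    exact mul_mem (mul_mem hq (compHom_conj_core A x hx)) (inv_mem hq)
  rw [Subgroup.mem_normalizer_iff]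
  intro x
  refine ⟨key g hg x, fun hx => ?_⟩
  have := key g⁻¹ (inv_mem hg) _ hx
  simpa [mul_assoc] using this

end H90
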