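import Cfsg.Agent.H90.SmallIndexBase

/-!
Subgroups of index 276 stabilise a pair of points.
-/

set_option autoImplicit false

namespace H90

open Cfsg
open scoped Pointwise

theorem natCard_pairs : {t : Finset GolayPt | t.card = 2}.ncard = 276 := by
  have h : {t : Finset GolayPt | t.card = 2} =
      ↑(Finset.powersetCard 2 (Finset.univ : Finset GolayPt)) := by
    ext t; simp
  rw [h, Set.ncard_coe_finset, Finset.card_powersetCard, Finset.card_univ, card_golayPt]
  rfl

theorem natCard_stab_pairSet {s : Finset GolayPt} (hs : s.card = 2) :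
    Nat.card (MulAction.stabilizer M24 s) = 887040 := by
  have h := natCard_stabilizer_mul (G := M24) s {t : Finset GolayPt | t.card = 2} fun t => by
    constructor
    · intro ht
      obtain ⟨a, b, hab, rfl⟩ := Finset.card_eq_two.mp hs
      obtain ⟨c, d, hcd, rfl⟩ := Finset.card_eq_two.mp ht
      obtain ⟨σ, hσ, e1, e2⟩ := exists_move2 hab hcd
      refine ⟨⟨σ, hσ⟩, ?_⟩
      show Finset.image σ {a, b} = _
      rw [Finset.image_insert, Finset.image_singleton, e1, e2]
    · rintro ⟨g, rfl⟩
      show (g • s).card = 2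
      rw [Finset.card_smul_finset, hs]
  rw [natCard_pairs, natCard_M24] at h
  omega

/-- Sizes of invariant sets of a subgroup with elements of orders 7 and 11. -/
theorem invariant_sizes {K : Subgroup ↥M24} (h11 : 11 ∣ Nat.card K) (h7 : 7 ∣ Nat.card K)
    (S : Finset GolayPt) (hS : ∀ g ∈ K, ∀ x ∈ S, g • x ∈ S) :
    S.card % 11 ≤ 2 ∧ S.card % 7 ≤ 3 := by
  have key : ∀ p : ℕ, p.Prime → 5 ≤ p → p ∣ Nat.card K → S.card % p ≤ 24 % p := by
    intro p hp h5 hd
    haveI : Fact p.Prime := ⟨hp⟩
    obtain ⟨σ, hσ⟩ := exists_prime_orderOf_dvd_card' p hd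
    have ho : orderOf σ.1 = p := by rw [Subgroup.orderOf_coe]; exact hσ
    have h := card_modEq_fix hp ho S (hS σ.1 σ.2)
    have h1 : (S ∩ fixSet σ.1).card ≤ (fixSet σ.1).card :=
      Finset.card_le_card Finset.inter_subset_right
    rw [card_fixSet hp h5 ho] at h1
    rw [h]
    exact (Nat.mod_le _ _).trans h1
  exact ⟨key 11 (by norm_num) (by norm_num) h11, key 7 (by norm_num) (by norm_num) h7⟩

theorem exists_orbit (K : Subgroup ↥M24) (q : GolayPt) :
    ∃ S : Finset GolayPt, q ∈ S ∧ (∀ g ∈ K, ∀ y ∈ S, g • y ∈ S) ∧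
      (∀ g ∈ K, ∀ y, g • y ∈ S → y ∈ S) ∧ (∀ y ∈ S, ∃ g ∈ K, g • q = y) ∧
      S.card ∣ Nat.card K := by
  classical
  refine ⟨Finset.univ.filter fun y => ∃ g ∈ K, g • q = y, ?_, ?_, ?_, ?_, ?_⟩
  · exact Finset.mem_filter.mpr ⟨Finset.mem_univ _, 1, one_mem _, one_smul _ _⟩
  · intro g hg y hy
    obtain ⟨-, h, hh, rfl⟩ := Finset.mem_filter.mp hy
    exact Finset.mem_filter.mpr ⟨Finset.mem_univ _, g * h, mul_mem hg hh, mul_smul _ _ _⟩
  · intro g hg y hy
    obtain ⟨-, h, hh, e⟩ := Finset.mem_filter.mp hy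
    exact Finset.mem_filter.mpr ⟨Finset.mem_univ _, g⁻¹ * h, mul_mem (inv_mem hg) hh,
      by rw [mul_smul, e, inv_smul_smul]⟩
  · intro y hy
    exact (Finset.mem_filter.mp hy).2
  · have h := natCard_inf_stabilizer K q
      (↑(Finset.univ.filter fun y => ∃ g ∈ K, g • q = y) : Set GolayPt) fun y => by
        simp only [Finset.coe_filter, Finset.mem_univ, true_and, Set.mem_ofPred_eq]
    rw [Set.ncard_coe_finset] at h
    exact ⟨_, h.symm.trans (mul_comm _ _)⟩

theorem index_276 {H : Subgroup ↥M24} (hi : H.index = 276) :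
    ∃ s : Finset GolayPt, s.card = 2 ∧ H = MulAction.stabilizer M24 s := by
  classical
  have hmul : Nat.card H * H.index = 244823040 := by rw [Subgroup.card_mul_index, natCard_M24]
  rw [hi] at hmul
  have hcard : Nat.card H = 887040 := by omega
  have hle24 : ∀ S : Finset GolayPt, S.card ≤ 24 := fun S => card_golayPt ▸ Finset.card_le_univ S
  by_cases hex : ∃ S : Finset GolayPt, (∀ g ∈ H, ∀ y ∈ S, g • y ∈ S) ∧ (S.card = 2 ∨ S.card = 22)
  · obtain ⟨S, hinv, hc⟩ := hex
    obtain ⟨s, hs2, hsinv⟩ : ∃ s : Finset GolayPt, s.card = 2 ∧ ∀ g ∈ H, ∀ y ∈ s, g • y ∈ s := by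
      rcases hc with hc | hc
      · exact ⟨S, hc, hinv⟩
      · refine ⟨Sᶜ, by rw [Finset.card_compl, card_golayPt, hc], fun g hg y hy => ?_⟩
        rw [Finset.mem_compl] at hy ⊢
        intro h
        have := hinv g⁻¹ (inv_mem hg) _ h
        rw [inv_smul_smul] at this
        exact hy this
    refine ⟨s, hs2, Subgroup.eq_of_le_of_card_ge (fun g hg => ?_)
      (by rw [natCard_stab_pairSet hs2, hcard])⟩
    refine Finset.eq_of_subset_of_card_le (fun y hy => ?_) (by rw [Finset.card_smul_finset])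
    obtain ⟨x, hx, rfl⟩ := Finset.mem_smul_finset.mp hy
    exact hsinv g hg x hx
  exfalso
  push_neg at hex
  have hsz : ∀ S : Finset GolayPt, (∀ g ∈ H, ∀ y ∈ S, g • y ∈ S) →
      S.card ∣ Nat.card H → S.card = 1 ∨ S.card = 24 := by
    intro S hinv hd
    obtain ⟨h1, h2⟩ := invariant_sizes (K := H) (by rw [hcard]; norm_num) (by rw [hcard]; norm_num)
      S hinv
    have h3 := hex S hinv
    have h4 := hle24 S
    rw [hcard] at hd
    by_cases h23 : S.card = 23
    · rw [h23] at hd; norm_num at hd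
    by_cases h0 : S.card = 0
    · rw [h0] at hd; norm_num at hd
    omega
  have htr : ∀ x y : GolayPt, ∃ g ∈ H, g • x = y := by
    have h11 : 11 ∣ Nat.card H := by rw [hcard]; norm_num
    haveI : Fact (Nat.Prime 11) := ⟨by norm_num⟩
    obtain ⟨σ, hσ⟩ := exists_prime_orderOf_dvd_card' 11 h11
    have ho : orderOf σ.1 = 11 := by rw [Subgroup.orderOf_coe]; exact hσ
    obtain ⟨x0, hx0⟩ : ∃ x, x ∉ fixSet σ.1 := by
      by_contra h
      push_neg at h
      have := card_fixSet (by norm_num) (by norm_num) ho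
      rw [Finset.eq_univ_iff_forall.mpr h, Finset.card_univ, card_golayPt] at this
      norm_num at this
    obtain ⟨S, hq, hinv, -, horb, hd⟩ := exists_orbit H x0
    have hne1 : S.card ≠ 1 := by
      intro h1
      obtain ⟨w, hw⟩ := Finset.card_eq_one.mp h1
      have e := hinv σ.1 σ.2 x0 hq
      rw [hw, Finset.mem_singleton] at e hq
      exact hx0 (mem_fixSet.mpr (e.trans hq.symm))
    have h24 : S.card = 24 := (hsz S hinv hd).resolve_left hne1
    have hu : S = Finset.univ := Finset.eq_univ_of_card S (by rw [h24, card_golayPt])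
    intro x y
    obtain ⟨a, ha, ea⟩ := horb x (hu ▸ Finset.mem_univ x)
    obtain ⟨b, hb, eb⟩ := horb y (hu ▸ Finset.mem_univ y)
    exact ⟨b * a⁻¹, mul_mem hb (inv_mem ha), by rw [mul_smul, ← ea, inv_smul_smul, eb]⟩
  have hK : ∀ x : GolayPt, Nat.card ↥(H ⊓ MulAction.stabilizer M24 x) = 36960 := by
    intro x
    have h := natCard_inf_stabilizer H x Set.univ fun y => by simpa using htr x y
    rw [Set.ncard_univ, Nat.card_eq_fintype_card (α := GolayPt), card_golayPt, hcard] at h
    omega
  -- every point has a unique partner fixed by its stabiliser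
  have hpart : ∀ x : GolayPt, ∃ y, y ≠ x ∧ ∀ z, z ≠ x →
      ((∀ g ∈ H, g • x = x → g • z = z) ↔ z = y) := by
    intro x
    set K := H ⊓ MulAction.stabilizer M24 x with hKdef
    have hKcard : Nat.card K = 36960 := hK x
    haveI : Fact (Nat.Prime 11) := ⟨by norm_num⟩
    obtain ⟨σ, hσ⟩ := exists_prime_orderOf_dvd_card' (G := K) 11 (by rw [hKcard]; norm_num)
    have ho : orderOf σ.1 = 11 := by rw [Subgroup.orderOf_coe]; exact hσ
    obtain ⟨q, hq⟩ : ∃ q, q ∉ fixSet σ.1 := by
      by_contra h
      push_neg at h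
      have := card_fixSet (by norm_num) (by norm_num) ho
      rw [Finset.eq_univ_iff_forall.mpr h, Finset.card_univ, card_golayPt] at this
      norm_num at this
    obtain ⟨S, hqS, hinv, hinv', horb, hd⟩ := exists_orbit K q
    have hxS : x ∉ S := by
      intro h
      obtain ⟨g, hg, e⟩ := horb x h
      have : q = x := MulAction.injective g (e.trans hg.2.symm)
      exact hq (this ▸ mem_fixSet.mpr σ.2.2)
    obtain ⟨h1, h2⟩ := invariant_sizes (K := K) (by rw [hKcard]; norm_num) (by rw [hKcard]; norm_num)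
      S hinv
    have hle : S.card ≤ 23 := by
      have : S ⊆ ({x} : Finset GolayPt)ᶜ := fun y hy => by
        rw [Finset.mem_compl, Finset.mem_singleton]; rintro rfl; exact hxS hy
      refine (Finset.card_le_card this).trans (le_of_eq ?_)
      rw [Finset.card_compl, card_golayPt, Finset.card_singleton]
    have h3 : 3 ≤ S.card := by
      by_contra hlt
      have hmod := card_modEq_fix (by norm_num) ho S (fun y hy => hinv σ.1 σ.2 y hy)
      have hle2 : (S ∩ fixSet σ.1).card ≤ S.card := Finset.card_le_card Finset.inter_subset_left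
      unfold Nat.ModEq at hmod
      rw [Nat.mod_eq_of_lt (by omega), Nat.mod_eq_of_lt (by omega)] at hmod
      have : S ⊆ fixSet σ.1 := Finset.inter_eq_left.mp
        (Finset.eq_of_subset_of_card_le Finset.inter_subset_left hmod.le)
      exact hq (this hqS)
    have h22 : S.card = 22 := by
      by_cases h23 : S.card = 23
      · rw [h23, hKcard] at hd; norm_num at hd
      omega
    obtain ⟨y, hy⟩ : ∃ y, (Finset.univ \ insert x S) = {y} := Finset.card_eq_one.mp (by
      rw [Finset.card_sdiff_of_subset (Finset.subset_univ _), Finset.card_insert_of_notMem hxS, h22,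
        Finset.card_univ, card_golayPt])
    have hym : y ∉ insert x S :=
      (Finset.mem_sdiff.mp (hy.symm.subset (Finset.mem_singleton_self y))).2
    refine ⟨y, fun e => hym (Finset.mem_insert.mpr (Or.inl e)), fun z hz => ⟨fun hfix => ?_, ?_⟩⟩
    · by_contra hzy
      have hzS : z ∈ S := by
        by_contra hns
        have : z ∈ Finset.univ \ insert x S :=
          Finset.mem_sdiff.mpr ⟨Finset.mem_univ _, by simp [hz, hns]⟩
        rw [hy, Finset.mem_singleton] at this
        exact hzy this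
      obtain ⟨g, hg, e⟩ := horb z hzS
      have hq' : q = z := by
        have h := hfix g⁻¹ (inv_mem hg.1) (by rw [inv_smul_eq_iff]; exact hg.2.symm)
        rw [← e, inv_smul_smul] at h
        exact h.trans e
      exact hq (mem_fixSet.mpr (hq' ▸ hfix σ.1 σ.2.1 σ.2.2))
    · rintro rfl g hg hgx
      have : g • z ∈ Finset.univ \ insert x S := by
        refine Finset.mem_sdiff.mpr ⟨Finset.mem_univ _, fun h => ?_⟩
        rcases Finset.mem_insert.mp h with h | h
        · exact hym (Finset.mem_insert.mpr (Or.inl (MulAction.injective g (h.trans hgx.symm))))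
        · exact hym (Finset.mem_insert.mpr (Or.inr (hinv' g ⟨hg, hgx⟩ z h)))
      rw [hy, Finset.mem_singleton] at this
      exact this
  choose p hpne hp using hpart
  have hpp : ∀ x, p (p x) = x := by
    intro x
    have hle : H ⊓ MulAction.stabilizer M24 x ≤ H ⊓ MulAction.stabilizer M24 (p x) :=
      fun g hg => ⟨hg.1, (hp x (p x) (hpne x)).mpr rfl g hg.1 hg.2⟩
    have heq := Subgroup.eq_of_le_of_card_ge hle (by rw [hK, hK])
    refine ((hp (p x) x (hpne x).symm).mp fun g hg hgp => ?_).symm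
    exact ((heq.symm ▸ (⟨hg, hgp⟩ : g ∈ H ⊓ MulAction.stabilizer M24 (p x))) :
      g ∈ H ⊓ MulAction.stabilizer M24 x).2
  haveI : Fact (Nat.Prime 7) := ⟨by norm_num⟩
  obtain ⟨σ, hσ⟩ := exists_prime_orderOf_dvd_card' (G := H) 7 (by rw [hcard]; norm_num)
  have ho : orderOf σ.1 = 7 := by rw [Subgroup.orderOf_coe]; exact hσ
  have h3 := card_fixSet (by norm_num) (by norm_num) ho
  norm_num at h3
  have hclosed : ∀ x ∈ fixSet σ.1, p x ∈ fixSet σ.1 := fun x hx =>
    mem_fixSet.mpr ((hp x (p x) (hpne x)).mpr rfl σ.1 σ.2 (mem_fixSet.mp hx))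
  obtain ⟨x, hx⟩ := Finset.card_pos.mp (show 0 < (fixSet σ.1).card by omega)
  obtain ⟨r, hr, hr'⟩ := Finset.exists_mem_notMem_of_card_lt_card
    (s := ({x, p x} : Finset GolayPt)) (t := fixSet σ.1)
    (lt_of_le_of_lt Finset.card_le_two (by omega))
  simp only [Finset.mem_insert, Finset.mem_singleton, not_or] at hr'
  have hsub : ({x, p x, r, p r} : Finset GolayPt) ⊆ fixSet σ.1 := by
    intro y hy
    simp only [Finset.mem_insert, Finset.mem_singleton] at hy
    rcases hy with rfl | rfl | rfl | rfl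
    exacts [hx, hclosed _ hx, hr, hclosed _ hr]
  have h4 : ({x, p x, r, p r} : Finset GolayPt).card = 4 := by
    have n1 : x ≠ p x := (hpne x).symm
    have n2 : r ≠ p r := (hpne r).symm
    have n3 : x ≠ p r := fun e => hr'.2 (by rw [e, hpp])
    have n4 : p x ≠ p r := fun e => hr'.1 (by rw [← hpp r, ← e, hpp])
    rw [Finset.card_insert_of_notMem (by simp [n1, Ne.symm hr'.1, n3]),
      Finset.card_insert_of_notMem (by simp [Ne.symm hr'.2, n4]), Finset.card_pair n2]
  have := Finset.card_le_card hsub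
  omega

end H90
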