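import Cfsg.Agent.H90.Orbits
import Cfsg.Agent.H90.DataInvolutions

/-!
The two classes of involutions of `Cfsg.M24`.
-/

set_option autoImplicit false

namespace H90

open Cfsg

theorem exists_M24_repr {p : ℕ} (h : isPerm p = true) (h' : preservesCode p = true) :
    ∃ σ ∈ M24, Repr σ p := by
  obtain ⟨σ, hσ⟩ := exists_repr h
  exact ⟨σ, (mem_M24_iff_preservesCode hσ).mpr h', hσ⟩

theorem isPerm_invs : (isPerm invAN && preservesCode invAN && isPerm invBN && preservesCode invBN) = true := by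
  decide +kernel

theorem conjList_valid : invConjList.all (fun c => isPerm c && preservesCode c) = true := by
  decide +kernel

theorem pairSwap_valid : ((List.range 20).all fun j =>
    let t := pairSwapList.getD j idN
    isPerm t && preservesCode t && Nat.beq (img t 0) 1 && Nat.beq (img t 1) 0 &&
      Nat.beq (img t 2) 3 && Nat.beq (img t 3) 2 && Nat.beq (img t 4) (j + 4)) = true := by
  decide +kernel

theorem pairSwap_cover : ((List.range 20).all fun j => stab5List.all fun s =>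
    let g := compN (pairSwapList.getD j idN) s
    !((List.range 24).all fun i => Nat.beq (img g (img g i)) i) || invConjList.any fun c =>
      Nat.beq (compN c invAN) (compN g c) || Nat.beq (compN c invBN) (compN g c)) = true := by
  decide +kernel

/-- An involution of the code group exchanges two disjoint pairs. -/
theorem exists_two_swaps {g : Equiv.Perm GolayPt} (hg : g ∈ M24) (h2 : g * g = 1) (h1 : g ≠ 1) :
    ∃ a b c d, a ≠ b ∧ c ≠ d ∧ a ≠ c ∧ a ≠ d ∧ b ≠ c ∧ b ≠ d ∧ g a = b ∧ g b = a ∧ g c = d ∧ g d = c := by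
  have hinv : ∀ x, g (g x) = x := fun x => by
    rw [← Equiv.Perm.mul_apply, h2, Equiv.Perm.one_apply]
  obtain ⟨a, ha⟩ : ∃ a, g a ≠ a := by
    by_contra h
    exact h1 (Equiv.ext fun x => not_not.mp fun hx => h ⟨x, hx⟩)
  obtain ⟨c, hc, hca, hcb⟩ : ∃ c, g c ≠ c ∧ c ≠ a ∧ c ≠ g a := by
    by_contra h
    have hfix : ∀ x, x ≠ a → x ≠ g a → g x = x := fun x hxa hxb =>
      not_not.mp fun hx => h ⟨x, hx, hxa, hxb⟩
    obtain ⟨σ, hσ, hσa, hσb⟩ := exists_move2 (Ne.symm ha)
      (show pt 6 ≠ pt 8 by decide +kernel)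
    have hone : σ * g * σ⁻¹ = 1 := by
      refine rigid7 (mul_mem (mul_mem hσ hg) (inv_mem hσ)) fun x hx => ?_
      have hx6 : x ≠ pt 6 := by rintro rfl; revert hx; decide +kernel
      have hx8 : x ≠ pt 8 := by rintro rfl; revert hx; decide +kernel
      rw [Equiv.Perm.mul_apply, Equiv.Perm.mul_apply, hfix (σ⁻¹ x)
        (fun e => hx6 (by rw [← hσa, ← e]; simp)) (fun e => hx8 (by rw [← hσb, ← e]; simp))]
      simp
    exact h1 (conj_eq_one_iff.mp hone)
  refine ⟨a, g a, c, g c, ha.symm, hc.symm, hca.symm, ?_, hcb.symm, ?_, rfl, hinv a, rfl, hinv c⟩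
  · intro e; exact hcb (by rw [e, hinv])
  · intro e; exact hca (g.injective e).symm

/-- Every involution is conjugate to one of the two representatives. -/
theorem involution_conj {g : Equiv.Perm GolayPt} (hg : g ∈ M24) (h2 : orderOf g = 2) :
    ∃ k ∈ M24, ∃ ρ ∈ M24, (Repr ρ invAN ∨ Repr ρ invBN) ∧ k * ρ * k⁻¹ = g := by
  have hgg : g * g = 1 := by rw [← pow_two, ← h2, pow_orderOf_eq_one]
  have hg1 : g ≠ 1 := fun e => by rw [e, orderOf_one] at h2; omega
  obtain ⟨a, b, c, d, hab, hcd, hac, had, hbc, hbd, gab, gba, gcd, gdc⟩ := exists_two_swaps hg hgg hg1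
  obtain ⟨σ, hσ, hmv⟩ := exists_move (k := 4) (by omega)
    ⟨![a, b, c, d], by
      intro i j
      fin_cases i <;> fin_cases j <;>
        simp [hab, hcd, hac, had, hbc, hbd, hab.symm, hcd.symm, hac.symm, had.symm, hbc.symm, hbd.symm]⟩
    ⟨![pt 0, pt 1, pt 2, pt 3], by decide +kernel⟩
  have ha : σ a = pt 0 := hmv 0
  have hb : σ b = pt 1 := hmv 1
  have hc : σ c = pt 2 := hmv 2
  have hd : σ d = pt 3 := hmv 3
  set g' := σ * g * σ⁻¹ with hg'def
  have hg' : g' ∈ M24 := mul_mem (mul_mem hσ hg) (inv_mem hσ)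
  have happ : ∀ x, g' (σ x) = σ (g x) := fun x => by simp [hg'def]
  have e0 : g' (pt 0) = pt 1 := by rw [← ha, happ, gab, hb]
  have e1 : g' (pt 1) = pt 0 := by rw [← hb, happ, gba, ha]
  have e2 : g' (pt 2) = pt 3 := by rw [← hc, happ, gcd, hd]
  have e3 : g' (pt 3) = pt 2 := by rw [← hd, happ, gdc, hc]
  have hj : 4 ≤ (idx (g' (pt 4))).val := by
    by_contra h
    have : g' (pt 4) = g' (pt 0) ∨ g' (pt 4) = g' (pt 1) ∨ g' (pt 4) = g' (pt 2) ∨
        g' (pt 4) = g' (pt 3) := by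
      rw [e0, e1, e2, e3]
      have hx := pt_idx (g' (pt 4))
      interval_cases hv : (idx (g' (pt 4))).val
      · exact Or.inr (Or.inl (by rw [← hx]; exact congrArg pt (Fin.ext hv)))
      · exact Or.inl (by rw [← hx]; exact congrArg pt (Fin.ext hv))
      · exact Or.inr (Or.inr (Or.inr (by rw [← hx]; exact congrArg pt (Fin.ext hv))))
      · exact Or.inr (Or.inr (Or.inl (by rw [← hx]; exact congrArg pt (Fin.ext hv))))
    rcases this with h | h | h | h <;> exact absurd (g'.injective h) (by decide +kernel)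
  set j := (idx (g' (pt 4))).val - 4 with hjdef
  have hj20 : j < 20 := by have := (idx (g' (pt 4))).isLt; omega
  have hv := List.all_eq_true.mp pairSwap_valid j (List.mem_range.mpr hj20)
  simp only [Bool.and_eq_true] at hv
  obtain ⟨⟨⟨⟨⟨⟨hp, hm⟩, h0⟩, h1'⟩, h2'⟩, h3⟩, h4⟩ := hv
  set t := pairSwapList.getD j idN
  obtain ⟨τ, hτ, hτr⟩ := exists_M24_repr hp hm
  have hfix : ∀ i, (τ⁻¹ * g') (base5 i) = base5 i := by
    intro i
    rw [Equiv.Perm.mul_apply, Equiv.Perm.inv_eq_iff_eq]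
    apply idx_injective
    apply Fin.ext
    rw [base5_apply, hτr]
    fin_cases i
    · show (idx (g' (pt 0))).val = img t 0
      rw [e0, idx_pt, Nat.eq_of_beq_eq_true h0]; rfl
    · show (idx (g' (pt 1))).val = img t 1
      rw [e1, idx_pt, Nat.eq_of_beq_eq_true h1']; rfl
    · show (idx (g' (pt 2))).val = img t 2
      rw [e2, idx_pt, Nat.eq_of_beq_eq_true h2']; rfl
    · show (idx (g' (pt 3))).val = img t 3
      rw [e3, idx_pt, Nat.eq_of_beq_eq_true h3]; rfl
    · show (idx (g' (pt 4))).val = img t 4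
      rw [Nat.eq_of_beq_eq_true h4]; omega
  obtain ⟨s, hs, hsr⟩ := mem_stab5List_of_fixes (mul_mem (inv_mem hτ) hg') hfix
  have hgr : Repr g' (compN t s) := by simpa using hτr.mul hsr
  have hgg' : ((List.range 24).all fun i =>
      Nat.beq (img (compN t s) (img (compN t s) i)) i) = true := by
    refine List.all_eq_true.mpr fun i hi => ?_
    obtain ⟨i, rfl⟩ : ∃ j : Fin 24, j.val = i := ⟨⟨i, List.mem_range.mp hi⟩, rfl⟩
    have hsq : g' * g' = 1 := by
      rw [hg'def, show σ * g * σ⁻¹ * (σ * g * σ⁻¹) = σ * (g * g) * σ⁻¹ by group, hgg]; group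
    rw [Nat.beq_eq, ← hgr i, ← hgr, pt_idx, ← Equiv.Perm.mul_apply, hsq, Equiv.Perm.one_apply, idx_pt]
  have hc' := List.all_eq_true.mp (List.all_eq_true.mp pairSwap_cover j (List.mem_range.mpr hj20)) s hs
  dsimp only at hc'
  erw [hgg'] at hc'
  simp only [Bool.not_true, Bool.false_or, List.any_eq_true, Bool.or_eq_true] at hc'
  obtain ⟨cc, hcc, hcc'⟩ := hc'
  have hcv := List.all_eq_true.mp conjList_valid cc hcc
  rw [Bool.and_eq_true] at hcv
  obtain ⟨κ, hκ, hκr⟩ := exists_M24_repr hcv.1 hcv.2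
  have hi := isPerm_invs
  simp only [Bool.and_eq_true] at hi
  rcases hcc' with hcc' | hcc'
  · obtain ⟨ρ, hρ, hρr⟩ := exists_M24_repr hi.1.1.1 hi.1.1.2
    refine ⟨σ⁻¹ * κ, mul_mem (inv_mem hσ) hκ, ρ, hρ, Or.inl hρr, ?_⟩
    have : κ * ρ = g' * κ :=
      (hκr.mul hρr).unique (Nat.eq_of_beq_eq_true hcc' ▸ hgr.mul hκr)
    rw [show σ⁻¹ * κ * ρ * (σ⁻¹ * κ)⁻¹ = σ⁻¹ * (κ * ρ) * κ⁻¹ * σ by group, this, hg'def]
    group
  · obtain ⟨ρ, hρ, hρr⟩ := exists_M24_repr hi.1.2 hi.2
    refine ⟨σ⁻¹ * κ, mul_mem (inv_mem hσ) hκ, ρ, hρ, Or.inr hρr, ?_⟩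
    have : κ * ρ = g' * κ :=
      (hκr.mul hρr).unique (Nat.eq_of_beq_eq_true hcc' ▸ hgr.mul hκr)
    rw [show σ⁻¹ * κ * ρ * (σ⁻¹ * κ)⁻¹ = σ⁻¹ * (κ * ρ) * κ⁻¹ * σ by group, this, hg'def]
    group

/-- The fixed point mask of the representative fixing an octad. -/
def invAFix : ℕ := 3421328

theorem invA_fixed {ρ : Equiv.Perm GolayPt} (h : Repr ρ invAN) :
    (Finset.univ.filter fun p => ρ p = p) = setOf' invAFix := by
  have hb : ((List.range 24).all fun i => Nat.beq (img invAN i) i == invAFix.testBit i) = true := by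
    decide +kernel
  ext p
  have := beq_iff_eq.mp (List.all_eq_true.mp hb (idx p).val (List.mem_range.mpr (idx p).isLt))
  rw [Finset.mem_filter, mem_setOf', ← this, Nat.beq_eq, ← h.apply p]
  simp only [Finset.mem_univ, true_and]
  exact ⟨fun e => by rw [e], fun e => idx_injective (Fin.ext e)⟩

theorem invA_fixed_mem : setOf' invAFix ∈ octads := by
  have h : invAFix = encode (invAFix % 4096) := by decide +kernel
  rw [h]
  exact octad_of_code (Nat.mod_lt _ (by norm_num)) (by decide +kernel)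

theorem invB_fixed {ρ : Equiv.Perm GolayPt} (h : Repr ρ invBN) (p : GolayPt) : ρ p ≠ p := by
  have hb : ((List.range 24).all fun i => !(Nat.beq (img invBN i) i)) = true := by decide +kernel
  intro e
  have := List.all_eq_true.mp hb (idx p).val (List.mem_range.mpr (idx p).isLt)
  rw [← h.apply p, e] at this
  simp at this

theorem fixed_conj {α : Type*} [Fintype α] [DecidableEq α] (k ρ : Equiv.Perm α) :
    (Finset.univ.filter fun p => (k * ρ * k⁻¹) p = p) =
      (Finset.univ.filter fun p => ρ p = p).image k := by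
  ext p
  rw [Finset.mem_filter, Finset.mem_image]
  constructor
  · rintro ⟨-, h⟩
    refine ⟨k⁻¹ p, Finset.mem_filter.mpr ⟨Finset.mem_univ _, k.injective ?_⟩, by simp⟩
    rw [Equiv.Perm.mul_apply, Equiv.Perm.mul_apply] at h
    simpa using h
  · rintro ⟨q, hq, rfl⟩
    exact ⟨Finset.mem_univ _, by simp [(Finset.mem_filter.mp hq).2]⟩

/-- The class of an involution is determined by whether it fixes a point. -/
theorem involution_class {g : Equiv.Perm GolayPt} (hg : g ∈ M24) (h2 : orderOf g = 2) :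
    ∃ k ∈ M24, ∃ ρ ∈ M24, k * ρ * k⁻¹ = g ∧
      ((Repr ρ invAN ∧ (Finset.univ.filter fun p => g p = p) ∈ octads) ∨
        (Repr ρ invBN ∧ ∀ p, g p ≠ p)) := by
  obtain ⟨k, hk, ρ, hρ, hr, he⟩ := involution_conj hg h2
  refine ⟨k, hk, ρ, hρ, he, ?_⟩
  rcases hr with hr | hr
  · refine Or.inl ⟨hr, ?_⟩
    rw [← he, fixed_conj, invA_fixed hr]
    exact image_mem_wordsOfWeight hk invA_fixed_mem
  · refine Or.inr ⟨hr, fun p e => ?_⟩
    have : p ∈ (Finset.univ.filter fun p => g p = p) := by simp [e]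
    rw [← he, fixed_conj, Finset.mem_image] at this
    obtain ⟨q, hq, -⟩ := this
    exact invB_fixed hr q (Finset.mem_filter.mp hq).2

theorem octad_fixed_not_free {g : Equiv.Perm GolayPt}
    (h : (Finset.univ.filter fun p => g p = p) ∈ octads) : ¬ ∀ p, g p ≠ p := by
  intro hfree
  have := h.2
  rw [Finset.filter_false_of_mem fun p _ => hfree p] at this
  simp at this

end H90
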