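import Cfsg.Agent.H90.SteinerCode
import Cfsg.Agent.H90.Simple
import Cfsg.Prelude.Def_Sporadic

/-! The automorphism group of an S(5,8,24). -/

set_option autoImplicit false
set_option linter.unusedSectionVars false

namespace H90

open Cfsg MulAction
open scoped Pointwise

variable {α β : Type*} [Fintype α] [DecidableEq α] [Fintype β] [DecidableEq β]

theorem mem_setSystemAut_iff {B : Set (Finset α)} {σ : Equiv.Perm α} :
    σ ∈ setSystemAut B ↔ (fun b => b.image σ) '' B = B := Iff.rfl

theorem mem_setSystemAut_permCongr {B : Set (Finset α)} {D : Set (Finset β)} (e : α ≃ β)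
    (h : (fun b => b.image e) '' B = D) (σ : Equiv.Perm α) :
    σ ∈ setSystemAut B ↔ e.permCongr σ ∈ setSystemAut D := by
  rw [mem_setSystemAut_iff, mem_setSystemAut_iff]
  subst h
  have hinj : Function.Injective (fun S : Set (Finset α) => (fun b => b.image e) '' S) :=
    Set.image_injective.mpr (Finset.image_injective e.injective)
  rw [← hinj.eq_iff]
  simp only [Set.image_image, Finset.image_image, Function.comp_def, Equiv.permCongr_apply,
    Equiv.symm_apply_apply]

/-- An isomorphism of set systems induces one of automorphism groups. -/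
def setSystemAutEquiv {B : Set (Finset α)} {D : Set (Finset β)} (e : α ≃ β)
    (h : (fun b => b.image e) '' B = D) : setSystemAut B ≃* setSystemAut D where
  toFun σ := ⟨e.permCongr σ.1, (mem_setSystemAut_permCongr e h _).mp σ.2⟩
  invFun τ := ⟨e.symm.permCongr τ.1, (mem_setSystemAut_permCongr e h _).mpr (by
    have : e.permCongr (e.symm.permCongr τ.1) = τ.1 := by ext x; simp
    rw [this]; exact τ.2)⟩
  left_inv σ := Subtype.ext (by ext x; simp)
  right_inv τ := Subtype.ext (by ext x; simp)
  map_mul' σ τ := Subtype.ext (by ext x; simp)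

theorem s24_aut {B : Set (Finset α)} (hα : Fintype.card α = 24) (hB : IsSteinerSystem 5 8 B) :
    IsSimpleGroup (setSystemAut B) ∧ Nat.card (setSystemAut B) = 244823040 ∧
      IsMultiplyPretransitive (setSystemAut B) α 5 := by
  obtain ⟨e, he⟩ := s24_iso hα hB
  let F : M24 ≃* setSystemAut B :=
    (MulEquiv.subgroupCongr M24_eq_setSystemAut_octads).trans (setSystemAutEquiv e he).symm
  haveI := M24_simple
  refine ⟨isSimpleGroup_of_mulEquiv F, ?_, ?_⟩
  · rw [← Nat.card_congr F.toEquiv, natCard_M24]
  · constructor
    intro x y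
    obtain ⟨σ, hσ, h⟩ := exists_move5 (x.trans e.toEmbedding) (y.trans e.toEmbedding)
    refine ⟨⟨e.symm.permCongr σ, ?_⟩, DFunLike.ext _ _ fun i => ?_⟩
    · rw [mem_setSystemAut_permCongr e he]
      have : e.permCongr (e.symm.permCongr σ) = σ := by ext z; simp
      rw [this, ← M24_eq_setSystemAut_octads]
      exact hσ
    · show e.symm (σ (e (x i))) = y i
      rw [show σ (e (x i)) = e (y i) from h i, Equiv.symm_apply_apply]

end H90
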