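import Cfsg.Agent.H90.Search12
import Cfsg.Agent.H91.SharpTrans
import Cfsg.Prelude.Def_Sporadic

/-! Uniqueness and automorphism group of S(5,6,12) and S(4,5,11). -/

set_option autoImplicit false
set_option linter.unusedSectionVars false
set_option linter.style.haveILetI false

namespace H90

open Finset Cfsg MulAction
open scoped Pointwise

/-- The reference S(5,6,12). -/
def model12 : Set (Finset (Fin 12)) := {b | model12Bits.testBit (mask12 b) = true}

theorem set12_pm12 {σ : Equiv.Perm (Fin 12)} {p : ℕ} (h : ∀ i : Fin 12, (σ i).val = img p i.val)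
    (m : ℕ) : set12 (pm12 p m) = (set12 m).image σ := by
  ext x
  simp only [mem_set12, Finset.mem_image, pm12, testBit_permMaskAux]
  constructor
  · rintro ⟨i, hi, hb, he⟩
    exact ⟨⟨i, hi⟩, hb, Fin.ext ((h ⟨i, hi⟩).trans he)⟩
  · rintro ⟨y, hy, rfl⟩
    exact ⟨y.val, y.isLt, hy, (h y).symm⟩

theorem pm12_lt {σ : Equiv.Perm (Fin 12)} {p : ℕ} (h : ∀ i : Fin 12, (σ i).val = img p i.val)
    (m : ℕ) : pm12 p m < 4096 := by
  by_contra hge
  obtain ⟨j, hj, hb⟩ := Nat.exists_ge_and_testBit_of_ge_two_pow (n := 12) (Nat.le_of_not_lt hge)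
  obtain ⟨i, hi, -, he⟩ := (testBit_permMaskAux p m j 12).mp hb
  have h1 := h ⟨i, hi⟩
  have h2 := (σ ⟨i, hi⟩).isLt
  simp only at h1
  omega

theorem testBit_imageBits (p x : ℕ) : ∀ ch : List ℕ,
    (imageBits p ch).testBit x = true ↔ ∃ d ∈ ch, pm12 p d = x := by
  intro ch
  induction ch with
  | nil => simp [imageBits]
  | cons d ds ih =>
    rw [imageBits, Nat.testBit_or, Bool.or_eq_true, ih, Nat.testBit_two_pow, decide_eq_true_eq]
    simp

theorem exists_perm12 {p : ℕ} (h : isPerm12 p = true) :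
    ∃ σ : Equiv.Perm (Fin 12), (∀ i : Fin 12, (σ i).val = img p i.val) ∧
      ∀ i : Fin 12, 9 ≤ i.val → σ i = i := by
  obtain ⟨h1, h2, h3⟩ := of_decide_eq_true h
  let f : Fin 12 → Fin 12 := fun i => ⟨img p i.val, h1 i⟩
  have hf : Function.Bijective f :=
    Finite.injective_iff_bijective.mp fun i j e => h2 i j (congrArg Fin.val e)
  exact ⟨Equiv.ofBijective f hf, fun i => rfl, fun i hi => Fin.ext (h3 i hi)⟩

theorem model12_lt : ∀ m, model12Bits.testBit m = true → m < 4096 := by
  intro m hm
  by_contra h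
  have : model12Bits < 2 ^ 4096 := by decide +kernel
  rw [Nat.testBit_lt_two_pow (lt_of_lt_of_le this (Nat.pow_le_pow_right (by norm_num) (Nat.le_of_not_lt h)))] at hm
  simp at hm

variable {α β : Type*} [Fintype α] [DecidableEq α] [Fintype β] [DecidableEq β]

theorem exists_notMem_list (l : List α) (h : l.length < Fintype.card α) : ∃ w, w ∉ l := by
  obtain ⟨w, -, hw⟩ := Finset.exists_mem_notMem_of_card_lt_card (s := l.toFinset) (t := univ)
    (lt_of_le_of_lt l.toFinset_card_le (by rwa [card_univ]))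
  exact ⟨w, fun h => hw (List.mem_toFinset.mpr h)⟩

theorem steiner_transport {t k : ℕ} {B : Set (Finset α)} (hB : IsSteinerSystem t k B) (e : α ≃ β) :
    IsSteinerSystem t k ((fun b => b.image e) '' B) := by
  refine ⟨?_, fun s hs => ?_⟩
  · rintro _ ⟨b, hb, rfl⟩
    rw [card_image_of_injective _ e.injective, hB.1 b hb]
  · have hss : (s.image e.symm).image e = s := by simp [image_image]
    obtain ⟨b, ⟨hb, hsb⟩, hu⟩ := hB.2 (s.image e.symm)
      (by rw [card_image_of_injective _ e.symm.injective, hs])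
    refine ⟨b.image e, ⟨⟨b, hb, rfl⟩, hss ▸ image_subset_image hsb⟩, ?_⟩
    rintro _ ⟨⟨c, hc, rfl⟩, hsc⟩
    rw [hu c ⟨hc, ?_⟩]
    refine (image_subset_image hsc).trans ?_
    simp [image_image]

theorem blockMasks_of_steiner {B : Set (Finset (Fin 12))} (hB : IsSteinerSystem 5 6 B) :
    BlockMasks {m | m < 4096 ∧ set12 m ∈ B} := by
  refine ⟨fun d hd => ⟨hd.1, by rw [← card_set12, hB.1 _ hd.2]⟩, fun r hr h5 => ?_, fun d hd => ?_⟩
  · obtain ⟨b, ⟨hb, hsb⟩, hu⟩ := hB.2 (set12 r) (by rw [card_set12, h5])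
    refine ⟨mask12 b, ⟨⟨mask12_lt b, by rw [set12_mask12]; exact hb⟩,
      (set12_subset_iff hr).mp (by rw [set12_mask12]; exact hsb)⟩, ?_⟩
    rintro d ⟨⟨hd, hdB⟩, hrd⟩
    rw [← hu _ ⟨hdB, (set12_subset_iff hr).mpr hrd⟩, mask12_set12 hd]
  · refine ⟨Nat.xor_lt_two_pow (n := 12) (by norm_num) hd.1, ?_⟩
    rw [set12_compl]
    exact s12_compl (by simp) hB hd.2

/-- A system with the five seeds is the reference one, by a relabelling fixing 9, 10, 11. -/
theorem s12_core {B : Set (Finset (Fin 12))} (hB : IsSteinerSystem 5 6 B)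
    (hseed : ∀ d ∈ seeds12, set12 d ∈ B) :
    ∃ σ : Equiv.Perm (Fin 12), (∀ i : Fin 12, 9 ≤ i.val → σ i = i) ∧
      (fun b => b.image σ) '' B = model12 := by
  have hlt : ∀ d ∈ seeds12, d < 4096 := by decide
  obtain ⟨ch, hch, hleaf⟩ := blockMasks_leaf (blockMasks_of_steiner hB)
    (fun d hd => ⟨hlt d hd, hseed d hd⟩)
  obtain ⟨p, -, hp⟩ := List.any_eq_true.mp hleaf
  rw [Bool.and_eq_true] at hp
  obtain ⟨σ, hσ, hfix⟩ := exists_perm12 hp.1
  have hbits := Nat.eq_of_beq_eq_true hp.2
  refine ⟨σ, hfix, Set.ext fun b => ?_⟩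
  simp only [Set.mem_image, model12, Set.mem_ofPred_eq, ← hbits, testBit_imageBits]
  constructor
  · rintro ⟨c, hc, rfl⟩
    refine ⟨mask12 c, (hch _).mp ⟨mask12_lt c, by rw [set12_mask12]; exact hc⟩, ?_⟩
    refine set12_injOn (pm12_lt hσ _) (mask12_lt _) ?_
    rw [set12_pm12 hσ, set12_mask12, set12_mask12]
  · rintro ⟨d, hd, he⟩
    obtain ⟨hd1, hd2⟩ := (hch d).mpr hd
    exact ⟨set12 d, hd2, by rw [← set12_pm12 hσ, he, set12_mask12]⟩

/-- Any ordered triple of any S(5,6,12) can be sent to the special points of the reference system. -/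
theorem s12_iso {B : Set (Finset α)} (hα : Fintype.card α = 12) (hB : IsSteinerSystem 5 6 B)
    {x y z : α} (hxy : x ≠ y) (hxz : x ≠ z) (hyz : y ≠ z) :
    ∃ e : α ≃ Fin 12, e x = 9 ∧ e y = 10 ∧ e z = 11 ∧ (fun b => b.image e) '' B = model12 := by
  -- lines of the affine plane
  let Ln : α → α → α → Prop := fun p q r =>
    (p ≠ q ∧ p ≠ r ∧ q ≠ r) ∧ (p ≠ x ∧ p ≠ y ∧ p ≠ z) ∧ (q ≠ x ∧ q ≠ y ∧ q ≠ z) ∧
      (r ≠ x ∧ r ≠ y ∧ r ≠ z) ∧ ({p, q, r, x, y, z} : Finset α) ∈ B
  have ex : ∀ p q : α, p ≠ q → (p ≠ x ∧ p ≠ y ∧ p ≠ z) → (q ≠ x ∧ q ≠ y ∧ q ≠ z) →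
      ∃ r, Ln p q r := by
    intro p q hpq hp hq
    obtain ⟨hpx, hpy, hpz⟩ := hp
    obtain ⟨hqx, hqy, hqz⟩ := hq
    have h5 : ({p, q, x, y, z} : Finset α).card = 5 := by
      simp [card_insert_of_notMem, hpq, hpx, hpy, hpz, hqx, hqy, hqz, hxy, hxz, hyz]
    obtain ⟨b, ⟨hb, hsb⟩, -⟩ := hB.2 _ h5
    obtain ⟨r, hr⟩ : ∃ r, b \ {p, q, x, y, z} = {r} := by
      rw [← card_eq_one, card_sdiff_of_subset hsb, hB.1 b hb, h5]
    have hbr : b = ({p, q, r, x, y, z} : Finset α) := by
      rw [← union_sdiff_of_subset hsb, hr]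
      ext w; simp [or_comm, or_left_comm]
    have hrn : r ∉ ({p, q, x, y, z} : Finset α) := by
      have : r ∈ b \ {p, q, x, y, z} := hr ▸ mem_singleton_self r
      exact (mem_sdiff.mp this).2
    simp only [mem_insert, mem_singleton, not_or] at hrn
    exact ⟨r, ⟨hpq, Ne.symm hrn.1, Ne.symm hrn.2.1⟩, ⟨hpx, hpy, hpz⟩, ⟨hqx, hqy, hqz⟩,
      ⟨hrn.2.2.1, hrn.2.2.2.1, hrn.2.2.2.2⟩, hbr ▸ hb⟩
  have s1 : ∀ p q r, Ln p q r → Ln q p r := by
    rintro p q r ⟨⟨a, b, c⟩, hp, hq, hr, h⟩
    refine ⟨⟨a.symm, c, b⟩, hq, hp, hr, ?_⟩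
    rwa [insert_comm q p]
  have s2 : ∀ p q r, Ln p q r → Ln p r q := by
    rintro p q r ⟨⟨a, b, c⟩, hp, hq, hr, h⟩
    refine ⟨⟨b, a, c.symm⟩, hp, hr, hq, ?_⟩
    rwa [insert_comm r q]
  have uq : ∀ p q r r', Ln p q r → Ln p q r' → r = r' := by
    rintro p q r r' ⟨⟨a, b, c⟩, hp, hq, hr, h⟩ ⟨⟨a', b', c'⟩, -, -, hr', h'⟩
    obtain ⟨hpx, hpy, hpz⟩ := hp
    obtain ⟨hqx, hqy, hqz⟩ := hq
    have h5 : ({p, q, x, y, z} : Finset α).card = 5 := by
      simp [card_insert_of_notMem, a, hpx, hpy, hpz, hqx, hqy, hqz, hxy, hxz, hyz]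
    have heq := H94.steiner_unique hB h h' h5 (by intro w; simp only [mem_insert, mem_singleton]; rintro (k | k | k | k | k) <;> simp [k])
      (by intro w; simp only [mem_insert, mem_singleton]; rintro (k | k | k | k | k) <;> simp [k])
    have : r ∈ ({p, q, r', x, y, z} : Finset α) := heq ▸ (by simp)
    simp only [mem_insert, mem_singleton] at this
    obtain ⟨hrx, hry, hrz⟩ := hr
    rcases this with e | e | e | e | e | e
    · exact absurd e.symm b
    · exact absurd e.symm c
    · exact e
    all_goals simp_all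
  -- pick points
  have pick : ∀ l : List α, l.length ≤ 11 → ∃ w, w ∉ l :=
    fun l hl => exists_notMem_list l (by omega)
  obtain ⟨a, ha⟩ := pick [x, y, z] (by simp)
  simp only [List.mem_cons, List.not_mem_nil, or_false, not_or] at ha
  obtain ⟨b, hb⟩ := pick [x, y, z, a] (by simp)
  simp only [List.mem_cons, List.not_mem_nil, or_false, not_or] at hb
  obtain ⟨d, hd⟩ := ex a b (Ne.symm hb.2.2.2) ha ⟨hb.1, hb.2.1, hb.2.2.1⟩
  obtain ⟨c, hc⟩ := pick [x, y, z, a, b, d] (by simp)
  simp only [List.mem_cons, List.not_mem_nil, or_false, not_or] at hc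
  obtain ⟨hcx, hcy, hcz, hca, hcb, hcd⟩ := hc
  obtain ⟨e, he⟩ := ex a c (Ne.symm hca) ha ⟨hcx, hcy, hcz⟩
  obtain ⟨f, hf⟩ := ex b c (Ne.symm hcb) hd.2.2.1 ⟨hcx, hcy, hcz⟩
  have hfa : a ≠ f := fun h => hcd (uq a b d c hd (s1 _ _ _ (s2 _ _ _ (h ▸ hf)))).symm
  obtain ⟨g, hg⟩ := ex a f hfa ha hf.2.2.2.1
  obtain ⟨h, hh⟩ := pick [x, y, z, a, b, c, d, e, f, g] (by simp)
  simp only [List.mem_cons, List.not_mem_nil, or_false, not_or] at hh
  obtain ⟨hhx, hhy, hhz, hha, hhb, hhc, hhd, hhe, hhf, hhg⟩ := hh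
  obtain ⟨i, hi⟩ := ex a h (Ne.symm hha) ha ⟨hhx, hhy, hhz⟩
  have hab := hd.1.1
  have had := hd.1.2.1
  have hbd := hd.1.2.2
  have hae := he.1.2.1
  have hce := he.1.2.2
  have hbf := hf.1.2.1
  have hcf := hf.1.2.2
  have hag := hg.1.2.1
  have hfg := hg.1.2.2
  have hai := hi.1.2.1
  have hhi := hi.1.2.2
  have heb : e ≠ b := fun h => hcd (uq a b d c hd (s2 _ _ _ (h ▸ he))).symm
  have hed : e ≠ d := fun h => hcb (uq a d b c (s2 _ _ _ hd) (s2 _ _ _ (h ▸ he))).symm
  have hfd : f ≠ d := fun h => hca (uq b d a c (s2 _ _ _ (s1 _ _ _ hd)) (s2 _ _ _ (h ▸ hf))).symm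
  have hfe : f ≠ e := fun h => hab
    (uq c e a b (s2 _ _ _ (s1 _ _ _ he)) (s2 _ _ _ (s1 _ _ _ (h ▸ hf))))
  have hgb : g ≠ b := fun h => hfd (uq a b f d (s2 _ _ _ (h ▸ hg)) hd)
  have hgd : g ≠ d := fun h => hbf (uq a d b f (s2 _ _ _ hd) (s2 _ _ _ (h ▸ hg)))
  have hgc : g ≠ c := fun h => hfe (uq a c f e (s2 _ _ _ (h ▸ hg)) he)
  have hge : g ≠ e := fun h => hcf (uq a e c f (s2 _ _ _ he) (s2 _ _ _ (h ▸ hg)))
  have hib : i ≠ b := fun k => hhd (uq a b h d (s2 _ _ _ (k ▸ hi)) hd)
  have hid : i ≠ d := fun k => hhb (uq a d h b (s2 _ _ _ (k ▸ hi)) (s2 _ _ _ hd))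
  have hic : i ≠ c := fun k => hhe (uq a c h e (s2 _ _ _ (k ▸ hi)) he)
  have hie : i ≠ e := fun k => hhc (uq a e h c (s2 _ _ _ (k ▸ hi)) (s2 _ _ _ he))
  have hif : i ≠ f := fun k => hhg (uq a f h g (s2 _ _ _ (k ▸ hi)) hg)
  have hig : i ≠ g := fun k => hhf (uq a g h f (s2 _ _ _ (k ▸ hi)) (s2 _ _ _ hg))
  let ι : Fin 12 → α := ![a, b, d, c, g, h, e, i, f, x, y, z]
  have hnd : [a, b, d, c, g, h, e, i, f, x, y, z].Nodup := by
    obtain ⟨-, -, ⟨bx, bby, bz⟩, ⟨dx, dy, dz⟩, -⟩ := hd
    obtain ⟨-, -, -, ⟨ex', ey, ez⟩, -⟩ := he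
    obtain ⟨-, -, -, ⟨fx, fy, fz⟩, -⟩ := hf
    obtain ⟨-, -, -, ⟨gx, gy, gz⟩, -⟩ := hg
    obtain ⟨-, -, -, ⟨ix, iy, iz⟩, -⟩ := hi
    obtain ⟨ax, ay, az⟩ := ha
    clear ex s1 s2 uq pick hb
    simp only [List.nodup_cons, List.mem_cons, List.not_mem_nil, or_false, not_or, not_false_iff,
      List.nodup_nil, and_true]
    and_intros
    all_goals first | assumption | exact Ne.symm (by assumption)
  have hinj : Function.Injective ι := by
    have hι : List.ofFn ι = [a, b, d, c, g, h, e, i, f, x, y, z] := by simp [ι]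
    rw [← List.nodup_ofFn, hι]; exact hnd
  let e0 : Fin 12 ≃ α := Equiv.ofBijective ι
    ((Fintype.bijective_iff_injective_and_card ι).mpr ⟨hinj, by simp [hα]⟩)
  let B' : Set (Finset (Fin 12)) := (fun s => s.image e0.symm) '' B
  have hseed : ∀ s ∈ seeds12, set12 s ∈ B' := by
    have hmem : ∀ (s : ℕ) (u v w : Fin 12), set12 s = {u, v, w, 9, 10, 11} →
        Ln (ι u) (ι v) (ι w) → set12 s ∈ B' := by
      intro s u v w hs hL
      refine ⟨_, hL.2.2.2.2, ?_⟩
      have hn : ∀ j, e0.symm (ι j) = j := fun j => e0.symm_apply_apply j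
      have hx : e0.symm x = 9 := hn 9
      have hy : e0.symm y = 10 := hn 10
      have hz : e0.symm z = 11 := hn 11
      simp only [image_insert, image_singleton, hn, hx, hy, hz]
      exact hs.symm
    intro s hs
    simp only [seeds12, List.mem_cons, List.not_mem_nil, or_false] at hs
    rcases hs with rfl | rfl | rfl | rfl | rfl
    · exact hmem _ 0 1 2 (by decide +kernel) hd
    · exact hmem _ 0 3 6 (by decide +kernel) he
    · exact hmem _ 0 4 8 (by decide +kernel) (s2 _ _ _ hg)
    · exact hmem _ 1 3 8 (by decide +kernel) hf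
    · exact hmem _ 0 5 7 (by decide +kernel) hi
  obtain ⟨σ, hσfix, hσ⟩ := s12_core (steiner_transport hB e0.symm) hseed
  refine ⟨e0.symm.trans σ, ?_, ?_, ?_, ?_⟩
  · show σ (e0.symm x) = 9
    rw [show e0.symm x = 9 from e0.symm_apply_apply 9, hσfix 9 (by decide)]
  · show σ (e0.symm y) = 10
    rw [show e0.symm y = 10 from e0.symm_apply_apply 10, hσfix 10 (by decide)]
  · show σ (e0.symm z) = 11
    rw [show e0.symm z = 11 from e0.symm_apply_apply 11, hσfix 11 (by decide)]
  · rw [← hσ, Set.image_image]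
    simp [image_image, Function.comp_def]

/-- Candidate automorphism fixing the special points, from the images of 0, 1, 3. -/
def autCand (a b c : ℕ) : ℕ :=
  let t := fun u v => thirdTbl.getD (9 * u + v) 0
  let f := t b c
  let g := t a f
  let e := t a c
  packAux (fun i => [a, b, t a b, c, g, t b g, e, t b e, f, 9, 10, 11].getD i 0 % 32) 12

/-- A relabelling preserves the reference system. -/
def preserves12 (p : ℕ) : Bool :=
  (List.range 4096).all fun m => !model12Bits.testBit m || model12Bits.testBit (pm12 p m)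

theorem autCand_listed : ∀ a b c : Fin 9, a ≠ b → a ≠ c → b ≠ c →
    preserves12 (autCand a.val b.val c.val) = true → autCand a.val b.val c.val ∈ autPerms12 := by
  decide +kernel

theorem model12_line : ∀ u v w : Fin 12, u.val < 9 → v.val < 9 → w.val < 9 → u ≠ v → u ≠ w → v ≠ w →
    model12Bits.testBit (2 ^ u.val + 2 ^ v.val + 2 ^ w.val + 3584) = true →
    w.val = thirdTbl.getD (9 * u.val + v.val) 0 := by decide +kernel

theorem model12_line_mem : ∀ u v : Fin 12, u.val < 9 → v.val < 9 → u ≠ v →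
    thirdTbl.getD (9 * u.val + v.val) 0 < 9 ∧ thirdTbl.getD (9 * u.val + v.val) 0 ≠ u.val ∧
      thirdTbl.getD (9 * u.val + v.val) 0 ≠ v.val ∧
      model12Bits.testBit
        (2 ^ u.val + 2 ^ v.val + 2 ^ thirdTbl.getD (9 * u.val + v.val) 0 + 3584) = true := by
  decide +kernel

set_option synthInstance.maxSize 4000 in
theorem set12_triple : ∀ u v w : Fin 12, u.val < 9 → v.val < 9 → w.val < 9 → u ≠ v → u ≠ w → v ≠ w →
    set12 (2 ^ u.val + 2 ^ v.val + 2 ^ w.val + 3584) = {u, v, w, 9, 10, 11} ∧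
      2 ^ u.val + 2 ^ v.val + 2 ^ w.val + 3584 < 4096 := by decide +kernel

theorem aut12_special {σ : Equiv.Perm (Fin 12)} (hσ : σ ∈ setSystemAut model12) (h9 : σ 9 = 9)
    (h10 : σ 10 = 10) (h11 : σ 11 = 11) :
    ∃ p ∈ autPerms12, ∀ i : Fin 12, (σ i).val = img p i.val := by
  have hmem : ∀ b, b ∈ model12 → b.image σ ∈ model12 := fun b hb => by
    rw [MulAction.mem_stabilizer_iff] at hσ
    have h : b.image σ ∈ σ • model12 := Set.smul_mem_smul_set hb
    rwa [hσ] at h
  have hlt : ∀ u : Fin 12, u.val < 9 → (σ u).val < 9 := by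
    intro u hu
    by_contra hge
    have hcases : σ u = 9 ∨ σ u = 10 ∨ σ u = 11 := by
      have := (σ u).isLt
      rcases (by omega : (σ u).val = 9 ∨ (σ u).val = 10 ∨ (σ u).val = 11) with h | h | h
      · exact Or.inl (Fin.ext h)
      · exact Or.inr (Or.inl (Fin.ext h))
      · exact Or.inr (Or.inr (Fin.ext h))
    rcases hcases with h | h | h
    · rw [← h9] at h; have := σ.injective h; subst this; simp at hu
    · rw [← h10] at h; have := σ.injective h; subst this; simp at hu
    · rw [← h11] at h; have := σ.injective h; subst this; simp at hu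
  have hthird : ∀ u v w : Fin 12, u.val < 9 → v.val < 9 → u ≠ v →
      w.val = thirdTbl.getD (9 * u.val + v.val) 0 →
      (σ w).val = thirdTbl.getD (9 * (σ u).val + (σ v).val) 0 := by
    intro u v w hu hv huv hw
    obtain ⟨h1, h2, h3, h4⟩ := model12_line_mem u v hu hv huv
    rw [← hw] at h1 h2 h3 h4
    have hwu : u ≠ w := fun e => h2 (congrArg Fin.val e).symm
    have hwv : v ≠ w := fun e => h3 (congrArg Fin.val e).symm
    obtain ⟨e1, e2⟩ := set12_triple u v w hu hv h1 huv hwu hwv
    have hb : set12 (2 ^ u.val + 2 ^ v.val + 2 ^ w.val + 3584) ∈ model12 := by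
      show model12Bits.testBit (mask12 _) = true
      rwa [mask12_set12 e2]
    have := hmem _ hb
    rw [e1] at this
    simp only [image_insert, image_singleton, h9, h10, h11] at this
    obtain ⟨f1, f2⟩ := set12_triple (σ u) (σ v) (σ w) (hlt u hu) (hlt v hv) (hlt w h1)
      (σ.injective.ne huv) (σ.injective.ne hwu) (σ.injective.ne hwv)
    rw [← f1] at this
    refine model12_line (σ u) (σ v) (σ w) (hlt u hu) (hlt v hv) (hlt w h1)
      (σ.injective.ne huv) (σ.injective.ne hwu) (σ.injective.ne hwv) ?_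
    have h' : model12Bits.testBit (mask12 (set12 _)) = true := this
    rwa [mask12_set12 f2] at h'
  have hrepr : ∀ i : Fin 12, (σ i).val = img (autCand (σ 0).val (σ 1).val (σ 3).val) i.val := by
    intro i
    have t2 := hthird 0 1 2 (by decide) (by decide) (by decide) (by decide)
    have t6 := hthird 0 3 6 (by decide) (by decide) (by decide) (by decide)
    have t8 := hthird 1 3 8 (by decide) (by decide) (by decide) (by decide)
    have t4 := hthird 0 8 4 (by decide) (by decide) (by decide) (by decide)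
    have t5 := hthird 1 4 5 (by decide) (by decide) (by decide) (by decide)
    have t7 := hthird 1 6 7 (by decide) (by decide) (by decide) (by decide)
    rw [autCand, img_packAux _ (fun j => Nat.mod_lt _ (by norm_num)), if_pos i.isLt]
    have hlt32 : (σ i).val % 32 = (σ i).val := Nat.mod_eq_of_lt (by have := (σ i).isLt; omega)
    rw [← hlt32]
    congr 1
    fin_cases i
    · rfl
    · rfl
    · exact t2
    · rfl
    · rw [t8] at t4; exact t4
    · rw [t4, t8] at t5; exact t5
    · exact t6
    · rw [t6] at t7; exact t7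
    · exact t8
    · exact congrArg Fin.val h9
    · exact congrArg Fin.val h10
    · exact congrArg Fin.val h11
  refine ⟨_, autCand_listed ⟨(σ 0).val, hlt 0 (by decide)⟩ ⟨(σ 1).val, hlt 1 (by decide)⟩
    ⟨(σ 3).val, hlt 3 (by decide)⟩ ?_ ?_ ?_ ?_, hrepr⟩
  · intro e; exact absurd (σ.injective (a₁ := 0) (a₂ := 1) (Fin.ext (congrArg (fun k : Fin 9 => k.val) e))) (by decide)
  · intro e; exact absurd (σ.injective (a₁ := 0) (a₂ := 3) (Fin.ext (congrArg (fun k : Fin 9 => k.val) e))) (by decide)
  · intro e; exact absurd (σ.injective (a₁ := 1) (a₂ := 3) (Fin.ext (congrArg (fun k : Fin 9 => k.val) e))) (by decide)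
  · simp only [preserves12, List.all_eq_true, List.mem_range]
    intro m hm
    cases hb : model12Bits.testBit m
    · rfl
    · have h1 : set12 m ∈ model12 := by
        show model12Bits.testBit (mask12 _) = true
        rwa [mask12_set12 hm]
      have h2 := hmem _ h1
      rw [← set12_pm12 hrepr] at h2
      have h3 : model12Bits.testBit (mask12 (set12 _)) = true := h2
      rw [mask12_set12 (pm12_lt hrepr m)] at h3
      simp [h3]

theorem autPerms12_mem {p : ℕ} (hp : p ∈ autPerms12) :
    ∃ σ ∈ setSystemAut model12, (∀ i : Fin 12, (σ i).val = img p i.val) ∧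
      ∀ i : Fin 12, 9 ≤ i.val → σ i = i := by
  have hchk : ∀ p ∈ autPerms12, (isPerm12 p && preserves12 p) = true := by decide +kernel
  have h := hchk p hp
  rw [Bool.and_eq_true] at h
  obtain ⟨σ, hσ, hfix⟩ := exists_perm12 h.1
  refine ⟨σ, ?_, hσ, hfix⟩
  rw [MulAction.mem_stabilizer_iff]
  refine Set.eq_of_subset_of_ncard_le ?_ ?_ (Set.toFinite _)
  · rintro _ ⟨b, hb, rfl⟩
    have h2 := List.all_eq_true.mp h.2 (mask12 b) (List.mem_range.mpr (mask12_lt b))
    have hb' : model12Bits.testBit (mask12 b) = true := hb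
    rw [hb'] at h2
    show model12Bits.testBit (mask12 (b.image σ)) = true
    rw [show b.image σ = set12 (pm12 p (mask12 b)) by rw [set12_pm12 hσ, set12_mask12],
      mask12_set12 (pm12_lt hσ _)]
    simpa using h2
  · rw [show σ • model12 = (fun s : Finset (Fin 12) => σ • s) '' model12 from rfl,
      Set.ncard_image_of_injective _ (MulAction.injective σ)]

theorem autPerms12_pair : ∀ u v : Fin 12, u.val < 9 → v.val < 9 → u ≠ v →
    ∃ p ∈ autPerms12, img p 0 = u.val ∧ img p 1 = v.val := by decide +kernel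

theorem autPerms12_rigid : ∀ p ∈ autPerms12, img p 0 = 0 → img p 1 = 1 →
    ∀ i : Fin 12, img p i.val = i.val := by decide +kernel

/-- The five base points of the reference system. -/
def base12 : Fin 5 ↪ Fin 12 := ⟨![9, 10, 11, 0, 1], by decide⟩

/-- Sharp five-fold transitivity of the automorphisms of any S(5,6,12). -/
theorem s12_sharp {B : Set (Finset α)} (hα : Fintype.card α = 12) (hB : IsSteinerSystem 5 6 B) :
    IsMultiplyPretransitive (setSystemAut B) α 5 ∧
      ∀ x : Fin 5 ↪ α, stabilizer (setSystemAut B) x = ⊥ := by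
  have key : ∀ x : Fin 5 ↪ α, ∃ e : α ≃ Fin 12,
      (fun b => b.image e) '' B = model12 ∧ ∀ i, e (x i) = base12 i := by
    intro x
    obtain ⟨e, e0, e1, e2, he⟩ := s12_iso hα hB (x := x 0) (y := x 1) (z := x 2)
      (x.injective.ne (by decide)) (x.injective.ne (by decide)) (x.injective.ne (by decide))
    have hlt : ∀ i : Fin 5, 3 ≤ i.val → (e (x i)).val < 9 := by
      intro i hi
      by_contra hge
      rcases (by have := (e (x i)).isLt; omega :
        (e (x i)).val = 9 ∨ (e (x i)).val = 10 ∨ (e (x i)).val = 11) with h | h | h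
      · have := x.injective (e.injective ((Fin.ext h : e (x i) = 9).trans e0.symm)); subst this; simp at hi
      · have := x.injective (e.injective ((Fin.ext h : e (x i) = 10).trans e1.symm)); subst this; simp at hi
      · have := x.injective (e.injective ((Fin.ext h : e (x i) = 11).trans e2.symm)); subst this; simp at hi
    obtain ⟨p, hp, hp0, hp1⟩ := autPerms12_pair (e (x 3)) (e (x 4)) (hlt 3 (by decide))
      (hlt 4 (by decide)) (e.injective.ne (x.injective.ne (by decide)))
    obtain ⟨σ, hσ, hσr, hσfix⟩ := autPerms12_mem hp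
    refine ⟨e.trans σ.symm, ?_, fun i => ?_⟩
    · have hs : (fun b => b.image σ) '' model12 = model12 := MulAction.mem_stabilizer_iff.mp hσ
      have h1 : (fun b : Finset (Fin 12) => b.image σ.symm) '' model12 = model12 := by
        conv_lhs => rw [← hs, Set.image_image]
        simp [image_image]
      rw [← h1, ← he, Set.image_image]
      simp [image_image, Function.comp_def]
    · show σ.symm (e (x i)) = base12 i
      rw [Equiv.symm_apply_eq]
      fin_cases i
      · show e (x 0) = σ 9; rw [hσfix 9 (by decide), e0]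
      · show e (x 1) = σ 10; rw [hσfix 10 (by decide), e1]
      · show e (x 2) = σ 11; rw [hσfix 11 (by decide), e2]
      · show e (x 3) = σ 0; exact Fin.ext (by rw [hσr 0]; exact hp0.symm)
      · show e (x 4) = σ 1; exact Fin.ext (by rw [hσr 1]; exact hp1.symm)
  have hconj : ∀ (e e' : α ≃ Fin 12), (fun b => b.image e) '' B = model12 →
      (fun b => b.image e') '' B = model12 → e.trans e'.symm ∈ setSystemAut B := by
    intro e e' h h'
    rw [MulAction.mem_stabilizer_iff]
    show (fun b => b.image (e.trans e'.symm)) '' B = B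
    have : (fun b : Finset (Fin 12) => b.image e'.symm) '' model12 = B := by
      rw [← h', Set.image_image]
      simp [image_image]
    conv_rhs => rw [← this, ← h, Set.image_image]
    simp [image_image, Function.comp_def]
  constructor
  · constructor
    intro x y
    obtain ⟨e, he, hex⟩ := key x
    obtain ⟨e', he', hey⟩ := key y
    refine ⟨⟨e.trans e'.symm, hconj e e' he he'⟩, DFunLike.ext _ _ fun i => ?_⟩
    show e'.symm (e (x i)) = y i
    rw [hex, ← hey, Equiv.symm_apply_apply]
  · intro x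
    rw [eq_bot_iff]
    intro g hg
    obtain ⟨e, he, hex⟩ := key x
    have hgx : ∀ i, g.1 (x i) = x i := fun i => DFunLike.congr_fun hg i
    set τ : Equiv.Perm (Fin 12) := e.permCongr g.1 with hτ
    have hτfix : ∀ i, τ (base12 i) = base12 i := fun i => by
      rw [hτ, Equiv.permCongr_apply, ← hex i, Equiv.symm_apply_apply, hgx]
    have hτmem : τ ∈ setSystemAut model12 := by
      have hg' : (fun b => b.image g.1) '' B = B := MulAction.mem_stabilizer_iff.mp g.2
      rw [MulAction.mem_stabilizer_iff]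
      show (fun b => b.image τ) '' model12 = model12
      conv_lhs => rw [← he, Set.image_image]
      conv_rhs => rw [← he, ← hg', Set.image_image]
      simp [hτ, image_image, Function.comp_def]
    obtain ⟨p, hp, hr⟩ := aut12_special hτmem (hτfix 0) (hτfix 1) (hτfix 2)
    have h0 : img p 0 = 0 := (hr 0).symm.trans (congrArg Fin.val (hτfix 3))
    have h1 : img p 1 = 1 := (hr 1).symm.trans (congrArg Fin.val (hτfix 4))
    have hid : τ = 1 := Equiv.ext fun i => Fin.ext ((hr i).trans (autPerms12_rigid p hp h0 h1 i))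
    rw [Subgroup.mem_bot]
    refine Subtype.ext (Equiv.ext fun a => e.injective ?_)
    have := DFunLike.congr_fun hid (e a)
    rw [hτ, Equiv.permCongr_apply, Equiv.symm_apply_apply] at this
    exact this

theorem s12_setSystemIso {B : Set (Finset α)} {B' : Set (Finset β)} (hα : Fintype.card α = 12)
    (hβ : Fintype.card β = 12) (hB : IsSteinerSystem 5 6 B) (hB' : IsSteinerSystem 5 6 B')
    {a : α} {b : β} : ∃ e : α ≃ β, e a = b ∧ (fun c => c.image e) '' B = B' := by
  obtain ⟨a1, ha1⟩ := exists_notMem_list [a] (by simp [hα])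
  obtain ⟨a2, ha2⟩ := exists_notMem_list [a, a1] (by simp [hα])
  obtain ⟨b1, hb1⟩ := exists_notMem_list [b] (by simp [hβ])
  obtain ⟨b2, hb2⟩ := exists_notMem_list [b, b1] (by simp [hβ])
  simp only [List.mem_cons, List.not_mem_nil, or_false, not_or] at ha1 ha2 hb1 hb2
  obtain ⟨e, e0, -, -, he⟩ := s12_iso hα hB (Ne.symm ha1) (Ne.symm ha2.1) (Ne.symm ha2.2)
  obtain ⟨e', e0', -, -, he'⟩ := s12_iso hβ hB' (Ne.symm hb1) (Ne.symm hb2.1) (Ne.symm hb2.2)
  refine ⟨e.trans e'.symm, by show e'.symm (e a) = b; rw [e0, ← e0', Equiv.symm_apply_apply], ?_⟩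
  have : (fun c : Finset (Fin 12) => c.image e'.symm) '' model12 = B' := by
    rw [← he', Set.image_image]
    simp [image_image]
  conv_rhs => rw [← this, ← he, Set.image_image]
  simp [image_image, Function.comp_def]

/-! ### S(4,5,11) -/

/-- The extension by one point: lifted blocks and complements. -/
def ext12 (B : Set (Finset α)) : Set (Finset (Option α)) :=
  (fun b => insertNone b) '' B ∪ (fun b => (bᶜ).map Function.Embedding.some) '' B

theorem s11_disjoint_count {B : Set (Finset α)} (hα : Fintype.card α = 11)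
    (hB : IsSteinerSystem 4 5 B) (s : Finset α) (hs : s.card = 5) :
    meetNum B s 0 + meetNum B s 5 = 1 := by
  have hM := fun j m hj hm => steiner_moment hB s 5
    (fun c _ => hs ▸ card_le_card inter_subset_right) j m hj (by norm_num) hm
  have e0 := hM 0 66 (by norm_num) (by rw [hα]; decide +kernel)
  have e1 := hM 1 30 (by norm_num) (by rw [hα]; decide +kernel)
  have e2 := hM 2 12 (by norm_num) (by rw [hα]; decide +kernel)
  have e3 := hM 3 4 (by norm_num) (by rw [hα]; decide +kernel)
  have e4 := hM 4 1 (by norm_num) (by rw [hα]; decide +kernel)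
  simp only [hs, sum_range_succ, sum_range_zero] at e0 e1 e2 e3 e4
  norm_num [Nat.choose] at e0 e1 e2 e3 e4
  omega

theorem ext12_steiner {B : Set (Finset α)} (hα : Fintype.card α = 11)
    (hB : IsSteinerSystem 4 5 B) : IsSteinerSystem 5 6 (ext12 B) := by
  have hcompl : ∀ b ∈ B, (bᶜ).card = 6 := fun b hb => by rw [card_compl, hB.1 b hb, hα]
  refine ⟨?_, fun s hs => ?_⟩
  · rintro _ (⟨b, hb, rfl⟩ | ⟨b, hb, rfl⟩)
    · rw [card_insertNone, hB.1 b hb]
    · rw [card_map, hcompl b hb]
  · have hcard := card_eraseNone_add' s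
    have hins : ∀ b : Finset α, s ⊆ insertNone b ↔ eraseNone s ⊆ b := fun b => by
      constructor
      · intro h a ha; exact some_mem_insertNone.mp (h (mem_eraseNone.mp ha))
      · rintro h (_ | a) ha
        · exact none_mem_insertNone
        · exact some_mem_insertNone.mpr (h (mem_eraseNone.mpr ha))
    have hmap : ∀ b : Finset α, s ⊆ (bᶜ).map Function.Embedding.some ↔
        none ∉ s ∧ Disjoint b (eraseNone s) := fun b => by
      constructor
      · intro h
        refine ⟨fun hn => by simpa using h hn, disjoint_left.mpr fun a hab ha => ?_⟩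
        have := h (mem_eraseNone.mp ha)
        simp at this
        exact this hab
      · rintro ⟨hn, hd⟩ (_ | a) ha
        · exact absurd ha hn
        · simp only [mem_map, Function.Embedding.some_apply, Option.some.injEq, exists_eq_right,
            mem_compl]
          exact fun hab => disjoint_left.mp hd hab (mem_eraseNone.mpr ha)
    by_cases hn : none ∈ s
    · rw [if_pos hn] at hcard
      obtain ⟨b, ⟨hb, hsb⟩, hu⟩ := hB.2 (eraseNone s) (by omega)
      refine ⟨_, ⟨Or.inl ⟨b, hb, rfl⟩, (hins b).mpr hsb⟩, ?_⟩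
      rintro _ ⟨⟨c, hc, rfl⟩ | ⟨c, hc, rfl⟩, hsc⟩
      · show insertNone c = insertNone b
        rw [hu c ⟨hc, (hins c).mp hsc⟩]
      · exact absurd hn ((hmap c).mp hsc).1
    · rw [if_neg hn, add_zero] at hcard
      set u := eraseNone s
      have hu5 : u.card = 5 := by omega
      have hcount := s11_disjoint_count hα hB u hu5
      have hsub5 : ∀ b ∈ B, u ⊆ b ↔ (b ∩ u).card = 5 := fun b hb => by
        constructor
        · intro h; rw [inter_eq_right.mpr h, hu5]
        · intro h; exact inter_eq_right.mp (eq_of_subset_of_card_le inter_subset_right (by omega))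
      rcases (by omega : meetNum B u 5 = 1 ∧ meetNum B u 0 = 0 ∨
          meetNum B u 5 = 0 ∧ meetNum B u 0 = 1) with ⟨h5, h0⟩ | ⟨h5, h0⟩
      · obtain ⟨b, hb⟩ := card_eq_one.mp h5
        have hbm : b ∈ (H94.blockSet B).filter fun c => (c ∩ u).card = 5 := hb ▸ mem_singleton_self b
        rw [mem_filter, H94.mem_blockSet] at hbm
        refine ⟨_, ⟨Or.inl ⟨b, hbm.1, rfl⟩, (hins b).mpr ((hsub5 b hbm.1).mpr hbm.2)⟩, ?_⟩
        rintro _ ⟨⟨c, hc, rfl⟩ | ⟨c, hc, rfl⟩, hsc⟩
        · have : c ∈ (H94.blockSet B).filter fun c => (c ∩ u).card = 5 :=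
            mem_filter.mpr ⟨H94.mem_blockSet.mpr hc, (hsub5 c hc).mp ((hins c).mp hsc)⟩
          rw [hb, mem_singleton] at this
          show insertNone c = insertNone b
          rw [this]
        · exfalso
          have := meetNum_pos u hc
          rw [disjoint_iff_inter_eq_empty.mp ((hmap c).mp hsc).2, card_empty, h0] at this
          omega
      · obtain ⟨b, hb⟩ := card_eq_one.mp h0
        have hbm : b ∈ (H94.blockSet B).filter fun c => (c ∩ u).card = 0 := hb ▸ mem_singleton_self b
        rw [mem_filter, H94.mem_blockSet, card_eq_zero, ← disjoint_iff_inter_eq_empty] at hbm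
        refine ⟨_, ⟨Or.inr ⟨b, hbm.1, rfl⟩, (hmap b).mpr ⟨hn, hbm.2⟩⟩, ?_⟩
        rintro _ ⟨⟨c, hc, rfl⟩ | ⟨c, hc, rfl⟩, hsc⟩
        · exfalso
          have := meetNum_pos u hc
          rw [(hsub5 c hc).mp ((hins c).mp hsc), h5] at this
          omega
        · have : c ∈ (H94.blockSet B).filter fun c => (c ∩ u).card = 0 :=
            mem_filter.mpr ⟨H94.mem_blockSet.mpr hc, card_eq_zero.mpr
              (disjoint_iff_inter_eq_empty.mp ((hmap c).mp hsc).2)⟩
          rw [hb, mem_singleton] at this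
          show (cᶜ).map Function.Embedding.some = (bᶜ).map Function.Embedding.some
          rw [this]
where
  card_eraseNone_add' (x : Finset (Option α)) :
      (eraseNone x).card + (if none ∈ x then 1 else 0) = x.card := by
    have h1 : insertNone (eraseNone x) = insert none x := insertNone_eraseNone x
    have h2 := congrArg Finset.card h1
    rw [card_insertNone] at h2
    by_cases h : none ∈ x
    · rw [if_pos h]; rw [insert_eq_of_mem h] at h2; omega
    · rw [if_neg h]; rw [card_insert_of_notMem h] at h2; omega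

theorem image_removeNone (e : Option α ≃ Option β) (h : e none = none) (b : Finset α) :
    (insertNone b).image e = insertNone (b.image (Equiv.removeNone e)) := by
  have hs : ∀ a, e (some a) = some (Equiv.removeNone e a) := fun a => by
    refine (Equiv.removeNone_some _ ?_).symm
    rcases hh : e (some a) with _ | c
    · exact absurd (e.injective (hh.trans h.symm)) (by simp)
    · exact ⟨c, rfl⟩
  ext (_ | v)
  · simp only [mem_image, none_mem_insertNone, iff_true]
    exact ⟨none, none_mem_insertNone, h⟩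
  · simp only [mem_image, some_mem_insertNone]
    constructor
    · rintro ⟨_ | a, ha, he⟩
      · rw [h] at he; simp at he
      · rw [hs] at he
        exact ⟨a, some_mem_insertNone.mp ha, Option.some.inj he⟩
    · rintro ⟨a, ha, rfl⟩
      exact ⟨some a, some_mem_insertNone.mpr ha, hs a⟩

theorem ext12_none {B : Set (Finset α)} (c : Finset (Option α)) (hc : c ∈ ext12 B) (hn : none ∈ c) :
    ∃ b ∈ B, c = insertNone b := by
  rcases hc with ⟨b, hb, rfl⟩ | ⟨b, -, rfl⟩
  · exact ⟨b, hb, rfl⟩
  · simp at hn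

theorem image_removeNone_blocks {B : Set (Finset α)} {B' : Set (Finset β)} (e : Option α ≃ Option β)
    (h : e none = none) (he : (fun c => c.image e) '' ext12 B = ext12 B') :
    (fun b => b.image (Equiv.removeNone e)) '' B = B' := by
  refine Set.Subset.antisymm ?_ fun b' hb' => ?_
  · rintro _ ⟨b, hb, rfl⟩
    have hmem : (insertNone b).image e ∈ ext12 B' := he ▸ ⟨_, Or.inl ⟨b, hb, rfl⟩, rfl⟩
    rw [image_removeNone e h] at hmem
    obtain ⟨c, hc, hce⟩ := ext12_none _ hmem none_mem_insertNone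
    show b.image (Equiv.removeNone e) ∈ B'
    rwa [← eraseNone_insertNone (b.image _), hce, eraseNone_insertNone]
  · have hmem : insertNone b' ∈ ext12 B' := Or.inl ⟨b', hb', rfl⟩
    rw [← he] at hmem
    obtain ⟨c, hc, hce⟩ := hmem
    have hn : none ∈ c := by
      have : (none : Option β) ∈ c.image e := by rw [show c.image e = insertNone b' from hce]; exact none_mem_insertNone
      obtain ⟨w, hw, hwe⟩ := mem_image.mp this
      rwa [e.injective (hwe.trans h.symm)] at hw
    obtain ⟨b, hb, rfl⟩ := ext12_none _ hc hn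
    refine ⟨b, hb, ?_⟩
    have h1 : insertNone (b.image (Equiv.removeNone e)) = insertNone b' := by
      rw [← image_removeNone e h]; exact hce
    show b.image (Equiv.removeNone e) = b'
    rw [← eraseNone_insertNone (b.image _), h1, eraseNone_insertNone]

theorem s11_iso {B : Set (Finset α)} {B' : Set (Finset β)} (hα : Fintype.card α = 11)
    (hβ : Fintype.card β = 11) (hB : IsSteinerSystem 4 5 B) (hB' : IsSteinerSystem 4 5 B') :
    SetSystemIso B B' := by
  obtain ⟨e, he0, he⟩ := s12_setSystemIso (α := Option α) (β := Option β)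
    (by rw [Fintype.card_option, hα]) (by rw [Fintype.card_option, hβ])
    (ext12_steiner hα hB) (ext12_steiner hβ hB') (a := none) (b := none)
  exact ⟨Equiv.removeNone e, image_removeNone_blocks e he0 he⟩

theorem s11_sharp {B : Set (Finset α)} (hα : Fintype.card α = 11) (hB : IsSteinerSystem 4 5 B) :
    IsMultiplyPretransitive (setSystemAut B) α 4 ∧
      ∀ x : Fin 4 ↪ α, stabilizer (setSystemAut B) x = ⊥ := by
  obtain ⟨htr, hst⟩ := s12_sharp (α := Option α) (by rw [Fintype.card_option, hα])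
    (ext12_steiner hα hB)
  let up : (Fin 4 ↪ α) → (Fin 5 ↪ Option α) := fun x =>
    ⟨Fin.cons none (fun i => some (x i)), by
      rw [Fin.cons_injective_iff]
      exact ⟨by rintro ⟨i, hi⟩; simp at hi, fun i j h => x.injective (Option.some.inj h)⟩⟩
  constructor
  · constructor
    intro x y
    obtain ⟨g, hg⟩ := htr.exists_smul_eq (up x) (up y)
    have hg0 : g.1 none = none := DFunLike.congr_fun hg 0
    have hmem : Equiv.removeNone g.1 ∈ setSystemAut B := by
      rw [MulAction.mem_stabilizer_iff]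
      exact image_removeNone_blocks g.1 hg0 (MulAction.mem_stabilizer_iff.mp g.2)
    refine ⟨⟨_, hmem⟩, DFunLike.ext _ _ fun i => ?_⟩
    show Equiv.removeNone g.1 (x i) = y i
    have hgi : g.1 (some (x i)) = some (y i) := by
      exact DFunLike.congr_fun hg i.succ
    exact Option.some.inj ((Equiv.removeNone_some _ ⟨_, hgi⟩).trans hgi)
  · intro x
    rw [eq_bot_iff]
    intro g hg
    have hmem : Equiv.optionCongr g.1 ∈ setSystemAut (ext12 B) := by
      rw [MulAction.mem_stabilizer_iff]
      refine Set.eq_of_subset_of_ncard_le ?_ ?_ (Set.toFinite _)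
      · have hgB : ∀ b ∈ B, b.image g.1 ∈ B := fun b hb => by
          have h : b.image g.1 ∈ g.1 • B := Set.smul_mem_smul_set hb
          exact (MulAction.mem_stabilizer_iff.mp g.2).subset h
        rintro _ ⟨c, hc, rfl⟩
        rcases hc with ⟨b, hb, rfl⟩ | ⟨b, hb, rfl⟩
        · refine Or.inl ⟨b.image g.1, hgB b hb, ?_⟩
          show insertNone (b.image g.1) = (insertNone b).image (Equiv.optionCongr g.1)
          rw [image_removeNone (Equiv.optionCongr g.1) rfl, Equiv.removeNone_optionCongr]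
        · refine Or.inr ⟨b.image g.1, hgB b hb, ?_⟩
          show _ = ((bᶜ).map Function.Embedding.some).image _
          ext w
          constructor
          · intro hw
            obtain ⟨v, hv, rfl⟩ := mem_map.mp hw
            refine mem_image.mpr ⟨some (g.1.symm v), ?_, by simp⟩
            simp only [mem_map, Function.Embedding.some_apply, Option.some.injEq, exists_eq_right,
              mem_compl] at hv ⊢
            exact fun h => hv (mem_image.mpr ⟨_, h, by simp⟩)
          · intro hw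
            obtain ⟨u, hu, rfl⟩ := mem_image.mp hw
            obtain ⟨v, hv, rfl⟩ := mem_map.mp hu
            simp only [mem_compl] at hv
            simp [hv]
      · rw [show Equiv.optionCongr g.1 • ext12 B =
            (fun s : Finset (Option α) => Equiv.optionCongr g.1 • s) '' ext12 B from rfl,
          Set.ncard_image_of_injective _ (MulAction.injective _)]
    have h1 : (⟨_, hmem⟩ : setSystemAut (ext12 B)) ∈ stabilizer (setSystemAut (ext12 B)) (up x) := by
      rw [MulAction.mem_stabilizer_iff]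
      refine DFunLike.ext _ _ fun i => ?_
      refine Fin.cases ?_ (fun j => ?_) i
      · rfl
      · show Equiv.optionCongr g.1 (some (x j)) = some (x j)
        rw [Equiv.optionCongr_apply, Option.map_some,
          show g.1 (x j) = x j from DFunLike.congr_fun hg j]
    rw [hst, Subgroup.mem_bot] at h1
    rw [Subgroup.mem_bot]
    refine Subtype.ext (Equiv.ext fun a => ?_)
    have := DFunLike.congr_fun (congrArg Subtype.val h1) (some a)
    simpa using this

end H90
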