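import Cfsg.Agent.H90.CentralizerLarge

/-!
A 2-subgroup with prescribed orbits relative to the reference octad, and fixed point sets of
elements of prime order.
-/

set_option autoImplicit false

namespace H90

open Cfsg
open scoped Pointwise

/-- An element of order 8 fixing the point 7, with orbits of lengths 1, 1, 2, 4 on the octad. -/
def eightElt : ℕ := 922497443151431782498554802012144087

theorem eight_check : (isPerm eightElt && preservesCode eightElt && commutes' eightElt invAN &&
    samePerm (pow8 eightElt) idN && Nat.beq (img eightElt 7) 7) = true := by decide +kernel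

theorem octad_image_check : ((List.range 24).all fun i => !invAFix.testBit i ||
    (prodList coreGens).any fun p => Nat.beq (img p 7) i) = true := by decide +kernel

theorem outside_image_check : ((List.range 24).all fun i => invAFix.testBit i ||
    (prodList fourGens).any fun p => Nat.beq (img p 7) 7 && Nat.beq (img p 0) i) = true := by
  decide +kernel

/-- Powers of the element of order 8. -/
def eightPow : ℕ → ℕ
  | 0 => idN
  | n + 1 => compN eightElt (eightPow n)

theorem eight_classes : (decide (img (eightPow 1) 12 = 18) &&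
    [13, 20, 10].all fun i => (List.range 4).any fun n => Nat.beq (img (eightPow n) 4) i) = true := by
  decide +kernel

/-- The reference octad. -/
def octA : Finset GolayPt := setOf' invAFix

theorem octA_mem : octA ∈ octads := invA_fixed_mem

theorem octA_list : octA = {pt 4, pt 7, pt 10, pt 12, pt 13, pt 18, pt 20, pt 21} := by decide +kernel

theorem crepr_one_iff {g : ↥M24} {p : ℕ} : CRepr 1 g p ↔ Repr g.1 p := by
  unfold CRepr
  rw [inv_one, one_mul, mul_one]

/-- The properties of a 2-subgroup used in the orbit arguments. -/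
structure TwoFrame (P : Subgroup ↥M24) : Prop where
  pGroup : IsPGroup 2 P
  preserves : ∀ g ∈ P, g • octA = octA
  onOctad : ∀ y ∈ octA, ∃ g ∈ P, g • pt 7 = y
  outside : ∀ y, y ∉ octA → ∃ g ∈ P, g • pt 7 = pt 7 ∧ g • pt 0 = y
  pair : ∃ g ∈ P, g • pt 7 = pt 7 ∧ g • pt 12 = pt 18
  quad : ∀ y ∈ ({pt 4, pt 13, pt 20, pt 10} : Finset GolayPt), ∃ g ∈ P, g • pt 7 = pt 7 ∧ g • pt 4 = y

theorem smul_pt_of_repr {g : ↥M24} {p : ℕ} {i j : Fin 24} (h : Repr g.1 p)
    (e : Nat.beq (img p i.val) j.val = true) : g • pt i = pt j :=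
  idx_injective (Fin.ext (by
    show (idx (g.1 (pt i))).val = _
    rw [h i, idx_pt, Nat.eq_of_beq_eq_true e]))

theorem exists_twoFrame : ∃ P : Subgroup ↥M24, TwoFrame P := by
  have hi := isPerm_invs
  simp only [Bool.and_eq_true] at hi
  obtain ⟨z, hz⟩ := exists_crepr (k := 1) (p := invAN) (by rw [hi.1.1.1, hi.1.1.2]; rfl)
  have he := eight_check
  simp only [Bool.and_eq_true] at he
  obtain ⟨⟨⟨⟨h1, h2⟩, h3⟩, h4⟩, h5⟩ := he
  obtain ⟨u, hu⟩ := exists_crepr (k := 1) (p := eightElt) (by rw [h1, h2]; rfl)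
  have hu' : Repr u.1 eightElt := crepr_one_iff.mp hu
  have huC : u ∈ Subgroup.centralizer ({z} : Set ↥M24) :=
    Subgroup.mem_centralizer_singleton_iff.mpr (commute_of_check hu hz h3)
  have hu8 : u ^ 8 = 1 := hu.pow8.eq_of_same crepr_one h4
  have hcyc : IsPGroup 2 (Subgroup.zpowers u) := by
    rintro ⟨x, n, rfl⟩
    refine ⟨3, Subtype.ext ?_⟩
    show (u ^ n) ^ (2 ^ 3) = 1
    rw [← zpow_natCast, ← zpow_mul, mul_comm, zpow_mul, zpow_natCast]
    norm_num [hu8]
  refine ⟨coreSub 1 ⊔ Subgroup.zpowers u, ?_⟩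
  have hpres : ∀ g ∈ coreSub (1 : ↥M24) ⊔ Subgroup.zpowers u, g • octA = octA := by
    intro g hg
    have hgC : g ∈ Subgroup.centralizer ({z} : Set ↥M24) :=
      sup_le (coreSub_le_centralizer hz) (Subgroup.zpowers_le.mpr huC) hg
    have hzr : Repr z.1 invAN := crepr_one_iff.mp hz
    have hcomm : g.1 * z.1 = z.1 * g.1 :=
      congrArg Subtype.val (Subgroup.mem_centralizer_singleton_iff.mp hgC)
    have h := fixed_conj g.1 z.1
    rw [hcomm, mul_inv_cancel_right, invA_fixed hzr] at h
    exact h.symm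
  have hupow : ∀ n : ℕ, Repr (u ^ n : ↥M24).1 (eightPow n) := by
    intro n
    induction n with
    | zero => rw [pow_zero]; exact repr_one
    | succ n ih => rw [pow_succ']; exact hu'.mul ih
  have hu7 : ∀ n : ℕ, (u ^ n : ↥M24) • pt 7 = pt 7 := by
    intro n
    induction n with
    | zero => rw [pow_zero, one_smul]
    | succ n ih => rw [pow_succ', mul_smul, ih, smul_pt_of_repr (i := 7) (j := 7) hu' h5]
  have humem : ∀ n : ℕ, (u ^ n : ↥M24) ∈ coreSub (1 : ↥M24) ⊔ Subgroup.zpowers u :=
    fun n => Subgroup.mem_sup_right (Subgroup.pow_mem _ (Subgroup.mem_zpowers u) n)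
  refine
    { pGroup := by
        rw [sup_comm]
        exact hcyc.to_sup_of_normal_right' coreSub_pGroup
          (Subgroup.zpowers_le.mpr (coreSub_normalized hz huC))
      preserves := hpres
      onOctad := fun y hy => ?_
      outside := fun y hy => ?_
      pair := ?_
      quad := fun y hy => ?_ }
  · have h := List.all_eq_true.mp octad_image_check (idx y).val (List.mem_range.mpr (idx y).isLt)
    rw [show invAFix.testBit (idx y).val = true from mem_setOf'.mp hy] at h
    simp only [Bool.not_true, Bool.false_or, List.any_eq_true] at h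
    obtain ⟨p, hp, e⟩ := h
    obtain ⟨g, hg⟩ := exists_crepr_of_valid (k := 1) coreList_valid hp
    exact ⟨g, Subgroup.mem_sup_left (mem_coreSub.mpr ⟨p, hp, hg⟩),
      (smul_pt_of_repr (i := 7) (j := idx y) (crepr_one_iff.mp hg) e).trans (pt_idx y)⟩
  · have h := List.all_eq_true.mp outside_image_check (idx y).val (List.mem_range.mpr (idx y).isLt)
    rw [Bool.eq_false_iff.mpr (fun e => hy (mem_setOf'.mpr e))] at h
    simp only [Bool.false_or, List.any_eq_true, Bool.and_eq_true] at h
    obtain ⟨p, hp, e7, e⟩ := h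
    obtain ⟨g, hg⟩ := exists_crepr_of_valid (k := 1) fourList_valid hp
    exact ⟨g, Subgroup.mem_sup_left (fourSub_le (mem_fourSub.mpr ⟨p, hp, hg⟩)),
      smul_pt_of_repr (i := 7) (j := 7) (crepr_one_iff.mp hg) e7,
      (smul_pt_of_repr (i := 0) (j := idx y) (crepr_one_iff.mp hg) e).trans (pt_idx y)⟩
  · have h := eight_classes
    simp only [Bool.and_eq_true, decide_eq_true_eq] at h
    exact ⟨u ^ 1, humem 1, hu7 1, smul_pt_of_repr (i := 12) (j := 18) (hupow 1) (Nat.beq_eq.mpr h.1)⟩
  · have h := eight_classes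
    simp only [Bool.and_eq_true, List.all_eq_true, List.any_eq_true] at h
    simp only [Finset.mem_insert, Finset.mem_singleton] at hy
    rcases hy with rfl | rfl | rfl | rfl
    · exact ⟨1, one_mem _, one_smul _ _, one_smul _ _⟩
    · obtain ⟨n, -, e⟩ := h.2 13 (by simp)
      exact ⟨u ^ n, humem n, hu7 n, smul_pt_of_repr (i := 4) (hupow n) e⟩
    · obtain ⟨n, -, e⟩ := h.2 20 (by simp)
      exact ⟨u ^ n, humem n, hu7 n, smul_pt_of_repr (i := 4) (hupow n) e⟩
    · obtain ⟨n, -, e⟩ := h.2 10 (by simp)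
      exact ⟨u ^ n, humem n, hu7 n, smul_pt_of_repr (i := 4) (hupow n) e⟩

/-! ### Elements of prime order -/

/-- An element fixing five points has order dividing 48. -/
theorem pow_48_of_fixes {g : Equiv.Perm GolayPt} (hg : g ∈ M24) (x : Fin 5 ↪ GolayPt)
    (h : ∀ i, g (x i) = x i) : g ^ 48 = 1 := by
  obtain ⟨σ, hσ⟩ := exists_M24_move_base5 x
  have hfix : ∀ i, (σ.1⁻¹ * g * σ.1) (base5 i) = base5 i := by
    intro i
    rw [Equiv.Perm.mul_apply, Equiv.Perm.mul_apply, hσ, h, Equiv.Perm.inv_eq_iff_eq, hσ]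
  obtain ⟨p, hp, hr⟩ := mem_stab5List_of_fixes (mul_mem (mul_mem (inv_mem σ.2) hg) σ.2) hfix
  have hchk : stab5List.all (fun p => samePerm
      (let p3 := compN p (compN p p); let p6 := compN p3 p3; let p12 := compN p6 p6; compN p12 p12) idN ||
      samePerm (let p2 := compN p p; let p4 := compN p2 p2; let p8 := compN p4 p4;
        let p16 := compN p8 p8; compN p16 (compN p16 p16)) idN) = true := by decide +kernel
  set τ := σ.1⁻¹ * g * σ.1 with hτ
  have h48 : τ ^ 48 = 1 := by
    rcases (Bool.or_eq_true _ _).mp (List.all_eq_true.mp hchk p hp) with e | e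
    · have h3 := hr.mul (hr.mul hr)
      have h6 := h3.mul h3
      have h24 := (h6.mul h6).mul (h6.mul h6)
      have : τ ^ 24 = 1 := by
        ext1 y
        refine idx_injective (Fin.ext ?_)
        rw [show τ ^ 24 = ((τ * (τ * τ)) * (τ * (τ * τ)) * ((τ * (τ * τ)) * (τ * (τ * τ)))) *
          ((τ * (τ * τ)) * (τ * (τ * τ)) * ((τ * (τ * τ)) * (τ * (τ * τ)))) by
            simp only [pow_succ, pow_zero, one_mul, mul_assoc], h24.apply, Equiv.Perm.one_apply,
          Nat.eq_of_beq_eq_true (List.all_eq_true.mp e _ (List.mem_range.mpr (idx y).isLt)),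
          ← repr_one.apply, Equiv.Perm.one_apply]
      rw [show 48 = 24 * 2 from rfl, pow_mul, this, one_pow]
    · have h2 := hr.mul hr
      have h4 := h2.mul h2
      have h16 := (h4.mul h4).mul (h4.mul h4)
      have hh := h16.mul (h16.mul h16)
      have : (τ ^ 16) * (τ ^ 16 * τ ^ 16) = 1 := by
        ext1 y
        refine idx_injective (Fin.ext ?_)
        rw [show τ ^ 16 = ((τ * τ) * (τ * τ) * ((τ * τ) * (τ * τ))) *
          ((τ * τ) * (τ * τ) * ((τ * τ) * (τ * τ))) by
            simp only [pow_succ, pow_zero, one_mul, mul_assoc], hh.apply, Equiv.Perm.one_apply,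
          Nat.eq_of_beq_eq_true (List.all_eq_true.mp e _ (List.mem_range.mpr (idx y).isLt)),
          ← repr_one.apply, Equiv.Perm.one_apply]
      rw [← pow_add, ← pow_add] at this
      exact this
  have : g = σ.1 * τ * σ.1⁻¹ := by rw [hτ]; group
  rw [this, conj_pow, h48]; group

/-- The fixed points of an element. -/
def fixSet (g : ↥M24) : Finset GolayPt := Finset.univ.filter fun x => g • x = x

theorem mem_fixSet {g : ↥M24} {x : GolayPt} : x ∈ fixSet g ↔ g • x = x := by simp [fixSet]

/-- Fixed points on an invariant set, modulo the order. -/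
theorem card_modEq_fix {g : ↥M24} {p : ℕ} (hp : p.Prime) (hg : orderOf g = p) (T : Finset GolayPt)
    (hT : ∀ x ∈ T, g • x ∈ T) : T.card ≡ (T ∩ fixSet g).card [MOD p] := by
  have hinv : ∀ m : Subgroup.zpowers g, ∀ x ∈ T, m.1 • x ∈ T := by
    intro m x hx
    obtain ⟨n, hn⟩ := (mem_powers_iff_mem_zpowers (x := g) (y := m.1)).mpr m.2
    rw [← hn]
    show g ^ n • x ∈ T
    clear hn
    induction n with
    | zero => rwa [pow_zero, one_smul]
    | succ n ih => rw [pow_succ', mul_smul]; exact hT _ ih
  let S : SubMulAction (Subgroup.zpowers g) GolayPt :=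
    { carrier := {x | x ∈ T}
      smul_mem' := fun m {x} hx => hinv m x hx }
  haveI : Fact p.Prime := ⟨hp⟩
  have hP : IsPGroup p (Subgroup.zpowers g) :=
    IsPGroup.of_card (n := 1) (by rw [Nat.card_zpowers, hg, pow_one])
  have h := hP.card_modEq_card_fixedPoints S
  have e1 : Nat.card S = T.card := by
    rw [show T.card = Nat.card T from (Nat.card_eq_finsetCard T).symm]
    exact Nat.card_congr (Equiv.subtypeEquivRight fun x => Iff.rfl)
  have e2 : Nat.card (MulAction.fixedPoints (Subgroup.zpowers g) S) = (T ∩ fixSet g).card := by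
    rw [← Nat.card_eq_finsetCard (T ∩ fixSet g)]
    refine Nat.card_congr
      { toFun := fun x => ⟨x.1.1, Finset.mem_inter.mpr ⟨x.1.2, mem_fixSet.mpr
          (congrArg Subtype.val (x.2 ⟨g, Subgroup.mem_zpowers g⟩))⟩⟩
        invFun := fun x => ⟨⟨x.1, (Finset.mem_inter.mp x.2).1⟩, fun m => Subtype.ext ?_⟩
        left_inv := fun x => rfl
        right_inv := fun x => rfl }
    obtain ⟨n, hn⟩ := (mem_powers_iff_mem_zpowers (x := g) (y := m.1)).mpr m.2
    show m.1 • x.1 = x.1
    rw [← hn]
    show g ^ n • x.1 = x.1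
    clear hn
    induction n with
    | zero => rw [pow_zero, one_smul]
    | succ n ih => rw [pow_succ', mul_smul, ih, mem_fixSet.mp (Finset.mem_inter.mp x.2).2]
  rw [e1, e2] at h
  exact h

theorem card_fixSet {g : ↥M24} {p : ℕ} (hp : p.Prime) (h5 : 5 ≤ p) (hg : orderOf g = p) :
    (fixSet g).card = 24 % p := by
  have h := card_modEq_fix hp hg Finset.univ fun x _ => Finset.mem_univ _
  rw [Finset.univ_inter, Finset.card_univ, card_golayPt] at h
  have hle : (fixSet g).card < 5 := by
    by_contra hge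
    obtain ⟨x, hx⟩ := exists_emb_in (fixSet g) (k := 5) (by omega)
    have h48 := pow_48_of_fixes g.2 x fun i => mem_fixSet.mp (hx i)
    have hd : p ∣ 48 := hg ▸ orderOf_dvd_of_pow_eq_one (Subtype.ext h48 : g ^ 48 = 1)
    have : p ∣ 2 ∨ p ∣ 3 := by
      have h' : p ∣ 2 ^ 4 * 3 := hd
      rcases (Nat.Prime.dvd_mul hp).mp h' with h' | h'
      · exact Or.inl (hp.dvd_of_dvd_pow h')
      · exact Or.inr h'
    rcases this with h' | h' <;> have := Nat.le_of_dvd (by norm_num) h' <;> omega
  have := Nat.mod_eq_of_lt (show (fixSet g).card < p by omega)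
  rw [← this]
  exact h.symm

/-- An invariant set of size `24 % p` is the fixed point set. -/
theorem fixSet_eq {g : ↥M24} {p : ℕ} (hp : p.Prime) (h5 : 5 ≤ p) (hg : orderOf g = p)
    (T : Finset GolayPt) (hT : ∀ x ∈ T, g • x ∈ T) (hc : T.card = 24 % p) : fixSet g = T := by
  have h := card_modEq_fix hp hg T hT
  have h1 : (T ∩ fixSet g).card ≤ T.card := Finset.card_le_card Finset.inter_subset_left
  have h2 : T.card < p := by rw [hc]; exact Nat.mod_lt _ hp.pos
  have h3 : (T ∩ fixSet g).card = T.card :=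
    (Nat.ModEq.eq_of_lt_of_lt h h2 (lt_of_le_of_lt h1 h2)).symm
  have h4 : T ⊆ fixSet g := by
    rw [← Finset.inter_eq_left]
    exact Finset.eq_of_subset_of_card_le Finset.inter_subset_left h3.ge
  exact (Finset.eq_of_subset_of_card_le h4 (by rw [card_fixSet hp h5 hg, hc])).symm

end H90
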