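import Cfsg.Agent.H90.SteinerCounts
import Cfsg.Agent.H90.Orbits
import Cfsg.Agent.H91.S3622
import Cfsg.Agent.H95.Unique

/-! Uniqueness of the large Steiner systems via the uniqueness of the binary code. -/

set_option autoImplicit false
set_option linter.unusedSectionVars false
set_option maxHeartbeats 1000000

namespace H90

open Finset Cfsg

variable {ι : Type*} [Fintype ι] [DecidableEq ι]

/-- The code spanned by the indicator words of a family. -/
def familyCode (G : Set (Finset ι)) : Submodule (ZMod 2) (ι → ZMod 2) :=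
  Submodule.span (ZMod 2) (H94.word2 '' G)

theorem familyCode_orth {G : Set (Finset ι)}
    (hI : ∀ a ∈ G, ∀ b ∈ G, Even (a ∩ b).card) :
    ∀ v ∈ familyCode G, ∀ w ∈ familyCode G, ∑ i, v i * w i = 0 := by
  intro v hv w hw
  induction hv, hw using Submodule.span_induction₂ with
  | mem_mem x y hx hy =>
    obtain ⟨a, ha, rfl⟩ := hx
    obtain ⟨b, hb, rfl⟩ := hy
    rw [H94.dot_eq_card, H94.sup2_word2, H94.sup2_word2, ZMod.natCast_eq_zero_iff_even]
    exact hI a ha b hb
  | zero_left y _ => simp
  | zero_right x _ => simp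
  | add_left x y z _ _ _ h1 h2 => simp [add_mul, Finset.sum_add_distrib, h1, h2]
  | add_right x y z _ _ _ h1 h2 => simp [mul_add, Finset.sum_add_distrib, h1, h2]
  | smul_left r x y _ _ h => simp [mul_assoc, ← Finset.mul_sum, h]
  | smul_right r x y _ _ h => simp [mul_left_comm, ← Finset.mul_sum, h]

theorem familyCode_doubly_even {G : Set (Finset ι)}
    (hI : ∀ a ∈ G, ∀ b ∈ G, Even (a ∩ b).card) (h4 : ∀ a ∈ G, 4 ∣ a.card) :
    ∀ w ∈ familyCode G, 4 ∣ hammingNorm w := by
  intro w hw
  suffices h : w ∈ familyCode G ∧ 4 ∣ hammingNorm w from h.2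
  induction hw using Submodule.span_induction with
  | mem v hv =>
    refine ⟨Submodule.subset_span hv, ?_⟩
    obtain ⟨a, ha, rfl⟩ := hv
    rw [H94.hammingNorm_eq_sup2, H94.sup2_word2]; exact h4 a ha
  | zero => exact ⟨zero_mem _, by simp⟩
  | add v v' _ _ hv hv' =>
    refine ⟨add_mem hv.1 hv'.1, ?_⟩
    have h1 := H94.norm_add_aux v v'
    have h2 : 2 ∣ (H94.sup2 v ∩ H94.sup2 v').card := by
      rw [← ZMod.natCast_eq_zero_iff _ 2, ← H94.dot_eq_card]
      exact familyCode_orth hI v hv.1 v' hv'.1
    obtain ⟨a, ha⟩ := h2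
    obtain ⟨b, hb⟩ := hv.2
    obtain ⟨c, hc⟩ := hv'.2
    omega
  | smul c v _ hv =>
    refine ⟨Submodule.smul_mem _ c hv.1, ?_⟩
    rcases H94.zmod2_cases c with rfl | rfl
    · simp
    · rw [one_smul]; exact hv.2

theorem familyCode_min8 {G : Set (Finset GolayPt)}
    (hI : ∀ a ∈ G, ∀ b ∈ G, Even (a ∩ b).card) (h4 : ∀ a ∈ G, 4 ∣ a.card)
    (hdual : ∀ x : Finset GolayPt, (∀ g ∈ G, Even (g ∩ x).card) → x = ∅ ∨ 7 ≤ x.card) :
    H95.SDCode (familyCode G) := by
  classical
  set C := familyCode G with hC
  have hdot : ∀ v : GolayPt → ZMod 2, (∀ w ∈ C, ∑ i, w i * v i = 0) →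
      v = 0 ∨ 7 ≤ hammingNorm v := by
    intro v hv
    rcases hdual (H94.sup2 v) fun g hg => by
      have := hv _ (Submodule.subset_span ⟨g, hg, rfl⟩)
      rwa [H94.dot_eq_card, H94.sup2_word2, ZMod.natCast_eq_zero_iff_even] at this with h | h
    · exact Or.inl (H94.sup2_injective (by rw [h, H94.sup2_zero]))
    · exact Or.inr h
  have horth := familyCode_orth hI
  set B := (dotProductEquiv (ZMod 2) GolayPt).toLinearMap with hB
  set D := LinearMap.BilinForm.orthogonal B C with hD
  have hDmem : ∀ v, v ∈ D ↔ ∀ w ∈ C, ∑ i, w i * v i = 0 := fun v =>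
    LinearMap.BilinForm.mem_orthogonal_iff
  have hfin : Module.finrank (ZMod 2) D = 24 - Module.finrank (ZMod 2) C := by
    rw [hD, LinearMap.BilinForm.finrank_orthogonal H95.dot2_nondeg,
      Module.finrank_fintype_fun_eq_card, card_golayPt]
  -- small words lie in distinct cosets of the dual
  let S : Finset (GolayPt → ZMod 2) := univ.filter fun v => hammingNorm v ≤ 3
  have hinj : Set.InjOn (Submodule.Quotient.mk (p := D)) (S : Set (GolayPt → ZMod 2)) := by
    intro u hu v hv huv
    simp only [S, coe_filter, mem_univ, true_and, Set.mem_ofPred_eq] at hu hv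
    rw [Submodule.Quotient.eq, H94.sub_eq_add2] at huv
    rcases hdot _ ((hDmem _).mp huv) with h | h
    · rw [← H94.sub_eq_add2] at h; exact sub_eq_zero.mp h
    · have := H94.norm_add_aux u v; omega
  have hScard : S.card = 2325 := by
    have hs : S = (range 4).biUnion fun k => univ.filter fun v : GolayPt → ZMod 2 =>
        hammingNorm v = k := by
      ext v; simp only [S, mem_filter, mem_univ, true_and, mem_biUnion, mem_range]
      exact ⟨fun h => ⟨_, by omega, rfl⟩, by rintro ⟨k, hk, rfl⟩; omega⟩
    rw [hs, card_biUnion]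
    · simp only [H94.card_norm_eq, card_golayPt]
      decide +kernel
    · intro a _ b _ hab
      exact disjoint_filter.mpr fun v _ h1 h2 => hab (h1.symm.trans h2)
  have hle : (2325 : ℕ) ≤ 2 ^ (24 - Module.finrank (ZMod 2) D) := by
    haveI : Fintype ((GolayPt → ZMod 2) ⧸ D) := Fintype.ofFinite _
    have h1 := Finset.card_le_univ (S.image (Submodule.Quotient.mk (p := D)))
    rw [card_image_of_injOn hinj, hScard, ← Nat.card_eq_fintype_card,
      Module.natCard_eq_pow_finrank (K := ZMod 2), Nat.card_zmod, Submodule.finrank_quotient,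
      Module.finrank_fintype_fun_eq_card, card_golayPt] at h1
    exact h1
  have hge : 12 ≤ 24 - Module.finrank (ZMod 2) D := by
    by_contra h
    have : 2 ^ (24 - Module.finrank (ZMod 2) D) ≤ 2 ^ 11 := Nat.pow_le_pow_right (by norm_num) (by omega)
    omega
  have hCD : C ≤ D := fun v hv => (hDmem v).mpr fun w hw => horth w hw v hv
  have hdimle := Submodule.finrank_mono hCD
  refine ⟨⟨card_golayPt, by omega, fun w hw h0 => ?_⟩, horth⟩
  rcases hdot w ((hDmem w).mp (hCD hw)) with h | h
  · exact absurd h h0
  · obtain ⟨c, hc⟩ := familyCode_doubly_even hI h4 w hw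
    omega

/-- A family with even intersections and large dual weight embeds in the code. -/
theorem exists_code_embedding {G : Set (Finset ι)} (h24 : Fintype.card ι = 24)
    (hI : ∀ a ∈ G, ∀ b ∈ G, Even (a ∩ b).card) (h4 : ∀ a ∈ G, 4 ∣ a.card)
    (hdual : ∀ x : Finset ι, (∀ g ∈ G, Even (g ∩ x).card) → x = ∅ ∨ 7 ≤ x.card) :
    ∃ e : ι ≃ GolayPt, ∀ g ∈ G,
      g.image e ∈ supports (golayCode : Set (GolayPt → ZMod 2)) := by
  classical
  let e0 : ι ≃ GolayPt := Fintype.equivOfCardEq (by rw [h24, card_golayPt])
  let G' : Set (Finset GolayPt) := (fun g => g.image e0) '' G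
  have hsd : H95.SDCode (familyCode G') := by
    refine familyCode_min8 ?_ ?_ ?_
    · rintro _ ⟨a, ha, rfl⟩ _ ⟨b, hb, rfl⟩
      rw [← image_inter _ _ e0.injective, card_image_of_injective _ e0.injective]
      exact hI a ha b hb
    · rintro _ ⟨a, ha, rfl⟩
      rw [card_image_of_injective _ e0.injective]
      exact h4 a ha
    · intro x hx
      have hx' : (x.image e0.symm).image e0 = x := by
        simp [image_image]
      have := hdual (x.image e0.symm) fun g hg => by
        have h1 := hx _ ⟨g, hg, rfl⟩
        rw [← hx', ← image_inter _ _ e0.injective, card_image_of_injective _ e0.injective] at h1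
        exact h1
      rw [image_eq_empty, card_image_of_injective _ e0.symm.injective] at this
      exact this
  obtain ⟨σ, hσ⟩ := H95.sdCode_unique hsd
  refine ⟨e0.trans σ, fun g hg => ⟨H95.permWord σ (H94.word2 (g.image e0)), ?_, ?_⟩⟩
  · rw [SetLike.mem_coe, ← hσ]
    exact ⟨_, Submodule.subset_span ⟨_, ⟨g, hg, rfl⟩, rfl⟩, rfl⟩
  · show support₂ (fun x => H94.word2 (g.image e0) (σ.symm x)) = _
    rw [support₂_comp_symm, show support₂ (H94.word2 (g.image e0)) = g.image e0 from
      H94.sup2_word2 _, image_image]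
    rfl

/-! ### S(5,8,24) -/

variable {α : Type*} [Fintype α] [DecidableEq α]

theorem s24_dual {B : Set (Finset α)} (hα : Fintype.card α = 24) (hB : IsSteinerSystem 5 8 B)
    (x : Finset α) (hx : ∀ b ∈ B, Even (b ∩ x).card) : x = ∅ ∨ 7 ≤ x.card := by
  by_contra hno
  simp only [not_or, not_le] at hno
  have h1 : 1 ≤ x.card := card_pos.mpr (nonempty_iff_ne_empty.mpr hno.1)
  have hz : ∀ i, i % 2 = 1 → meetNum B x i = 0 := fun i hi =>
    meetNum_eq_zero x i fun b hb e => by
      have := Nat.even_iff.mp (hx b hb)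
      omega
  have hN : ∀ b ∈ B, (b ∩ x).card ≤ 6 := fun b _ =>
    (card_le_card inter_subset_right).trans (by omega)
  have hM := fun j m hj hm => steiner_moment hB x 6 hN j m hj (by norm_num) hm
  have e1 := hM 1 253 (by norm_num) (by rw [hα]; decide +kernel)
  have e2 := hM 2 77 (by norm_num) (by rw [hα]; decide +kernel)
  have e3 := hM 3 21 (by norm_num) (by rw [hα]; decide +kernel)
  have e4 := hM 4 5 (by norm_num) (by rw [hα]; decide +kernel)
  have e5 := hM 5 1 (by norm_num) (by rw [hα]; decide +kernel)
  simp only [sum_range_succ, sum_range_zero, hz 1 rfl, hz 3 rfl, hz 5 rfl] at e1 e2 e3 e4 e5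
  obtain ⟨k, hk⟩ : ∃ k, x.card = k := ⟨_, rfl⟩
  rw [hk] at h1 e1 e2 e3 e4 e5 hno
  have hk6 : k ≤ 6 := by omega
  clear hM hN hz hx
  interval_cases k <;> norm_num [Nat.choose] at e1 e2 e3 e4 e5 <;> omega

/-- Every S(5,8,24) is the octad system. -/
theorem s24_iso {B : Set (Finset α)} (hα : Fintype.card α = 24) (hB : IsSteinerSystem 5 8 B) :
    ∃ e : α ≃ GolayPt, (fun b => b.image e) '' B = octads := by
  obtain ⟨e, he⟩ := exists_code_embedding hα (G := B)
    (fun a ha b hb => by
      rcases eq_or_ne a b with rfl | hne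
      · rw [inter_self, hB.1 a ha]; decide
      · rcases s24_inter hα hB ha hb hne with h | h | h <;> rw [h] <;> decide)
    (fun a ha => by rw [hB.1 a ha]; decide) (s24_dual hα hB)
  refine ⟨e, Set.Subset.antisymm ?_ fun o ho => ?_⟩
  · rintro _ ⟨b, hb, rfl⟩
    exact ⟨he b hb, by rw [card_image_of_injective _ e.injective, hB.1 b hb]⟩
  · obtain ⟨t, hto, htc⟩ := exists_subset_card_eq (s := o) (n := 5) (by rw [ho.2]; norm_num)
    obtain ⟨b, ⟨hb, hsb⟩, -⟩ := hB.2 (t.image e.symm)
      (by rw [card_image_of_injective _ e.symm.injective, htc])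
    refine ⟨b, hb, octad_eq_of_five_le_inter ⟨he b hb, ?_⟩ ho ?_⟩
    · rw [card_image_of_injective _ e.injective, hB.1 b hb]
    · rw [← htc]
      refine card_le_card fun z hz => mem_inter.mpr ⟨mem_image.mpr ⟨e.symm z, ?_, ?_⟩, hto hz⟩
      · exact hsb (mem_image_of_mem _ hz)
      · exact e.apply_symm_apply z

theorem setSystemIso_of_model {β γ : Type*} [DecidableEq β] [DecidableEq γ]
    {B : Set (Finset α)} {B' : Set (Finset β)} {D : Set (Finset γ)} {e : α ≃ γ} {e' : β ≃ γ}
    (h : (fun b => b.image e) '' B = D) (h' : (fun b => b.image e') '' B' = D) :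
    SetSystemIso B B' := by
  refine ⟨e.trans e'.symm, ?_⟩
  have : B' = (fun b : Finset γ => b.image e'.symm) '' D := by
    rw [← h', Set.image_image]
    simp [image_image]
  rw [this, ← h, Set.image_image]
  simp [image_image, Function.comp_def]

theorem s24_symmDiff {B : Set (Finset α)} (hα : Fintype.card α = 24) (hB : IsSteinerSystem 5 8 B)
    {b c : Finset α} (hb : b ∈ B) (hc : c ∈ B) (h4 : (b ∩ c).card = 4) : symmDiff b c ∈ B := by
  obtain ⟨e, he⟩ := s24_iso hα hB
  have hb' : b.image e ∈ octads := he ▸ ⟨b, hb, rfl⟩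
  have hc' : c.image e ∈ octads := he ▸ ⟨c, hc, rfl⟩
  have hi : ∀ x y : Finset α, (symmDiff x y).image e = symmDiff (x.image e) (y.image e) := fun x y =>
    image_symmDiff _ _ e.injective
  have hmem : (symmDiff b c).image e ∈ octads := by
    obtain ⟨v, hv, hvs⟩ := hb'.1
    obtain ⟨w, hw, hws⟩ := hc'.1
    refine ⟨⟨v + w, add_mem hv hw, ?_⟩, ?_⟩
    · rw [hi, ← hvs, ← hws]; exact H94.sup2_add v w
    · rw [card_image_of_injective _ e.injective]
      have := H94.card_symmDiff_add b c
      rw [hB.1 b hb, hB.1 c hc, h4] at this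
      omega
  rw [← he] at hmem
  obtain ⟨d, hd, hde⟩ := hmem
  exact image_injective e.injective hde ▸ hd

/-! ### S(4,7,23) -/

/-- Blocks extended by the new point. -/
def lift23 (B : Set (Finset α)) : Set (Finset (Option α)) :=
  (fun b => insertNone b) '' B

theorem exists_insertNone {s : Finset α} {P : Option α → Prop} :
    (∃ a ∈ insertNone s, P a) ↔ P none ∨ ∃ a ∈ s, P (some a) := by
  constructor
  · rintro ⟨_ | a, ha, hp⟩
    · exact Or.inl hp
    · exact Or.inr ⟨a, some_mem_insertNone.mp ha, hp⟩
  · rintro (hp | ⟨a, ha, hp⟩)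
    · exact ⟨none, none_mem_insertNone, hp⟩
    · exact ⟨some a, some_mem_insertNone.mpr ha, hp⟩

theorem insertNone_inter_card (b c : Finset α) :
    (insertNone b ∩ insertNone c).card = (b ∩ c).card + 1 := by
  have : insertNone b ∩ insertNone c = insertNone (b ∩ c) := by
    ext (_ | a) <;> simp
  rw [this, card_insertNone]

theorem insertNone_inter (b : Finset α) (x : Finset (Option α)) :
    (insertNone b ∩ x).card = (b ∩ eraseNone x).card + if none ∈ x then 1 else 0 := by
  by_cases h : none ∈ x
  · have : insertNone b ∩ x = insertNone (b ∩ eraseNone x) := by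
      ext (_ | a) <;> simp [h]
    rw [this, card_insertNone, if_pos h]
  · have : insertNone b ∩ x = (b ∩ eraseNone x).map Function.Embedding.some := by
      ext (_ | a) <;> simp [h]
    rw [this, card_map, if_neg h, add_zero]

theorem card_eraseNone_add (x : Finset (Option α)) :
    (eraseNone x).card + (if none ∈ x then 1 else 0) = x.card := by
  have h := insertNone_inter (univ : Finset α) x
  have : insertNone (univ : Finset α) = univ := by ext (_ | a) <;> simp
  rw [this, univ_inter, univ_inter] at h
  exact h.symm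

theorem s23_dual {B : Set (Finset α)} (hα : Fintype.card α = 23) (hB : IsSteinerSystem 4 7 B)
    (x : Finset (Option α)) (hx : ∀ g ∈ lift23 B, Even (g ∩ x).card) :
    x = ∅ ∨ 7 ≤ x.card := by
  by_contra hno
  simp only [not_or, not_le] at hno
  obtain ⟨p, hp⟩ : ∃ p, (if none ∈ x then 1 else 0) = p := ⟨_, rfl⟩
  have hp1 : p ≤ 1 := by rw [← hp]; split_ifs <;> omega
  set y := eraseNone x
  have hcard : y.card + p = x.card := hp ▸ card_eraseNone_add x
  have hpos : 1 ≤ x.card := card_pos.mpr (nonempty_iff_ne_empty.mpr hno.1)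
  have hpar : ∀ b ∈ B, ((b ∩ y).card + p) % 2 = 0 := fun b hb => by
    have := hx _ ⟨b, hb, rfl⟩
    rwa [insertNone_inter, hp, Nat.even_iff] at this
  have hz : ∀ i, (i + p) % 2 = 1 → meetNum B y i = 0 := fun i hi =>
    meetNum_eq_zero y i fun b hb e => by
      have := hpar b hb
      omega
  have hN : ∀ b ∈ B, (b ∩ y).card ≤ 6 := fun b _ =>
    (card_le_card inter_subset_right).trans (by omega)
  have hM := fun j m hj hm => steiner_moment hB y 6 hN j m hj (by norm_num) hm
  have e0 := hM 0 253 (by norm_num) (by rw [hα]; decide +kernel)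
  have e1 := hM 1 77 (by norm_num) (by rw [hα]; decide +kernel)
  have e2 := hM 2 21 (by norm_num) (by rw [hα]; decide +kernel)
  have e3 := hM 3 5 (by norm_num) (by rw [hα]; decide +kernel)
  have e4 := hM 4 1 (by norm_num) (by rw [hα]; decide +kernel)
  simp only [sum_range_succ, sum_range_zero] at e0 e1 e2 e3 e4
  obtain ⟨k, hk⟩ : ∃ k, y.card = k := ⟨_, rfl⟩
  rw [hk] at hcard e0 e1 e2 e3 e4
  have hk6 : k ≤ 6 := by omega
  have z0 := hz 0
  have z1 := hz 1
  have z2 := hz 2
  have z3 := hz 3
  have z4 := hz 4
  have z5 := hz 5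
  have z6 := hz 6
  clear hM hN hz hx hpar
  interval_cases k <;> norm_num [Nat.choose] at e0 e1 e2 e3 e4 <;> omega

/-- The model: octads through the extra point, with that point erased. -/
def model23 : Set (Finset (ZMod 23)) :=
  {b | ∃ o ∈ octads, (none : GolayPt) ∈ o ∧ b = eraseNone o}

theorem s23_iso {B : Set (Finset α)} (hα : Fintype.card α = 23) (hB : IsSteinerSystem 4 7 B) :
    ∃ e : α ≃ ZMod 23, (fun b => b.image e) '' B = model23 := by
  classical
  obtain ⟨e, he⟩ := exists_code_embedding (ι := Option α) (G := lift23 B)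
    (by rw [Fintype.card_option, hα])
    (by
      rintro _ ⟨a, ha, rfl⟩ _ ⟨b, hb, rfl⟩
      rw [insertNone_inter_card]
      rcases eq_or_ne a b with rfl | hne
      · rw [inter_self, hB.1 a ha]; decide
      · rcases s23_inter hα hB ha hb hne with h | h <;> rw [h] <;> decide)
    (by rintro _ ⟨a, ha, rfl⟩; rw [card_insertNone, hB.1 a ha]; decide) (s23_dual hα hB)
  obtain ⟨g, hg, hgn⟩ := exists_move1 (e none) none
  set f : Option α ≃ GolayPt := e.trans g with hf
  have hfn : f none = none := hgn
  set d : α ≃ ZMod 23 := Equiv.removeNone f with hd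
  have hfs : ∀ a, f (some a) = some (d a) := by
    intro a
    obtain ⟨c, hc⟩ : ∃ c, f (some a) = some c := by
      rcases h : f (some a) with _ | c
      · exact absurd (f.injective (h.trans hfn.symm)) (by simp)
      · exact ⟨c, rfl⟩
    rw [hd, Equiv.removeNone_some _ ⟨c, hc⟩]
  have hblock : ∀ b ∈ B, (insertNone b).image f ∈ octads := by
    intro b hb
    have h1 : (insertNone b).image e ∈ octads :=
      ⟨he _ ⟨b, hb, rfl⟩, by rw [card_image_of_injective _ e.injective, card_insertNone, hB.1 b hb]⟩
    rw [show (insertNone b).image f = ((insertNone b).image e).image g by rw [image_image]; rfl]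
    exact image_mem_wordsOfWeight hg h1
  have herase : ∀ b : Finset α, eraseNone ((insertNone b).image f) = b.image d := by
    intro b
    ext z
    simp only [mem_eraseNone, mem_image, exists_insertNone, hfn, hfs,
      reduceCtorEq, Option.some.injEq, false_or]
  refine ⟨d, Set.Subset.antisymm ?_ ?_⟩
  · rintro _ ⟨b, hb, rfl⟩
    exact ⟨_, hblock b hb, mem_image.mpr ⟨none, by simp, hfn⟩, (herase b).symm⟩
  · rintro _ ⟨o, ho, hno, rfl⟩
    have h7 : (eraseNone o).card = 7 := by
      have := card_eraseNone_add o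
      rw [if_pos hno, ho.2] at this; omega
    obtain ⟨t, hto, htc⟩ := exists_subset_card_eq (s := eraseNone o) (n := 4) (by omega)
    obtain ⟨b, ⟨hb, hsb⟩, -⟩ := hB.2 (t.image d.symm)
      (by rw [card_image_of_injective _ d.symm.injective, htc])
    refine ⟨b, hb, ?_⟩
    show b.image d = eraseNone o
    rw [← herase]
    congr 1
    refine octad_eq_of_five_le_inter (hblock b hb) ho ?_
    calc 5 = (insertNone t).card := by rw [card_insertNone, htc]
      _ ≤ _ := card_le_card fun z hz => by
        rw [mem_inter]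
        cases z with
        | none => exact ⟨mem_image.mpr ⟨none, by simp, hfn⟩, hno⟩
        | some v =>
          have hv : v ∈ t := some_mem_insertNone.mp hz
          refine ⟨mem_image.mpr ⟨some (d.symm v), ?_, ?_⟩, mem_eraseNone.mp (hto hv)⟩
          · exact some_mem_insertNone.mpr (hsb (mem_image_of_mem _ hv))
          · rw [hfs, d.apply_symm_apply]

/-! ### S(3,6,22) -/

/-- A block with two new points. -/
def block22 (b : Finset α) : Finset (Option (Option α)) := insertNone (insertNone b)

theorem block22_inter (b : Finset α) (x : Finset (Option (Option α))) :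
    (block22 b ∩ x).card = (b ∩ eraseNone (eraseNone x)).card +
      (if some none ∈ x then 1 else 0) + (if none ∈ x then 1 else 0) := by
  rw [block22, insertNone_inter, insertNone_inter]
  simp only [mem_eraseNone]

theorem card22_add (x : Finset (Option (Option α))) :
    (eraseNone (eraseNone x)).card + (if some none ∈ x then 1 else 0) +
      (if none ∈ x then 1 else 0) = x.card := by
  rw [← card_eraseNone_add x, ← card_eraseNone_add (eraseNone x)]
  simp only [mem_eraseNone]

theorem s22_moments {B : Set (Finset α)} (hα : Fintype.card α = 22) (hB : IsSteinerSystem 3 6 B)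
    (y : Finset α) :
    meetNum B y 0 + meetNum B y 1 + meetNum B y 2 + meetNum B y 3 + meetNum B y 4 +
        meetNum B y 5 + meetNum B y 6 = 77 ∧
      meetNum B y 1 + 2 * meetNum B y 2 + 3 * meetNum B y 3 + 4 * meetNum B y 4 +
        5 * meetNum B y 5 + 6 * meetNum B y 6 = 21 * y.card ∧
      meetNum B y 2 + 3 * meetNum B y 3 + 6 * meetNum B y 4 + 10 * meetNum B y 5 +
        15 * meetNum B y 6 = 5 * y.card.choose 2 ∧
      meetNum B y 3 + 4 * meetNum B y 4 + 10 * meetNum B y 5 + 20 * meetNum B y 6 =
        y.card.choose 3 := by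
  have hM := fun j m hj hm => steiner_moment hB y 6
    (fun b hb => hB.1 b hb ▸ card_le_card inter_subset_left) j m hj (by norm_num) hm
  have e0 := hM 0 77 (by norm_num) (by rw [hα]; decide +kernel)
  have e1 := hM 1 21 (by norm_num) (by rw [hα]; decide +kernel)
  have e2 := hM 2 5 (by norm_num) (by rw [hα]; decide +kernel)
  have e3 := hM 3 1 (by norm_num) (by rw [hα]; decide +kernel)
  simp only [sum_range_succ, sum_range_zero, Nat.choose_one_right] at e0 e1 e2 e3
  norm_num [Nat.choose] at e0 e1 e2 e3
  refine ⟨?_, ?_, ?_, ?_⟩ <;> omega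

theorem s22_odd_meet {B : Set (Finset α)} (hα : Fintype.card α = 22) (hB : IsSteinerSystem 3 6 B)
    (y : Finset α) (hy : ∀ b ∈ B, (b ∩ y).card % 2 = 1) :
    y.card = 7 ∨ y.card = 11 ∨ y.card = 15 := by
  obtain ⟨e0, e1, e2, e3⟩ := s22_moments hα hB y
  have hz : ∀ i, i % 2 = 0 → meetNum B y i = 0 := fun i hi =>
    meetNum_eq_zero y i fun b hb e => by have := hy b hb; omega
  simp only [hz 0 rfl, hz 2 rfl, hz 4 rfl, hz 6 rfl] at e0 e1 e2 e3
  obtain ⟨k, hk⟩ : ∃ k, y.card = k := ⟨_, rfl⟩
  have hk22 : k ≤ 22 := hk ▸ hα ▸ card_le_univ y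
  rw [hk] at e1 e2 e3 ⊢
  clear hy hz
  interval_cases k <;> norm_num [Nat.choose] at e1 e2 e3 ⊢ <;> omega

theorem s22_even_meet {B : Set (Finset α)} (hα : Fintype.card α = 22) (hB : IsSteinerSystem 3 6 B)
    (y : Finset α) (hy : ∀ b ∈ B, (b ∩ y).card % 2 = 0) (h6 : y.card ≤ 6) :
    y.card = 0 ∨ y ∈ B := by
  obtain ⟨e0, e1, e2, e3⟩ := s22_moments hα hB y
  have hz : ∀ i, i % 2 = 1 → meetNum B y i = 0 := fun i hi =>
    meetNum_eq_zero y i fun b hb e => by have := hy b hb; omega
  simp only [hz 1 rfl, hz 3 rfl, hz 5 rfl] at e0 e1 e2 e3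
  obtain ⟨k, hk⟩ : ∃ k, y.card = k := ⟨_, rfl⟩
  rw [hk] at e1 e2 e3 h6 ⊢
  have h01 : k = 0 ∨ 0 < meetNum B y 6 ∧ k = 6 := by
    clear hy hz
    interval_cases k <;> norm_num [Nat.choose] at e1 e2 e3 ⊢ <;> omega
  rcases h01 with h | ⟨h, hk6⟩
  · exact Or.inl h
  · right
    obtain ⟨b, hb⟩ := card_pos.mp h
    rw [mem_filter, H94.mem_blockSet] at hb
    have h1 : b ∩ y = y := eq_of_subset_of_card_le inter_subset_right (by omega)
    have h2 : b ∩ y = b := eq_of_subset_of_card_le inter_subset_left (by rw [hB.1 b hb.1]; omega)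
    rw [← h1, h2]; exact hb.1

/-- The model: octads through two fixed points, with both erased. -/
def model22 : Set (Finset {x : ZMod 23 // x ≠ 0}) :=
  {b | ∃ o ∈ octads, (none : GolayPt) ∈ o ∧ (some 0 : GolayPt) ∈ o ∧
    b = (eraseNone o).subtype fun x => x ≠ 0}

theorem s22_iso {B : Set (Finset α)} (hα : Fintype.card α = 22) (hB : IsSteinerSystem 3 6 B) :
    ∃ e : α ≃ {x : ZMod 23 // x ≠ 0}, (fun b => b.image e) '' B = model22 := by
  classical
  set G0 : Set (Finset (Option (Option α))) := block22 '' B with hG0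
  have hI0 : ∀ a ∈ G0, ∀ b ∈ G0, Even (a ∩ b).card := by
    rintro _ ⟨a, ha, rfl⟩ _ ⟨b, hb, rfl⟩
    rw [block22, block22, insertNone_inter_card, insertNone_inter_card]
    rcases eq_or_ne a b with rfl | hne
    · rw [inter_self, hB.1 a ha]; decide
    · rcases H91.s22_inter hα hB ha hb hne with h | h <;> rw [h] <;> decide
  have h40 : ∀ a ∈ G0, 4 ∣ a.card := by
    rintro _ ⟨a, ha, rfl⟩
    rw [block22, card_insertNone, card_insertNone, hB.1 a ha]; decide
  set δ : Finset (Option (Option α)) := {none, some none} with hδ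
  have hδcard : δ.card = 2 := by rw [hδ]; exact card_pair (by simp)
  -- the new generator
  obtain ⟨z, hzorth, hzδ⟩ : ∃ z : Finset (Option (Option α)),
      (∀ g ∈ G0, Even (g ∩ z).card) ∧ ¬ Even (δ ∩ z).card := by
    have hnot : H94.word2 δ ∉ familyCode G0 := fun h => by
      have := familyCode_doubly_even hI0 h40 _ h
      rw [H94.hammingNorm_eq_sup2, H94.sup2_word2, hδcard] at this
      omega
    obtain ⟨φ, hφ, hφ0⟩ := Submodule.exists_dual_map_eq_bot_of_notMem hnot inferInstance
    refine ⟨H94.sup2 (fun i => φ (Pi.single i 1)), fun g hg => ?_, ?_⟩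
    all_goals
      have key : ∀ s : Finset (Option (Option α)),
          ((s ∩ H94.sup2 fun i => φ (Pi.single i 1)).card : ZMod 2) = φ (H94.word2 s) := by
        intro s
        conv_lhs => rw [← H94.sup2_word2 s, ← H94.dot_eq_card]
        have hw : H94.word2 s = ∑ i, H94.word2 s i • Pi.single i (1 : ZMod 2) := by
          funext j; simp [Finset.sum_apply, Pi.single_apply]
        conv_rhs => rw [hw, map_sum]
        simp [mul_comm]
    · rw [← ZMod.natCast_eq_zero_iff_even, key]
      have : φ (H94.word2 g) ∈ (familyCode G0).map φ :=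
        ⟨_, Submodule.subset_span ⟨g, hg, rfl⟩, rfl⟩
      rwa [hφ0, Submodule.mem_bot] at this
    · rw [← ZMod.natCast_eq_zero_iff_even, key]; exact hφ
  have hδz : (if some none ∈ z then 1 else 0) + (if none ∈ z then 1 else 0) = 1 := by
    rw [hδ] at hzδ
    by_cases a : (none : Option (Option α)) ∈ z <;> by_cases b : some none ∈ z <;>
      simp [a, b] at hzδ ⊢
    all_goals exact absurd (by decide : Even 2) hzδ
  have hzy : ∀ b ∈ B, (b ∩ eraseNone (eraseNone z)).card % 2 = 1 := fun b hb => by
    have := hzorth _ ⟨b, hb, rfl⟩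
    rw [block22_inter, Nat.even_iff] at this
    omega
  have hzcard : 4 ∣ z.card := by
    have h1 := card22_add z
    rcases s22_odd_meet hα hB _ hzy with h | h | h <;> omega
  -- the code
  set G : Set (Finset (Option (Option α))) := G0 ∪ {z} with hG
  have hI : ∀ a ∈ G, ∀ b ∈ G, Even (a ∩ b).card := by
    rintro a (ha | rfl) b (hb | rfl)
    · exact hI0 a ha b hb
    · exact hzorth a ha
    · rw [inter_comm]; exact hzorth b hb
    · rw [inter_self]; obtain ⟨c, hc⟩ := hzcard; exact ⟨2 * c, by omega⟩
  have h4 : ∀ a ∈ G, 4 ∣ a.card := by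
    rintro a (ha | rfl)
    · exact h40 a ha
    · exact hzcard
  have hdual : ∀ x : Finset (Option (Option α)), (∀ g ∈ G, Even (g ∩ x).card) →
      x = ∅ ∨ 7 ≤ x.card := by
    intro x hx
    by_contra hno
    simp only [not_or, not_le] at hno
    have hpos : 1 ≤ x.card := card_pos.mpr (nonempty_iff_ne_empty.mpr hno.1)
    have hzx := hx z (Or.inr rfl)
    set y := eraseNone (eraseNone x) with hy
    have hc := card22_add x
    obtain ⟨p, hp⟩ : ∃ p, (if some none ∈ x then 1 else 0) = p := ⟨_, rfl⟩
    obtain ⟨q, hq⟩ : ∃ q, (if none ∈ x then 1 else 0) = q := ⟨_, rfl⟩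
    rw [hp, hq, ← hy] at hc
    have hp1 : p ≤ 1 := by rw [← hp]; split_ifs <;> omega
    have hq1 : q ≤ 1 := by rw [← hq]; split_ifs <;> omega
    have hpar : ∀ b ∈ B, ((b ∩ y).card + p + q) % 2 = 0 := fun b hb => by
      have := hx _ (Or.inl ⟨b, hb, rfl⟩)
      rwa [block22_inter, hp, hq, Nat.even_iff] at this
    by_cases hpq : p + q = 1
    · rcases s22_odd_meet hα hB y (fun b hb => by have := hpar b hb; omega) with h | h | h <;>
        omega
    · have heq : p = q := by omega
      have hyB := s22_even_meet hα hB y (fun b hb => by have := hpar b hb; omega) (by omega)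
      have hsome : some none ∈ x ↔ p = 1 := by rw [← hp]; split_ifs with h <;> simp [h]
      have hnone : none ∈ x ↔ q = 1 := by rw [← hq]; split_ifs with h <;> simp [h]
      rcases hyB with h0 | hblk
      · have hyempty : y = ∅ := card_eq_zero.mp h0
        have hxδ : x = δ := by
          have hp' : p = 1 := by omega
          refine ext fun i => ?_
          match i with
          | none => simp [hδ, hnone, ← heq, hp']
          | some none => simp [hδ, hsome, hp']
          | some (some a) =>
            have : a ∉ y := hyempty ▸ notMem_empty a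
            simp [hy] at this
            simp [hδ, this]
        rw [hxδ, inter_comm] at hzx
        exact hzδ hzx
      · have hy6 := hB.1 y hblk
        have hp0 : p = 0 := by omega
        have hxb : δ = symmDiff x (block22 y) := by
          refine ext fun i => ?_
          match i with
          | none => simp [hδ, block22, mem_symmDiff, hnone, ← heq, hp0]
          | some none => simp [hδ, block22, mem_symmDiff, hsome, hp0]
          | some (some a) => simp [hδ, block22, mem_symmDiff, hy]
        have h1 : ∀ a c z : Finset (Option (Option α)), ((symmDiff a c ∩ z).card : ZMod 2) =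
            ((a ∩ z).card : ZMod 2) + ((c ∩ z).card : ZMod 2) := by
          intro a c z
          have h := congrArg (fun n : ℕ => (n : ZMod 2)) (H94.card_symmDiff_add (a ∩ z) (c ∩ z))
          simp only [Nat.cast_add, Nat.cast_mul, show ((2 : ℕ) : ZMod 2) = 0 from rfl, zero_mul,
            add_zero] at h
          rw [← h]
          congr 2
          ext i; simp only [mem_inter, mem_symmDiff]; tauto
        apply hzδ
        rw [hxb, ← ZMod.natCast_eq_zero_iff_even, h1, inter_comm x z,
          (ZMod.natCast_eq_zero_iff_even).mpr hzx,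
          (ZMod.natCast_eq_zero_iff_even).mpr (hzorth _ ⟨y, hblk, rfl⟩), add_zero]
  obtain ⟨e, he⟩ := exists_code_embedding (ι := Option (Option α)) (G := G)
    (by rw [Fintype.card_option, Fintype.card_option, hα]) hI h4 hdual
  obtain ⟨g, hg, hgn, hg0⟩ := exists_move2 (p := e none) (q := e (some none))
    (p' := none) (q' := some 0) (by simp) (by simp)
  set f : Option (Option α) ≃ GolayPt := e.trans g with hf
  have hfn : f none = none := hgn
  have hf0 : f (some none) = some 0 := hg0
  have hex : ∀ a : α, ∃ c : {x : ZMod 23 // x ≠ 0}, f (some (some a)) = some c.1 := by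
    intro a
    rcases h : f (some (some a)) with _ | c
    · exact absurd (f.injective (h.trans hfn.symm)) (by simp)
    · refine ⟨⟨c, fun hc => ?_⟩, rfl⟩
      rw [hc] at h
      exact absurd (f.injective (h.trans hf0.symm)) (by simp)
  choose d0 hd0 using hex
  have hdbij : Function.Bijective d0 := by
    constructor
    · intro a b hab
      exact Option.some.inj (Option.some.inj (f.injective (by rw [hd0, hd0, hab])))
    · rintro ⟨c, hc⟩
      obtain ⟨i, hi⟩ := f.surjective (some c)
      match i, hi with
      | none, hi => rw [hfn] at hi; simp at hi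
      | some none, hi => rw [hf0] at hi; exact absurd (Option.some.inj hi).symm hc
      | some (some a), hi => exact ⟨a, Subtype.ext (Option.some.inj ((hd0 a).symm.trans hi))⟩
  set d : α ≃ {x : ZMod 23 // x ≠ 0} := Equiv.ofBijective d0 hdbij with hd
  have hfs : ∀ a, f (some (some a)) = some (d a).1 := hd0
  have hblock : ∀ b ∈ B, (block22 b).image f ∈ octads := by
    intro b hb
    have h1 : (block22 b).image e ∈ octads :=
      ⟨he _ (Or.inl ⟨b, hb, rfl⟩), by
        rw [card_image_of_injective _ e.injective, block22, card_insertNone, card_insertNone,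
          hB.1 b hb]⟩
    rw [show (block22 b).image f = ((block22 b).image e).image g by rw [image_image]; rfl]
    exact image_mem_wordsOfWeight hg h1
  have herase : ∀ b : Finset α,
      (eraseNone ((block22 b).image f)).subtype (fun x => x ≠ 0) = b.image d := by
    intro b
    ext ⟨v, hv⟩
    simp only [mem_subtype, mem_eraseNone, mem_image, block22, exists_insertNone, hfn, hf0,
      hfs, reduceCtorEq, Option.some.injEq, false_or, Subtype.ext_iff]
    exact ⟨fun h => h.resolve_left (Ne.symm hv), Or.inr⟩
  refine ⟨d, Set.Subset.antisymm ?_ ?_⟩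
  · rintro _ ⟨b, hb, rfl⟩
    exact ⟨_, hblock b hb, mem_image.mpr ⟨none, by simp [block22], hfn⟩,
      mem_image.mpr ⟨some none, by simp [block22], hf0⟩, (herase b).symm⟩
  · rintro _ ⟨o, ho, hno, hno0, rfl⟩
    have h6 : ((eraseNone o).subtype fun x => x ≠ 0).card = 6 := by
      have := card_eraseNone_add o
      rw [if_pos hno, ho.2] at this
      rw [card_subtype, filter_ne', card_erase_of_mem (mem_eraseNone.mpr hno0)]
      omega
    obtain ⟨t, hto, htc⟩ := exists_subset_card_eq
      (s := (eraseNone o).subtype fun x => x ≠ 0) (n := 3) (by omega)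
    obtain ⟨b, ⟨hb, hsb⟩, -⟩ := hB.2 (t.image d.symm)
      (by rw [card_image_of_injective _ d.symm.injective, htc])
    refine ⟨b, hb, ?_⟩
    show b.image d = _
    rw [← herase]
    congr 2
    refine octad_eq_of_five_le_inter (hblock b hb) ho ?_
    calc 5 = (block22 (t.image d.symm)).card := by
          rw [block22, card_insertNone, card_insertNone,
            card_image_of_injective _ d.symm.injective, htc]
      _ = ((block22 (t.image d.symm)).image f).card := (card_image_of_injective _ f.injective).symm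
      _ ≤ _ := card_le_card fun w hw => by
        rw [mem_inter]
        refine ⟨image_subset_image (fun i hi => ?_) hw, ?_⟩
        · match i with
          | none => simp [block22]
          | some none => simp [block22]
          | some (some a) =>
            simp only [block22, some_mem_insertNone] at hi ⊢
            exact hsb hi
        · simp only [mem_image, block22, exists_insertNone, hfn, hf0, hfs] at hw
          rcases hw with h | h | ⟨a, ⟨v, hv, rfl⟩, h⟩
          · exact h ▸ hno
          · exact h ▸ hno0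
          · rw [d.apply_symm_apply] at h
            exact h ▸ mem_eraseNone.mp (mem_subtype.mp (hto hv))

end H90
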