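import Cfsg.Agent.H90.Perm

/-! The normaliser of a cycle of length 11 in the two-point stabiliser (generated list). -/

set_option autoImplicit false

namespace H90

/-- Which orbit of multiplication by 2 a position lies in. -/
def orbit11 : List ℕ := [0, 0, 0, 0, 0, 1, 0, 1, 0, 0, 1, 1, 0, 0, 1, 1, 0, 1, 0, 1, 1, 1, 1, 0]

/-- The exponent of 2 at a position, relative to the representative 1 or 5. -/
def expo11 : List ℕ := [0, 0, 1, 8, 2, 0, 9, 9, 3, 5, 1, 4, 10, 7, 10, 8, 4, 3, 6, 7, 2, 6, 5, 0]

/-- The 55 encoded elements. -/
def norm22List : List ℕ := [
  984818244535754528103549039458486304,
  983435072843990828779021698901151808,
  982051901153124072706648311500937312,
  980668730378935070469623699575545984,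
  977903326592794432676351619257413824,
  975166140090675008210365318152896768,
  973782968399780250007192978068752672,
  970567384681219435340729552166356352,
  969184212989482915311201746032266656,
  965063883269089610517257152230401536,
  962298451038133363011374430748423744,
  970459361523271695787015306425278496,
  984573014673175146587997007573696576,
  968831900483021157457398538231481440,
  982945552743155205048692816444138624,
  982251082544672643558577621061109952,
  980623620615494437327650338233436416,
  964881566828850631422085576588168480,
  978329933299122975683446603816964480,
  962588790636320930210487642771108256,
  975074981857073328387818560804173312,
  974380510768821363662145534143076928,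
  965300289861748889990672440075108384,
  974254899822750411239905598598325312,
  983238664830851426602016535817390176,
  962337567855277688986390890163554432,
  980275914351787324191492553553580224,
  969262417262277329501245019176187136,
  978246183187084100000816879320439072,
  975284342942119534910977467418354048,
  984238952876184677716026471786022304,
  982209221711482302101473885277130240,
  970291861271415829892297804906541632,
  978076899444677511050001024522036256,
  969952412052033243847481939299780672,
  962790070575192799523521748419481696,
  984521290091318496505279503403267200,
  969234461222701878378615456566386880,
  982871231071467164673856690744331520,
  975679733630821471073662865963561248,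
  982124124278357703536032259601154432,
  974028791959749282373380525992970656,
  980474065257638304821989613135501824,
  965187236389021659349493918444160576,
  968955966875123533138286166201145376,
  981566224487110265802442417737478208,
  965254705572974240194515987339692128,
  977864963184960973661438897150854272,
  974192857846616903476708535734645952,
  970490685448430296204008270231439616,
  983101882629101552620655908910833952,
  962184327967037872470836877598166400,
  975727604893413485538214946332091808,
  984636601203277231118416786331406848,
  980964495864933160907790752524878400]

end H90
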