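import Cfsg.Agent.H90.Simple
import Cfsg.Agent.H90.DataNormEleven

/-! Simplicity of M22 in the code model. -/

set_option autoImplicit false
set_option linter.style.haveILetI false

namespace H90

open Cfsg MulAction
open scoped Pointwise

/-- Multiplication by 2 on the residues. -/
def mulTwo : Equiv.Perm GolayPt :=
  Equiv.optionCongr (Units.mulLeft (⟨2, 12, by decide +kernel, by decide +kernel⟩ : (ZMod 23)ˣ))

/-- `mulTwo`, encoded. -/
def mulTwoN : ℕ := packAux (fun i => if i = 23 then 23 else 2 * i % 23) 24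

/-- Powers of `mulTwo`, encoded. -/
def mulTwoPow : ℕ → ℕ
  | 0 => idN
  | k + 1 => compN mulTwoN (mulTwoPow k)

theorem repr_mulTwo : Repr mulTwo mulTwoN := by decide +kernel

theorem repr_mulTwoPow : ∀ k, Repr (mulTwo ^ k) (mulTwoPow k)
  | 0 => repr_one
  | k + 1 => by rw [pow_succ']; exact repr_mulTwo.mul (repr_mulTwoPow k)

theorem mulTwo_apply (x : ZMod 23) : mulTwo (some x) = some (2 * x) := rfl

theorem mulTwo_pow_apply (j : ℕ) (x : ZMod 23) : (mulTwo ^ j) (some x) = some (2 ^ j * x) := by
  induction j with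
  | zero => simp
  | succ j ih => rw [pow_succ', Equiv.Perm.mul_apply, ih, mulTwo_apply, pow_succ']; ring_nf

theorem orderOf_mulTwo : orderOf mulTwo = 11 := by
  haveI : Fact (Nat.Prime 11) := ⟨by norm_num⟩
  refine orderOf_eq_prime ?_ ?_
  · exact (repr_mulTwoPow 11).unique (by
      rw [show mulTwoPow 11 = idN by decide +kernel]; exact repr_one)
  · intro h
    have h1 : Repr (1 : Equiv.Perm GolayPt) mulTwoN := h ▸ repr_mulTwo
    exact absurd (h1 1) (by decide +kernel)

/-- The two-point stabiliser. -/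
def fixTwo : Subgroup (Equiv.Perm GolayPt) :=
  fixNone ⊓ MulAction.stabilizer _ (some 0 : GolayPt)

theorem mem_fixTwo {σ : Equiv.Perm GolayPt} :
    σ ∈ fixTwo ↔ (σ ∈ M24 ∧ σ none = none) ∧ σ (some 0) = some 0 := Iff.rfl

theorem mulTwo_mem : mulTwo ∈ fixTwo :=
  mem_fixTwo.mpr ⟨⟨(mem_M24_iff_preservesCode repr_mulTwo).mpr (by decide +kernel), rfl⟩, rfl⟩

/-- Candidate normalising map, as a function of positions. -/
def cand22 (k a b i : ℕ) : ℕ :=
  if i = 23 then 23 else if i = 0 then 0 else
    ((if orbit11.getD i 0 = 0 then a else b) * 2 ^ ((k * expo11.getD i 0) % 11)) % 23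

/-- Candidate list entry. -/
def cand22N (n : ℕ) : ℕ := packAux (cand22 (n / 484) (n % 484 / 22 + 1) (n % 22 + 1)) 24

theorem norm22List_eq : norm22List =
    ((List.range 5324).map cand22N).filter fun p => preservesCode p && isPerm p := by
  decide +kernel

theorem two_pow_eleven : (2 : ZMod 23) ^ 11 = 1 := by decide +kernel
theorem one_five_ne : (1 : ZMod 23) ≠ 0 ∧ (5 : ZMod 23) ≠ 0 := by decide +kernel
theorem pt_log : ∀ i : Fin 24, i.val ≠ 23 → i.val ≠ 0 →
    pt i = some (2 ^ expo11.getD i.val 0 *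
      (if orbit11.getD i.val 0 = 0 then (1 : ZMod 23) else 5)) := by decide +kernel

theorem norm22_spec {σ : Equiv.Perm GolayPt} (hσ : σ ∈ fixTwo) {k : ℕ}
    (hk : σ * mulTwo * σ⁻¹ = mulTwo ^ k) : ∃ p ∈ norm22List, Repr σ p := by
  obtain ⟨⟨hM, hn⟩, h0⟩ := mem_fixTwo.mp hσ
  haveI : Fact (Nat.Prime 23) := ⟨by norm_num⟩
  have hex : ∀ x : ZMod 23, x ≠ 0 → ∃ a : ZMod 23, a ≠ 0 ∧ σ (some x) = some a := by
    intro x hx
    rcases h : σ (some x) with _ | a
    · exact absurd (σ.injective (h.trans hn.symm)) (by simp)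
    · refine ⟨a, fun ha => ?_, rfl⟩
      rw [ha] at h
      exact hx (Option.some.inj (σ.injective (h.trans h0.symm)))
  have hstep : ∀ (r a : ZMod 23), σ (some r) = some a →
      ∀ e : ℕ, σ (some (2 ^ e * r)) = some (2 ^ (k * e) * a) := by
    intro r a hr e
    induction e with
    | zero => simp [hr]
    | succ e ih =>
      have : σ (mulTwo (some (2 ^ e * r))) = (mulTwo ^ k) (σ (some (2 ^ e * r))) := by
        rw [← hk]; simp
      rw [mulTwo_apply, ih, mulTwo_pow_apply] at this
      rw [show (2 : ZMod 23) ^ (e + 1) * r = 2 * (2 ^ e * r) by ring, this]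
      ring_nf
  obtain ⟨a, ha0, ha⟩ := hex 1 one_five_ne.1
  obtain ⟨b, hb0, hb⟩ := hex 5 one_five_ne.2
  have hapos : 1 ≤ a.val ∧ a.val < 23 :=
    ⟨Nat.pos_of_ne_zero ((ZMod.val_eq_zero a).not.mpr ha0), a.val_lt⟩
  have hbpos : 1 ≤ b.val ∧ b.val < 23 :=
    ⟨Nat.pos_of_ne_zero ((ZMod.val_eq_zero b).not.mpr hb0), b.val_lt⟩
  set n := k % 11 * 484 + (a.val - 1) * 22 + (b.val - 1) with hn'
  have hk11 : k % 11 < 11 := Nat.mod_lt _ (by norm_num)
  have hd1 : n / 484 = k % 11 := by omega
  have hd2 : n % 484 / 22 + 1 = a.val := by omega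
  have hd3 : n % 22 + 1 = b.val := by omega
  have hr : Repr σ (cand22N n) := by
    unfold cand22N
    rw [hd1, hd2, hd3]
    refine repr_pack _ (fun i => ?_) fun i => ?_
    · unfold cand22
      split_ifs <;> first | exact lt_trans (Nat.mod_lt _ (by norm_num)) (by norm_num) | norm_num
    unfold cand22
    by_cases h23 : i.val = 23
    · rw [if_pos h23, show i = (23 : Fin 24) from Fin.ext h23, pt23, hn]; rfl
    rw [if_neg h23]
    by_cases hz : i.val = 0
    · rw [if_pos hz, show i = (0 : Fin 24) from Fin.ext hz, show pt 0 = some 0 from rfl, h0]; rfl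
    rw [if_neg hz]
    have hdec := pt_log
    have hpow : ∀ m : ℕ, (2 : ZMod 23) ^ m = ((2 ^ (m % 11) : ℕ) : ZMod 23) := by
      intro m
      conv_lhs => rw [← Nat.div_add_mod m 11, pow_add, pow_mul,
        two_pow_eleven, one_pow, one_mul]
      push_cast; rfl
    have hfin : ∀ (c : ZMod 23) (e : ℕ), (2 ^ (k * e) * c : ZMod 23).val =
        (c.val * 2 ^ ((k % 11 * e) % 11)) % 23 := by
      intro c e
      rw [show (2 ^ (k * e) * c : ZMod 23) =
        ((c.val * 2 ^ ((k % 11 * e) % 11) : ℕ) : ZMod 23) by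
          push_cast
          rw [hpow, ZMod.natCast_zmod_val, Nat.mod_mul_mod]
          push_cast; ring, ZMod.val_natCast]
    rw [hdec i h23 hz]
    split_ifs with horb
    · rw [hstep 1 a ha, idx_some, hfin]
    · rw [hstep 5 b hb, idx_some, hfin]
  refine ⟨cand22N n, ?_, hr⟩
  rw [norm22List_eq, List.mem_filter]
  refine ⟨List.mem_map.mpr ⟨n, List.mem_range.mpr (by omega), rfl⟩, ?_⟩
  rw [Bool.and_eq_true]
  refine ⟨(mem_M24_iff_preservesCode hr).mp hM, ?_⟩
  simp only [isPerm, decide_eq_true_eq]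
  refine ⟨hr.img_lt, fun i j e => ?_⟩
  exact pt_injective (σ.injective (idx_injective (Fin.ext ((hr i).trans (e.trans (hr j).symm)))))

theorem norm22_card :
    Nat.card (Subgroup.normalizer
      ((Subgroup.zpowers (⟨mulTwo, mulTwo_mem⟩ : fixTwo) : Subgroup fixTwo) : Set fixTwo)) = 55 := by
  set c : fixTwo := ⟨mulTwo, mulTwo_mem⟩
  set N := Subgroup.normalizer ((Subgroup.zpowers c : Subgroup fixTwo) : Set fixTwo) with hN
  rw [Nat.card_congr (N.equivMapOfInjective _ fixTwo.subtype_injective).toEquiv,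
    natCard_of_list (N.map fixTwo.subtype) norm22List]
  · decide +kernel
  · decide +kernel
  · intro p hp
    have hp2 : preservesCode p = true ∧ isPerm p = true := by
      have := hp
      rw [norm22List_eq] at this
      exact (Bool.and_eq_true _ _).mp (List.mem_filter.mp this).2
    obtain ⟨σ, hr⟩ := exists_repr hp2.2
    have hchk : ∀ p ∈ norm22List, img p 23 = 23 ∧ img p 0 = 0 ∧
        ∃ k : Fin 11, compN p mulTwoN = compN (mulTwoPow k.val) p := by decide +kernel
    obtain ⟨h23, h0, k, hk⟩ := hchk p hp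
    have hm : σ ∈ fixTwo := by
      refine mem_fixTwo.mpr ⟨⟨(mem_M24_iff_preservesCode hr).mpr hp2.1, ?_⟩, ?_⟩
      · exact (hr.apply_eq_iff none none).mpr h23
      · exact (hr.apply_eq_iff (some 0) (some 0)).mpr h0
    refine ⟨σ, ⟨⟨σ, hm⟩, (normalizer_zpowers_iff c _).mpr ⟨k.val, ?_⟩, rfl⟩, hr⟩
    apply Subtype.ext
    show σ * mulTwo * σ⁻¹ = mulTwo ^ k.val
    rw [mul_inv_eq_iff_eq_mul]
    exact (hr.mul repr_mulTwo).unique (hk ▸ (repr_mulTwoPow k.val).mul hr)
  · rintro _ ⟨g, hg, rfl⟩
    obtain ⟨k, hk⟩ := (normalizer_zpowers_iff c g).mp hg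
    exact norm22_spec g.2 (congrArg Subtype.val hk)

theorem three_pretransitive : IsMultiplyPretransitive M24 GolayPt 3 := by
  haveI h5 := five_transitive
  exact isMultiplyPretransitive_of_le (n := 5) (by norm_num)
    (by rw [Nat.card_eq_fintype_card, card_golayPt]; norm_num)

/-- The second point inside the first stabiliser's domain. -/
def zeroPt : SubMulAction.ofStabilizer M24 (none : GolayPt) := ⟨some 0, Option.some_ne_none _⟩

/-- `fixTwo` as the iterated stabiliser. -/
def fixTwoEquiv : fixTwo ≃* MulAction.stabilizer (MulAction.stabilizer M24 (none : GolayPt)) zeroPt where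
  toFun g := ⟨⟨⟨g.1, g.2.1.1⟩, g.2.1.2⟩, Subtype.ext g.2.2⟩
  invFun g := ⟨g.1.1.1, ⟨g.1.1.2, g.1.2⟩, congrArg Subtype.val g.2⟩
  left_inv _ := rfl
  right_inv _ := rfl
  map_mul' _ _ := rfl

theorem iterated_stabilizer_simple :
    IsSimpleGroup (MulAction.stabilizer (MulAction.stabilizer M24 (none : GolayPt)) zeroPt) := by
  set K := MulAction.stabilizer M24 (none : GolayPt)
  haveI h3 := three_pretransitive
  haveI : IsPretransitive M24 GolayPt := isPretransitive_of_is_two_pretransitive
    (h2 := isMultiplyPretransitive_of_le (n := 3) (by norm_num)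
      (by rw [Nat.card_eq_fintype_card, card_golayPt]; norm_num))
  haveI h4 : IsMultiplyPretransitive K (SubMulAction.ofStabilizer M24 (none : GolayPt)) 3 := by
    haveI h5 := five_transitive
    haveI : IsMultiplyPretransitive M24 GolayPt 4 :=
      isMultiplyPretransitive_of_le (n := 5) (by norm_num)
        (by rw [Nat.card_eq_fintype_card, card_golayPt]; norm_num)
    exact SubMulAction.ofStabilizer.isMultiplyPretransitive.mp ‹IsMultiplyPretransitive M24 GolayPt 4›
  haveI : IsPretransitive K (SubMulAction.ofStabilizer M24 (none : GolayPt)) :=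
    isPretransitive_of_is_two_pretransitive (h2 := two_trans_stab none)
  have h2 : IsMultiplyPretransitive (MulAction.stabilizer K zeroPt)
      (SubMulAction.ofStabilizer K zeroPt) 2 :=
    SubMulAction.ofStabilizer.isMultiplyPretransitive.mp h4
  haveI : Fintype (SubMulAction.ofStabilizer K zeroPt) := Fintype.ofFinite _
  haveI : FaithfulSMul (MulAction.stabilizer K zeroPt) (SubMulAction.ofStabilizer K zeroPt) :=
    ⟨fun {g g'} h => by
      apply Subtype.ext
      apply Subtype.ext
      apply Subtype.ext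
      refine Equiv.ext fun x => ?_
      by_cases hx : x = none
      · subst hx; exact g.1.2.trans g'.1.2.symm
      by_cases hx0 : x = some 0
      · subst hx0; exact (congrArg Subtype.val g.2).trans (congrArg Subtype.val g'.2).symm
      exact congrArg (fun z => z.1.1) (h ⟨⟨x, hx⟩, fun e => hx0 (congrArg Subtype.val e)⟩)⟩
  have hcard : Nat.card (MulAction.stabilizer K zeroPt) = 443520 := by
    rw [← natCard_stab_pair (p := (none : GolayPt)) (q := some 0) (Option.some_ne_none (0 : ZMod 23)).symm]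
    exact Nat.card_congr (infStabilizerEquiv (G := M24) (none : GolayPt) (some 0)
      (Option.some_ne_none (0 : ZMod 23))).toEquiv
  set c0 : fixTwo := ⟨mulTwo, mulTwo_mem⟩
  refine simple_of_sylow_normalizer (α := SubMulAction.ofStabilizer K zeroPt) h2 (p := 11) (r := 5)
    (by norm_num) (by norm_num) ?_ ?_ (fixTwoEquiv c0) ?_ ?_ ?_
  · rw [← Nat.card_eq_fintype_card, SubMulAction.nat_card_ofStabilizer_eq, card_ofStab]; norm_num
  · rw [hcard]; norm_num
  · rw [MulEquiv.orderOf_eq, ← Subgroup.orderOf_coe]; exact orderOf_mulTwo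
  · rw [show (Subgroup.zpowers (fixTwoEquiv c0) : Subgroup _) =
        (Subgroup.zpowers c0).map fixTwoEquiv.toMonoidHom by
          rw [MonoidHom.map_zpowers]; rfl,
      ← Subgroup.map_equiv_normalizer_eq,
      ← Nat.card_congr ((Subgroup.normalizer _).equivMapOfInjective _
        fixTwoEquiv.injective).toEquiv, norm22_card]
  · rw [hcard]; norm_num

theorem stab_pair_simple {p q : GolayPt} (hpq : p ≠ q) :
    IsSimpleGroup ↥(MulAction.stabilizer M24 p ⊓ MulAction.stabilizer M24 q) := by
  have h00 := iterated_stabilizer_simple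
  have h0 : IsSimpleGroup ↥(MulAction.stabilizer M24 (none : GolayPt) ⊓
      MulAction.stabilizer M24 (some 0 : GolayPt)) :=
    @isSimpleGroup_of_mulEquiv _ _ _ _ h00
      (infStabilizerEquiv (G := M24) (none : GolayPt) (some 0) (Option.some_ne_none (0 : ZMod 23)))
  obtain ⟨σ, hσ, e1, e2⟩ := exists_move2 (Option.some_ne_none (0 : ZMod 23)).symm hpq
  set g : M24 := ⟨σ, hσ⟩
  let E : ↥(MulAction.stabilizer M24 (none : GolayPt) ⊓ MulAction.stabilizer M24 (some 0 : GolayPt)) ≃*
      ↥(MulAction.stabilizer M24 p ⊓ MulAction.stabilizer M24 q) :=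
    { toFun := fun h => ⟨g * h.1 * g⁻¹, by
        constructor <;> show (g * h.1 * g⁻¹) • _ = _
        · rw [mul_smul, mul_smul, show g⁻¹ • p = none from inv_smul_eq_iff.mpr e1.symm,
            show h.1 • (none : GolayPt) = none from h.2.1]
          exact e1
        · rw [mul_smul, mul_smul, show g⁻¹ • q = some 0 from inv_smul_eq_iff.mpr e2.symm,
            show h.1 • (some 0 : GolayPt) = some 0 from h.2.2]
          exact e2⟩
      invFun := fun h => ⟨g⁻¹ * h.1 * g, by
        constructor <;> show (g⁻¹ * h.1 * g) • _ = _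
        · rw [mul_smul, mul_smul, show g • (none : GolayPt) = p from e1,
            show h.1 • p = p from h.2.1]
          exact inv_smul_eq_iff.mpr e1.symm
        · rw [mul_smul, mul_smul, show g • (some 0 : GolayPt) = q from e2,
            show h.1 • q = q from h.2.2]
          exact inv_smul_eq_iff.mpr e2.symm⟩
      left_inv := fun h => Subtype.ext (by simp [mul_assoc])
      right_inv := fun h => Subtype.ext (by simp [mul_assoc])
      map_mul' := fun a b => Subtype.ext (by simp [mul_assoc]) }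
  haveI := h0
  exact isSimpleGroup_of_mulEquiv E

end H90
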