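import Cfsg.Agent.H90.CentralizerCore

/-!
The complement `SL(3, 2)` in the centraliser of an involution fixing an octad.
-/

set_option autoImplicit false

namespace H90

open Cfsg

/-- Bit code of a matrix of degree three over the field with two elements. -/
def matCode (M : Matrix (Fin 3) (Fin 3) (ZMod 2)) : ℕ :=
  Nat.ofBits fun n : Fin 9 =>
    decide (M ⟨n.val / 3, by omega⟩ ⟨n.val % 3, by omega⟩ = 1)

/-- The matrix with a given bit code. -/
def codeMat (n : ℕ) : Matrix (Fin 3) (Fin 3) (ZMod 2) :=
  Matrix.of fun i j => if n.testBit (3 * i.val + j.val) then 1 else 0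

theorem codeMat_matCode (M : Matrix (Fin 3) (Fin 3) (ZMod 2)) : codeMat (matCode M) = M := by
  ext i j
  have h : matCode M = Nat.ofBits fun n : Fin 9 =>
      decide (M ⟨n.val / 3, by omega⟩ ⟨n.val % 3, by omega⟩ = 1) := rfl
  simp only [codeMat, Matrix.of_apply, h]
  rw [Nat.testBit_ofBits_lt _ _ (show 3 * i.val + j.val < 9 by omega)]
  have e1 : (⟨(3 * i.val + j.val) / 3, by omega⟩ : Fin 3) = i := Fin.ext (by simp only; omega)
  have e2 : (⟨(3 * i.val + j.val) % 3, by omega⟩ : Fin 3) = j := Fin.ext (by simp only; omega)
  simp only [e1, e2]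
  rcases zmod2_cases (M i j) with h | h <;> simp [h]

/-- Position of a bit code in the list. -/
def compPos (c : ℕ) : ℕ := compCode.findIdx (Nat.beq c)

/-- The encoding attached to a matrix. -/
def compEnc (A : Matrix (Fin 3) (Fin 3) (ZMod 2)) : ℕ := compPerm.getD (compPos (matCode A)) idN

/-- The matrices of the two generators. -/
def compGenMat (b : Fin 2) : Matrix (Fin 3) (Fin 3) (ZMod 2) := codeMat (compGenCodes.getD b.val 0)

theorem compPerm_valid : validList compPerm = true := by decide +kernel

theorem comp_lengths : compCode.length = 168 ∧ compPerm.length = 168 := by decide +kernel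

theorem comp_onto : ∀ A : Matrix.SpecialLinearGroup (Fin 3) (ZMod 2),
    compPos (matCode A.1) < 168 := by decide +kernel

theorem comp_entries : ((List.range 168).all fun i =>
    decide ((codeMat (compCode.getD i 0)).det = 1 ∧
      matCode (codeMat (compCode.getD i 0)) = compCode.getD i 0 ∧
      compPos (compCode.getD i 0) = i)) = true := by decide +kernel

theorem comp_step : ((List.range 168).all fun i => decide (∀ b : Fin 2,
    samePerm (compEnc (codeMat (compCode.getD i 0) * compGenMat b))
      (compN (compPerm.getD i idN) (compEnc (compGenMat b))) = true)) = true := by decide +kernel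

theorem comp_parent : ((List.range 167).all fun i =>
    let pb := compParent.getD i 0
    Nat.ble (pb / 2) i && decide (matCode (codeMat (compCode.getD (pb / 2) 0) *
      compGenMat ⟨pb % 2, Nat.mod_lt _ (by norm_num)⟩) = compCode.getD (i + 1) 0)) = true := by
  decide +kernel

theorem comp_start : codeMat (compCode.getD 0 0) = 1 ∧ samePerm (compEnc 1) idN = true := by
  decide +kernel

theorem compGen_det : ∀ b : Fin 2, (compGenMat b).det = 1 := by decide +kernel

theorem compEnc_mem (A : Matrix.SpecialLinearGroup (Fin 3) (ZMod 2)) :
    compEnc A.1 ∈ compPerm := by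
  have h : compPos (matCode A.1) < compPerm.length := by
    rw [comp_lengths.2]; exact comp_onto A
  rw [compEnc, List.getD_eq_getElem _ _ h]
  exact List.getElem_mem h

theorem compCode_pos (A : Matrix.SpecialLinearGroup (Fin 3) (ZMod 2)) :
    compCode.getD (compPos (matCode A.1)) 0 = matCode A.1 := by
  have hlt : compPos (matCode A.1) < compCode.length := by
    rw [comp_lengths.1]; exact comp_onto A
  rw [List.getD_eq_getElem _ _ hlt]
  have := List.findIdx_getElem (w := hlt) (p := Nat.beq (matCode A.1)) (xs := compCode)
  exact (Nat.eq_of_beq_eq_true this).symm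

/-- Induction along the two generators. -/
theorem comp_induction {P : Matrix.SpecialLinearGroup (Fin 3) (ZMod 2) → Prop} (h1 : P 1)
    (hs : ∀ A B, P A → (∃ b, B.1 = compGenMat b) → P (A * B))
    (A : Matrix.SpecialLinearGroup (Fin 3) (ZMod 2)) : P A := by
  have main : ∀ i, i < 168 → ∀ A : Matrix.SpecialLinearGroup (Fin 3) (ZMod 2),
      matCode A.1 = compCode.getD i 0 → P A := by
    intro i
    induction i using Nat.strong_induction_on with
    | _ i ih =>
      intro hi A hA
      have hAm : A.1 = codeMat (compCode.getD i 0) := by rw [← hA, codeMat_matCode]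
      cases i with
      | zero =>
        have : A = 1 := Subtype.ext (by rw [hAm, comp_start.1]; rfl)
        rw [this]; exact h1
      | succ i =>
        have hp := List.all_eq_true.mp comp_parent i (List.mem_range.mpr (by omega))
        simp only [Bool.and_eq_true, decide_eq_true_eq] at hp
        have hji : compParent.getD i 0 / 2 ≤ i := Nat.le_of_ble_eq_true hp.1
        have he := of_decide_eq_true (List.all_eq_true.mp comp_entries (compParent.getD i 0 / 2)
          (List.mem_range.mpr (by omega)))
        let J : Matrix.SpecialLinearGroup (Fin 3) (ZMod 2) :=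
          ⟨codeMat (compCode.getD (compParent.getD i 0 / 2) 0), he.1⟩
        let B : Matrix.SpecialLinearGroup (Fin 3) (ZMod 2) :=
          ⟨compGenMat ⟨compParent.getD i 0 % 2, Nat.mod_lt _ (by norm_num)⟩, compGen_det _⟩
        have hAJ : A = J * B := Subtype.ext (by
          rw [hAm, ← hp.2, codeMat_matCode]
          rfl)
        rw [hAJ]
        exact hs J B (ih _ (by omega) (by omega) J he.2.1) ⟨_, rfl⟩
  exact main _ (comp_onto A) A (compCode_pos A).symm

variable (k : ↥M24)

/-- The element attached to a matrix. -/
noncomputable def compFun (A : Matrix.SpecialLinearGroup (Fin 3) (ZMod 2)) : ↥M24 :=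
  Classical.choose (exists_crepr_of_valid (k := k) compPerm_valid (compEnc_mem A))

theorem compFun_spec (A : Matrix.SpecialLinearGroup (Fin 3) (ZMod 2)) :
    CRepr k (compFun k A) (compEnc A.1) :=
  Classical.choose_spec (exists_crepr_of_valid (k := k) compPerm_valid (compEnc_mem A))

theorem compFun_mul_gen (A B : Matrix.SpecialLinearGroup (Fin 3) (ZMod 2))
    (hB : ∃ b, B.1 = compGenMat b) : compFun k (A * B) = compFun k A * compFun k B := by
  obtain ⟨b, hb⟩ := hB
  have h := of_decide_eq_true (List.all_eq_true.mp comp_step (compPos (matCode A.1))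
    (List.mem_range.mpr (comp_onto A))) b
  rw [compCode_pos, codeMat_matCode, ← hb] at h
  exact (compFun_spec k (A * B)).eq_of_same ((compFun_spec k A).mul (compFun_spec k B)) h

theorem compFun_one : compFun k 1 = 1 :=
  (compFun_spec k 1).eq_of_same crepr_one (by simpa using comp_start.2)

theorem compFun_mul (A B : Matrix.SpecialLinearGroup (Fin 3) (ZMod 2)) :
    compFun k (A * B) = compFun k A * compFun k B := by
  refine comp_induction (P := fun B => ∀ A, compFun k (A * B) = compFun k A * compFun k B)
    (fun A => by rw [mul_one, compFun_one, mul_one]) (fun B C hB hC A => ?_) B A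
  rw [← mul_assoc, compFun_mul_gen k _ C hC, hB, compFun_mul_gen k B C hC, mul_assoc]

/-- The complement, as an embedding of `SL(3, 2)`. -/
noncomputable def compHom : Matrix.SpecialLinearGroup (Fin 3) (ZMod 2) →* ↥M24 where
  toFun := compFun k
  map_one' := compFun_one k
  map_mul' := compFun_mul k

theorem compHom_repr (A : Matrix.SpecialLinearGroup (Fin 3) (ZMod 2)) :
    CRepr k (compHom k A) (compEnc A.1) := compFun_spec k A

theorem compPerm_distinct : distinctList compPerm = true := by decide +kernel

theorem compHom_injective : Function.Injective (compHom k) := by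
  intro A B e
  have hs := (compHom_repr k A).same_of_eq (compHom_repr k B) e
  have hA : compPos (matCode A.1) < compPerm.length := by rw [comp_lengths.2]; exact comp_onto A
  have hB : compPos (matCode B.1) < compPerm.length := by rw [comp_lengths.2]; exact comp_onto B
  rw [compEnc, compEnc, List.getD_eq_getElem _ _ hA, List.getD_eq_getElem _ _ hB] at hs
  have hpair := List.pairwise_iff_getElem.mp (distinctList_pairwise compPerm_distinct)
  have hpos : compPos (matCode A.1) = compPos (matCode B.1) := by
    rcases lt_trichotomy (compPos (matCode A.1)) (compPos (matCode B.1)) with h | h | h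
    · rw [hpair _ _ hA hB h] at hs; exact absurd hs (by simp)
    · exact h
    · have h' := (compHom_repr k B).same_of_eq (compHom_repr k A) e.symm
      rw [compEnc, compEnc, List.getD_eq_getElem _ _ hB, List.getD_eq_getElem _ _ hA,
        hpair _ _ hB hA h] at h'
      exact absurd h' (by simp)
  refine Subtype.ext ?_
  rw [← codeMat_matCode A.1, ← codeMat_matCode B.1, ← compCode_pos A, ← compCode_pos B, hpos]

/-- Elements attached to encodings of the list are in the range. -/
theorem mem_range_of_inList {g : ↥M24} (h : InList k compPerm g) : g ∈ (compHom k).range := by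
  obtain ⟨p, hp, hg⟩ := h
  obtain ⟨i, hi, rfl⟩ := List.getElem_of_mem hp
  rw [comp_lengths.2] at hi
  have he := of_decide_eq_true (List.all_eq_true.mp comp_entries i (List.mem_range.mpr hi))
  refine ⟨⟨_, he.1⟩, ?_⟩
  refine (compHom_repr k _).unique ?_
  show CRepr k g (compEnc (codeMat (compCode.getD i 0)))
  rw [compEnc, he.2.1, he.2.2, List.getD_eq_getElem _ _ (by rw [comp_lengths.2]; exact hi)]
  exact hg

theorem natCard_sl32 : Nat.card (Matrix.SpecialLinearGroup (Fin 3) (ZMod 2)) = 168 := by
  rw [Nat.card_eq_fintype_card]
  decide +kernel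

end H90
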