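import Cfsg.Agent.H90.Involutions
import Cfsg.Agent.H90.DataCentralizer

/-!
The centraliser in `Cfsg.M24` of an involution fixing an octad, in coordinates moved by a
conjugating element `k`.
-/

set_option autoImplicit false

namespace H90

open Cfsg
open scoped Pointwise

/-- Two encodings with the same values on the 24 positions. -/
def samePerm (p q : ℕ) : Bool := (List.range 24).all fun i => Nat.beq (img p i) (img q i)

/-- Encodings of the products of a subset of the generators, in the given order. -/
def prodList : List ℕ → List ℕ
  | [] => [idN]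
  | a :: l => prodList l ++ (prodList l).map (compN a)

/-- No two encodings in the list agree. -/
def distinctList : List ℕ → Bool
  | [] => true
  | p :: l => (l.all fun q => !samePerm p q) && distinctList l

/-- All encodings give elements of the group. -/
def validList (l : List ℕ) : Bool := l.all fun p => isPerm p && preservesCode p

variable (k : ↥M24)

/-- `g` has the encoding `p` after moving by `k`. -/
def CRepr (g : ↥M24) (p : ℕ) : Prop := Repr (k⁻¹ * g * k : ↥M24).1 p

/-- `g` has an encoding in the list. -/
def InList (l : List ℕ) (g : ↥M24) : Prop := ∃ p ∈ l, CRepr k g p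

variable {k}

theorem CRepr.mul {g h : ↥M24} {p q : ℕ} (hg : CRepr k g p) (hh : CRepr k h q) :
    CRepr k (g * h) (compN p q) := by
  have h' : k⁻¹ * (g * h) * k = (k⁻¹ * g * k) * (k⁻¹ * h * k) := by group
  unfold CRepr at *
  rw [h']
  exact hg.mul hh

theorem crepr_one : CRepr k 1 idN := by
  unfold CRepr
  rw [mul_one, inv_mul_cancel]
  exact repr_one

theorem CRepr.unique {g h : ↥M24} {p : ℕ} (hg : CRepr k g p) (hh : CRepr k h p) : g = h :=
  mul_left_cancel (mul_right_cancel
    (Subtype.ext (Repr.unique hg hh) : k⁻¹ * g * k = k⁻¹ * h * k))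

theorem CRepr.eq_of_same {g h : ↥M24} {p q : ℕ} (hg : CRepr k g p) (hh : CRepr k h q)
    (e : samePerm p q = true) : g = h := by
  refine hg.unique (fun i => ?_)
  rw [hh i]
  exact (Nat.eq_of_beq_eq_true (List.all_eq_true.mp e i.val (List.mem_range.mpr i.isLt))).symm

theorem CRepr.same_of_eq {g h : ↥M24} {p q : ℕ} (hg : CRepr k g p) (hh : CRepr k h q)
    (e : g = h) : samePerm p q = true := by
  subst e
  refine List.all_eq_true.mpr fun i hi => ?_
  obtain ⟨i, rfl⟩ : ∃ j : Fin 24, j.val = i := ⟨⟨i, List.mem_range.mp hi⟩, rfl⟩
  exact Nat.beq_eq.mpr ((hg i).symm.trans (hh i))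

theorem exists_crepr {p : ℕ} (h : (isPerm p && preservesCode p) = true) :
    ∃ g : ↥M24, CRepr k g p := by
  rw [Bool.and_eq_true] at h
  obtain ⟨σ, hσ, hr⟩ := exists_M24_repr h.1 h.2
  refine ⟨k * ⟨σ, hσ⟩ * k⁻¹, ?_⟩
  unfold CRepr
  rw [show k⁻¹ * (k * (⟨σ, hσ⟩ : ↥M24) * k⁻¹) * k = ⟨σ, hσ⟩ by group]
  exact hr

theorem exists_crepr_of_valid {l : List ℕ} (h : validList l = true) {p : ℕ} (hp : p ∈ l) :
    ∃ g : ↥M24, CRepr k g p :=
  exists_crepr (List.all_eq_true.mp h p hp)

theorem distinctList_pairwise : ∀ {l : List ℕ}, distinctList l = true →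
    l.Pairwise fun p q => samePerm p q = false
  | [], _ => List.Pairwise.nil
  | p :: l, h => by
    rw [distinctList, Bool.and_eq_true] at h
    refine List.Pairwise.cons (fun q hq => ?_) (distinctList_pairwise h.2)
    simpa using List.all_eq_true.mp h.1 q hq

theorem natCard_inList {l : List ℕ} (hv : validList l = true) (hd : distinctList l = true) :
    Nat.card {g : ↥M24 // InList k l g} = l.length := by
  have hex : ∀ i : Fin l.length, ∃ g : ↥M24, CRepr k g l[i.val] :=
    fun i => exists_crepr_of_valid hv (List.getElem_mem i.isLt)
  choose f hf using hex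
  let F : Fin l.length → {g : ↥M24 // InList k l g} :=
    fun i => ⟨f i, _, List.getElem_mem i.isLt, hf i⟩
  have hF : Function.Bijective F := by
    constructor
    · intro i j e
      have e' : f i = f j := congrArg Subtype.val e
      have hp := List.pairwise_iff_getElem.mp (distinctList_pairwise hd)
      rcases lt_trichotomy i.val j.val with h | h | h
      · exact absurd ((hf i).same_of_eq (hf j) e') (by simp [hp _ _ i.isLt j.isLt h])
      · exact Fin.ext h
      · exact absurd ((hf j).same_of_eq (hf i) e'.symm) (by simp [hp _ _ j.isLt i.isLt h])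
    · rintro ⟨g, p, hp, hg⟩
      obtain ⟨i, hi, rfl⟩ := List.getElem_of_mem hp
      exact ⟨⟨i, hi⟩, Subtype.ext ((hf ⟨i, hi⟩).unique hg)⟩
  rw [← Nat.card_congr (Equiv.ofBijective F hF), Nat.card_fin]

variable (k)

/-- The subgroup generated by the elements encoded in a list. -/
def listSub (l : List ℕ) : Subgroup ↥M24 := Subgroup.closure {g | InList k l g}

variable {k}

theorem mem_listSub_of_inList {l : List ℕ} {g : ↥M24} (h : InList k l g) : g ∈ listSub k l :=
  Subgroup.subset_closure h

theorem listSub_mono {l l' : List ℕ} (h : ∀ p ∈ l, p ∈ l') : listSub k l ≤ listSub k l' :=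
  Subgroup.closure_mono fun _ ⟨p, hp, hr⟩ => ⟨p, h p hp, hr⟩

theorem mem_listSub_of_prodList : ∀ {l : List ℕ}, validList l = true → ∀ {g : ↥M24},
    InList k (prodList l) g → g ∈ listSub k l
  | [], _, g, ⟨p, hp, hg⟩ => by
    rw [prodList, List.mem_singleton] at hp
    subst hp
    rw [hg.unique crepr_one]
    exact one_mem _
  | a :: l, hv, g, ⟨p, hp, hg⟩ => by
    have hv' : validList l = true :=
      List.all_eq_true.mpr fun q hq => List.all_eq_true.mp hv q (List.mem_cons_of_mem _ hq)
    have hsub : listSub k l ≤ listSub k (a :: l) := listSub_mono fun q hq => List.mem_cons_of_mem _ hq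
    rw [prodList, List.mem_append, List.mem_map] at hp
    rcases hp with hp | ⟨q, hq, rfl⟩
    · exact hsub (mem_listSub_of_prodList hv' ⟨p, hp, hg⟩)
    · obtain ⟨x, hx⟩ := exists_crepr_of_valid (k := k) hv (List.mem_cons_self)
      have hy : CRepr k (x⁻¹ * g) q := by
        have hmem : ∀ (l : List ℕ), validList l = true → ∀ p ∈ prodList l, ∃ y, CRepr k y p := by
          intro l
          induction l with
          | nil =>
            intro _ p hp
            rw [prodList, List.mem_singleton] at hp
            exact ⟨1, hp ▸ crepr_one⟩
          | cons b l ih =>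
            intro hv p hp
            have hv' : validList l = true :=
              List.all_eq_true.mpr fun q hq => List.all_eq_true.mp hv q (List.mem_cons_of_mem _ hq)
            rw [prodList, List.mem_append, List.mem_map] at hp
            rcases hp with hp | ⟨q, hq, rfl⟩
            · exact ih hv' p hp
            · obtain ⟨y, hy⟩ := ih hv' q hq
              obtain ⟨x, hx⟩ := exists_crepr_of_valid (k := k) hv (List.mem_cons_self)
              exact ⟨x * y, hx.mul hy⟩
        obtain ⟨y, hy⟩ := hmem l hv' q hq
        rw [hg.unique (hx.mul hy), inv_mul_cancel_left]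
        exact hy
      have := mul_mem (mem_listSub_of_inList ⟨a, List.mem_cons_self, hx⟩)
        (hsub (mem_listSub_of_prodList hv' ⟨q, hq, hy⟩))
      rwa [mul_inv_cancel_left] at this

/-- The product list is closed under left multiplication by the generators. -/
def closedList (l : List ℕ) : Bool :=
  (prodList l).any (Nat.beq idN) && l.all fun a =>
    (prodList l).all fun p => (prodList l).any (Nat.beq (compN a p))

theorem mem_listSub_iff {l : List ℕ} (hv : validList l = true) (hc : closedList l = true)
    {g : ↥M24} : g ∈ listSub k l ↔ InList k (prodList l) g := by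
  rw [closedList, Bool.and_eq_true] at hc
  refine ⟨fun h => ?_, mem_listSub_of_prodList hv⟩
  have hmul : ∀ x, InList k l x → ∀ y, InList k (prodList l) y → InList k (prodList l) (x * y) := by
    rintro x ⟨a, ha, hx⟩ y ⟨p, hp, hy⟩
    obtain ⟨r, hr, e⟩ := List.any_eq_true.mp
      (List.all_eq_true.mp (List.all_eq_true.mp hc.2 a ha) p hp)
    exact ⟨r, hr, Nat.eq_of_beq_eq_true e ▸ hx.mul hy⟩
  induction h using Subgroup.closure_induction_left with
  | one =>
    obtain ⟨r, hr, e⟩ := List.any_eq_true.mp hc.1
    exact ⟨r, hr, Nat.eq_of_beq_eq_true e ▸ crepr_one⟩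
  | mul_left x hx y _ ih => exact hmul x hx y ih
  | inv_mul_cancel x hx y _ ih =>
    have hpow : ∀ n : ℕ, InList k (prodList l) (x ^ n * y) := by
      intro n
      induction n with
      | zero => simpa using ih
      | succ n ihn => rw [pow_succ', mul_assoc]; exact hmul x hx _ ihn
    have hx1 : x ^ (orderOf x - 1) = x⁻¹ :=
      eq_inv_of_mul_eq_one_left (by
        rw [← pow_succ, Nat.sub_add_cancel (orderOf_pos x), pow_orderOf_eq_one])
    exact hx1 ▸ hpow _

theorem natCard_listSub {l : List ℕ} (hv : validList l = true) (hc : closedList l = true)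
    (hv' : validList (prodList l) = true) (hd : distinctList (prodList l) = true) :
    Nat.card (listSub k l) = (prodList l).length := by
  rw [← natCard_inList (k := k) hv' hd]
  exact Nat.card_congr (Equiv.subtypeEquivRight fun g => mem_listSub_iff hv hc)

/-! ### The lists at hand -/

/-- The generators of the elementary abelian subgroup. -/
def fourGens : List ℕ := coreGens.take 4

theorem coreGens_valid : validList coreGens = true := by decide +kernel
theorem coreList_valid : validList (prodList coreGens) = true := by decide +kernel
theorem coreList_closed : closedList coreGens = true := by decide +kernel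
theorem coreList_distinct : distinctList (prodList coreGens) = true := by decide +kernel
theorem fourGens_valid : validList fourGens = true := by decide +kernel
theorem fourList_valid : validList (prodList fourGens) = true := by decide +kernel
theorem fourList_closed : closedList fourGens = true := by decide +kernel
theorem fourList_distinct : distinctList (prodList fourGens) = true := by decide +kernel

variable (k)

/-- The normal 2-subgroup of order 128. -/
def coreSub : Subgroup ↥M24 := listSub k coreGens

/-- The elementary abelian subgroup of order 16. -/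
def fourSub : Subgroup ↥M24 := listSub k fourGens

variable {k}

theorem mem_coreSub {g : ↥M24} : g ∈ coreSub k ↔ InList k (prodList coreGens) g :=
  mem_listSub_iff coreGens_valid coreList_closed

theorem natCard_coreSub : Nat.card (coreSub k) = 128 := by
  rw [coreSub, natCard_listSub coreGens_valid coreList_closed coreList_valid coreList_distinct]
  decide +kernel

theorem mem_fourSub {g : ↥M24} : g ∈ fourSub k ↔ InList k (prodList fourGens) g :=
  mem_listSub_iff fourGens_valid fourList_closed

theorem natCard_fourSub : Nat.card (fourSub k) = 16 := by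
  rw [fourSub, natCard_listSub fourGens_valid fourList_closed fourList_valid fourList_distinct]
  decide +kernel

theorem fourSub_le : fourSub k ≤ coreSub k := listSub_mono fun _ hp => List.mem_of_mem_take hp

theorem coreSub_pGroup : IsPGroup 2 (coreSub k) :=
  IsPGroup.of_card (n := 7) (by rw [natCard_coreSub]; norm_num)

end H90
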