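import Cfsg.Agent.H90.CentralizerStructure
import Cfsg.Agent.H30.MetacyclicApps

/-!
The core of the involution centraliser is a large extraspecial subgroup.
-/

set_option autoImplicit false

namespace H90

open Cfsg

/-- An encoding commutes with another up to the central involution. -/
def commutesMod (p q : ℕ) : Bool :=
  commutes' p q || samePerm (compN p q) (compN invAN (compN q p))

theorem core_commutesMod : coreGens.all (fun a => coreGens.all (commutesMod a)) = true := by
  decide +kernel

theorem core_center_check : (prodList coreGens).all (fun p =>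
    samePerm p idN || samePerm p invAN || coreGens.any fun a => !commutes' p a) = true := by
  decide +kernel

theorem core_square : (prodList coreGens).any (fun p => samePerm (compN p p) invAN) = true := by
  decide +kernel

theorem invA_ne_one : samePerm invAN idN = false := by decide +kernel

theorem core_noncomm : (coreGens.any fun a => coreGens.any fun b => !commutes' a b) = true := by
  decide +kernel

theorem comp_faithful : compPerm.all (fun p =>
    samePerm p idN || coreGens.any fun a => !commutesMod p a) = true := by decide +kernel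

theorem four_check : (fourGens.all (fun a => fourGens.all (commutes' a)) &&
    (prodList fourGens).all fun p => samePerm (compN p p) idN) = true := by decide +kernel

/-- Eighth power of an encoding. -/
def pow8 (p : ℕ) : ℕ :=
  let p2 := compN p p
  let p4 := compN p2 p2
  compN p4 p4

theorem comp_closure_check : ((compTest.zip compTestInv).all (fun cc =>
      compPerm.any (Nat.beq cc.1) && isPerm cc.2 && preservesCode cc.2 &&
        samePerm (compN cc.1 cc.2) idN) &&
    compPerm.all fun p => samePerm p idN || !samePerm (pow8 p) idN ||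
      (compTest.zip compTestInv).any fun cc =>
        !samePerm (pow8 (compN p (compN cc.1 (compN p cc.2)))) idN) = true := by decide +kernel

theorem CRepr.pow8 {k g : ↥M24} {p : ℕ} (h : CRepr k g p) : CRepr k (g ^ 8) (H90.pow8 p) := by
  rw [show g ^ 8 = ((g * g) * (g * g)) * ((g * g) * (g * g)) by simp only [pow_succ, pow_zero, one_mul, mul_assoc]]
  exact ((h.mul h).mul (h.mul h)).mul ((h.mul h).mul (h.mul h))

theorem pow8_of_pGroup {k g : ↥M24} {M : Subgroup ↥M24} (hM : IsPGroup 2 M)
    (hg : g ∈ M) (h168 : g ^ 168 = 1) : g ^ 8 = 1 := by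
  obtain ⟨n, hn⟩ := hM ⟨g, hg⟩
  have hn' : g ^ 2 ^ n = 1 := by simpa using congrArg Subtype.val hn
  obtain ⟨j, -, hj⟩ := (Nat.dvd_prime_pow Nat.prime_two).mp (orderOf_dvd_of_pow_eq_one hn')
  have hd := orderOf_dvd_of_pow_eq_one h168
  rw [hj] at hd
  have hj3 : j ≤ 3 := by
    by_contra hlt
    have : 2 ^ 4 ∣ 168 := (pow_dvd_pow 2 (by omega : 4 ≤ j)).trans hd
    norm_num at this
  exact orderOf_dvd_iff_pow_eq_one.mp (hj ▸ pow_dvd_pow 2 hj3)

variable {k z : ↥M24} (hz : CRepr k z invAN)
include hz

theorem z_sq : z * z = 1 :=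
  (hz.mul hz).eq_of_same crepr_one (by decide +kernel)

theorem z_ne_one : z ≠ 1 := fun e => by
  have := hz.same_of_eq crepr_one e
  rw [invA_ne_one] at this
  exact Bool.false_ne_true this

theorem z_comm {x : ↥M24} (hx : x ∈ coreSub k) : x * z = z * x :=
  Subgroup.mem_centralizer_singleton_iff.mp (coreSub_le_centralizer hz hx)

/-- Commutators of the core are central. -/
theorem core_comm {x y : ↥M24} (hx : x ∈ coreSub k) (hy : y ∈ coreSub k) :
    x * y = y * x ∨ x * y = z * (y * x) := by
  have step : ∀ u : ↥M24, u ∈ coreSub k →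
      (∀ a, InList k coreGens a → a * u = u * a ∨ a * u = z * (u * a)) →
      ∀ w ∈ coreSub k, w * u = u * w ∨ w * u = z * (u * w) := by
    intro u hu hgen w hw
    induction hw using Subgroup.closure_induction with
    | mem w hw => exact hgen w hw
    | one => simp
    | mul a b ha _ h1 h2 =>
      have hza : a * z = z * a := z_comm hz ha
      rcases h2 with h2 | h2 <;> rcases h1 with h1 | h1
      · left; rw [mul_assoc, h2, ← mul_assoc, h1, mul_assoc]
      · right
        rw [mul_assoc, h2, ← mul_assoc, h1]
        simp only [mul_assoc]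
      · right
        rw [mul_assoc, h2, ← mul_assoc a, hza, mul_assoc z, ← mul_assoc a, h1]
        simp only [mul_assoc]
      · left
        rw [mul_assoc, h2, ← mul_assoc a, hza, mul_assoc z, ← mul_assoc a, h1]
        simp only [← mul_assoc, z_sq hz, one_mul]
    | inv a ha h1 =>
      have hza : a * z = z * a := z_comm hz ha
      have hza' : a⁻¹ * z = z * a⁻¹ := z_comm hz (inv_mem ha)
      rcases h1 with h1 | h1
      · left; rw [inv_mul_eq_iff_eq_mul, ← mul_assoc, h1, mul_inv_cancel_right]
      · right
        rw [inv_mul_eq_iff_eq_mul, ← mul_assoc, hza, mul_assoc z, ← mul_assoc a, h1]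
        simp only [← mul_assoc, z_sq hz, one_mul]
        rw [mul_inv_cancel_right]
  have hsym : ∀ a b : ↥M24, a * b = b * a ∨ a * b = z * (b * a) →
      b * a = a * b ∨ b * a = z * (a * b) := by
    rintro a b (h | h)
    · exact Or.inl h.symm
    · right; rw [h, ← mul_assoc z z, z_sq hz, one_mul]
  refine step y hy (fun a ha => ?_) x hx
  obtain ⟨p, hp, hap⟩ := ha
  refine hsym _ _ (step a (mem_listSub_of_inList ⟨p, hp, hap⟩) (fun b hb => ?_) y hy)
  obtain ⟨q, hq, hbq⟩ := hb
  have h := List.all_eq_true.mp (List.all_eq_true.mp core_commutesMod q hq) p hp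
  rcases (Bool.or_eq_true _ _).mp h with h | h
  · exact Or.inl ((hbq.mul hap).eq_of_same (hap.mul hbq) h)
  · exact Or.inr ((hbq.mul hap).eq_of_same (hz.mul (hap.mul hbq)) h)

theorem mem_center_coreSub {x : coreSub k} :
    x ∈ Subgroup.center (coreSub k) ↔ x.1 = 1 ∨ x.1 = z := by
  constructor
  · intro hx
    obtain ⟨p, hp, hxp⟩ := mem_coreSub.mp x.2
    have h := List.all_eq_true.mp core_center_check p hp
    simp only [Bool.or_eq_true, List.any_eq_true] at h
    rcases h with (h | h) | ⟨a, ha, h⟩
    · exact Or.inl (hxp.eq_of_same crepr_one h)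
    · exact Or.inr (hxp.eq_of_same hz h)
    · obtain ⟨g, hg⟩ := exists_crepr_of_valid (k := k) coreGens_valid ha
      have hc := Subgroup.mem_center_iff.mp hx ⟨g, mem_listSub_of_inList ⟨a, ha, hg⟩⟩
      have e : x.1 * g = g * x.1 := (congrArg Subtype.val hc).symm
      have := (hxp.mul hg).same_of_eq (hg.mul hxp) e
      rw [commutes', this] at h
      exact absurd h (by simp)
  · intro h
    refine Subgroup.mem_center_iff.mpr fun y => Subtype.ext ?_
    show y.1 * x.1 = x.1 * y.1
    rcases h with h | h <;> rw [h]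
    · simp
    · exact z_comm hz y.2

theorem natCard_center_coreSub : Nat.card (Subgroup.center (coreSub k)) = 2 := by
  classical
  let zq : coreSub k := ⟨z, z_mem_coreSub hz⟩
  have hset : ((Subgroup.center (coreSub k) : Subgroup _) : Set (coreSub k)) = {1, zq} := by
    ext x
    simp only [SetLike.mem_coe, mem_center_coreSub hz, Set.mem_insert_iff, Set.mem_singleton_iff,
      Subtype.ext_iff, OneMemClass.coe_one, zq]
  have hne : (1 : coreSub k) ≠ zq := fun e => z_ne_one hz (congrArg Subtype.val e).symm
  show Nat.card ↥((Subgroup.center (coreSub k) : Subgroup _) : Set (coreSub k)) = 2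
  rw [hset, Nat.card_coe_set_eq, Set.ncard_pair hne]

theorem isExtraspecial_coreSub : IsExtraspecial 2 (coreSub k) := by
  have hcomm : commutator (coreSub k) ≤ Subgroup.center (coreSub k) := by
    rw [commutator_eq_closure, Subgroup.closure_le]
    rintro _ ⟨a, b, rfl⟩
    refine (mem_center_coreSub hz).mpr ?_
    rw [commutatorElement_def]
    show a.1 * b.1 * a.1⁻¹ * b.1⁻¹ = 1 ∨ a.1 * b.1 * a.1⁻¹ * b.1⁻¹ = z
    rcases core_comm hz a.2 b.2 with h | h
    · left; rw [h]; group
    · right; rw [h]; group
  have hne : commutator (coreSub k) ≠ ⊥ := by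
    intro hbot
    obtain ⟨a, ha, hb⟩ := List.any_eq_true.mp core_noncomm
    obtain ⟨b, hb, hab⟩ := List.any_eq_true.mp hb
    obtain ⟨g, hg⟩ := exists_crepr_of_valid (k := k) coreGens_valid ha
    obtain ⟨h, hh⟩ := exists_crepr_of_valid (k := k) coreGens_valid hb
    have hmem := Subgroup.commutator_mem_commutator
      (Subgroup.mem_top (⟨g, mem_listSub_of_inList ⟨a, ha, hg⟩⟩ : coreSub k))
      (Subgroup.mem_top (⟨h, mem_listSub_of_inList ⟨b, hb, hh⟩⟩ : coreSub k))
    rw [← commutator_def, hbot, Subgroup.mem_bot, commutatorElement_eq_one_iff_mul_comm] at hmem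
    have := (hg.mul hh).same_of_eq (hh.mul hg) (congrArg Subtype.val hmem)
    rw [commutes', this] at hab
    exact absurd hab (by simp)
  have hcenter : commutator (coreSub k) = Subgroup.center (coreSub k) := by
    refine Subgroup.eq_of_le_of_card_ge hcomm ?_
    rw [natCard_center_coreSub hz]
    have := (Subgroup.one_lt_card_iff_ne_bot _).mpr hne
    omega
  have hfle : frattini (coreSub k) ≤ Subgroup.center (coreSub k) := by
    intro x hx
    refine Subgroup.mem_center_iff.mpr fun t => ?_
    let H : Subgroup (coreSub k) := Subgroup.centralizer {t}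
    have hH : x ∈ H := by
      by_cases htop : H = ⊤
      · rw [htop]; exact Subgroup.mem_top _
      obtain ⟨a, ha⟩ : ∃ a, a ∉ H := by
        by_contra h
        exact htop (eq_top_iff.mpr fun y _ => not_not.mp fun hy => h ⟨y, hy⟩)
      have hmem : ∀ y, y ∈ H ↔ y.1 * t.1 = t.1 * y.1 := fun y =>
        Subgroup.mem_centralizer_singleton_iff.trans Subtype.ext_iff
      have hout : ∀ y, y ∉ H → y.1 * t.1 = z * (t.1 * y.1) := fun y hy =>
        (core_comm hz y.2 t.2).resolve_left fun h => hy ((hmem y).mpr h)
      have hidx : H.index = 2 := Subgroup.index_eq_two_iff.mpr ⟨a, fun b => by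
        by_cases hb : b ∈ H
        · exact Or.inr ⟨hb, fun h => ha ((Subgroup.mul_mem_cancel_left H hb).mp h)⟩
        · refine Or.inl ⟨(hmem _).mpr ?_, hb⟩
          show b.1 * a.1 * t.1 = t.1 * (b.1 * a.1)
          rw [mul_assoc, hout a ha, ← mul_assoc b.1, z_comm hz b.2, mul_assoc z,
            ← mul_assoc b.1, hout b hb]
          simp only [← mul_assoc, z_sq hz, one_mul]⟩
      have hco : IsCoatom H := by
        refine ⟨htop, fun J hJ => ?_⟩
        have hlt : J.index < H.index := Subgroup.index_strictAnti hJ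
        rw [← Subgroup.index_eq_one]
        have := J.index_ne_zero_of_finite
        omega
      exact frattini_le_coatom hco hx
    exact (Subgroup.mem_centralizer_singleton_iff.mp hH).symm
  have hfge : Subgroup.center (coreSub k) ≤ frattini (coreSub k) := by
    intro x hx
    rcases (mem_center_coreSub hz).mp hx with h | h
    · rw [show x = 1 from Subtype.ext h]; exact one_mem _
    · obtain ⟨p, hp, hs⟩ := List.any_eq_true.mp core_square
      obtain ⟨g, hg⟩ := exists_crepr_of_valid (k := k) coreList_valid hp
      haveI : Fact (Nat.Prime 2) := ⟨Nat.prime_two⟩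
      have := H30.mem_frattini_of_pow (p := 2) (coreSub_pGroup (k := k))
        ⟨g, mem_coreSub.mpr ⟨p, hp, hg⟩⟩
      convert this using 1
      refine Subtype.ext ?_
      rw [h, pow_two]
      exact ((hg.mul hg).eq_of_same hz hs).symm
  exact ⟨⟨coreSub_pGroup, le_antisymm hfle hfge, hcenter⟩, natCard_center_coreSub hz⟩

theorem center_map_coreSub :
    (Subgroup.center (coreSub k)).map (coreSub k).subtype = Subgroup.zpowers z := by
  refine le_antisymm ?_ (Subgroup.zpowers_le.mpr
    ⟨⟨z, z_mem_coreSub hz⟩, (mem_center_coreSub hz).mpr (Or.inr rfl), rfl⟩)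
  rintro _ ⟨x, hx, rfl⟩
  rcases (mem_center_coreSub hz).mp hx with h | h
  · show x.1 ∈ _; rw [h]; exact one_mem _
  · show x.1 ∈ _; rw [h]; exact Subgroup.mem_zpowers z

theorem centralizer_coreSub :
    Subgroup.centralizer (coreSub k : Set ↥M24) = (Subgroup.center (coreSub k)).map (coreSub k).subtype := by
  refine le_antisymm (fun g hg => ?_) ?_
  · have hgz : g ∈ Subgroup.centralizer ({z} : Set ↥M24) :=
      Subgroup.mem_centralizer_singleton_iff.mpr
        ((Subgroup.mem_centralizer_iff.mp hg z (z_mem_coreSub hz)).symm)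
    obtain ⟨q, hq, A, rfl⟩ := exists_factor hz hgz
    have hA : compHom k A = 1 := by
      have hr := compHom_repr k A
      rcases (Bool.or_eq_true _ _).mp (List.all_eq_true.mp comp_faithful _ (compEnc_mem A)) with h | h
      · exact hr.eq_of_same crepr_one h
      exfalso
      obtain ⟨a, ha, hna⟩ := List.any_eq_true.mp h
      obtain ⟨x, hx⟩ := exists_crepr_of_valid (k := k) coreGens_valid ha
      have hxm : x ∈ coreSub k := mem_listSub_of_inList ⟨a, ha, hx⟩
      have hc : x * (q * compHom k A) = q * compHom k A * x := Subgroup.mem_centralizer_iff.mp hg x hxm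
      have : compHom k A * x = x * compHom k A ∨ compHom k A * x = z * (x * compHom k A) := by
        have e1 : compHom k A * x = q⁻¹ * x * q * compHom k A := by
          calc compHom k A * x = q⁻¹ * (q * compHom k A * x) := by group
            _ = q⁻¹ * (x * (q * compHom k A)) := by rw [hc]
            _ = q⁻¹ * x * q * compHom k A := by group
        rcases core_comm hz (inv_mem hq) hxm with h' | h'
        · left; rw [e1, h']; group
        · right; rw [e1, h']; group
      rw [Bool.not_eq_true'] at hna
      rcases this with e | e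
      · have := (hr.mul hx).same_of_eq (hx.mul hr) e
        simp only [commutesMod, commutes', this, Bool.true_or, Bool.true_eq_false] at hna
      · have := (hr.mul hx).same_of_eq (hz.mul (hx.mul hr)) e
        simp only [commutesMod, this, Bool.or_true, Bool.true_eq_false] at hna
    rw [hA, mul_one] at hg ⊢
    refine ⟨⟨q, hq⟩, Subgroup.mem_center_iff.mpr fun y => Subtype.ext ?_, rfl⟩
    exact Subgroup.mem_centralizer_iff.mp hg y.1 y.2
  · rintro _ ⟨x, hx, rfl⟩
    exact Subgroup.mem_centralizer_iff.mpr fun y hy =>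
      congrArg Subtype.val (Subgroup.mem_center_iff.mp hx ⟨y, hy⟩)

theorem pCore_eq_coreSub : pCore 2 ↥(Subgroup.centralizer ({z} : Set ↥M24)) =
    (coreSub k).subgroupOf (Subgroup.centralizer ({z} : Set ↥M24)) := by
  set C := Subgroup.centralizer ({z} : Set ↥M24) with hC
  have hle : coreSub k ≤ C := coreSub_le_centralizer hz
  haveI hN : ((coreSub k).subgroupOf C).Normal :=
    (Subgroup.normal_subgroupOf_iff_le_normalizer hle).mpr (coreSub_normalized hz)
  have hp : IsPGroup 2 ((coreSub k).subgroupOf C) :=
    coreSub_pGroup.of_equiv (Subgroup.subgroupOfEquivOfLe hle).symm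
  refine le_antisymm (sSup_le ?_) (le_sSup ⟨hN, hp⟩)
  rintro N ⟨hNn, hNp⟩
  set M := N ⊔ (coreSub k).subgroupOf C with hM
  haveI := hNn
  haveI : M.Normal := inferInstanceAs (N ⊔ (coreSub k).subgroupOf C).Normal
  have hMp : IsPGroup 2 M := hNp.to_sup_of_normal_right hp
  have hM' : IsPGroup 2 (M.map C.subtype) := hMp.map _
  intro g hg
  obtain ⟨q, hq, A, hgA⟩ := exists_factor hz g.2
  rw [Subgroup.mem_subgroupOf]
  suffices A = 1 by rw [hgA, this, map_one, mul_one]; exact hq
  have hAM : compHom k A ∈ M.map C.subtype := by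
    rw [show compHom k A = q⁻¹ * g.1 by rw [hgA]; group]
    exact mul_mem (inv_mem ⟨⟨q, hle hq⟩, Subgroup.mem_sup_right hq, rfl⟩)
      ⟨g, Subgroup.mem_sup_left hg, rfl⟩
  have h168 : ∀ B, (compHom k B) ^ 168 = 1 := fun B => by
    rw [← map_pow, ← natCard_sl32, pow_card_eq_one', map_one]
  refine compHom_injective k ?_
  rw [map_one]
  have hr := compHom_repr k A
  have hchk := comp_closure_check
  rw [Bool.and_eq_true] at hchk
  have h := List.all_eq_true.mp hchk.2 _ (compEnc_mem A)
  simp only [Bool.or_eq_true] at h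
  rcases h with (h | h) | h
  · exact hr.eq_of_same crepr_one h
  · exfalso
    have := hr.pow8.same_of_eq crepr_one (pow8_of_pGroup (k := k) hM' hAM (h168 A))
    rw [this] at h; simp at h
  · exfalso
    obtain ⟨cc, hcc, hn⟩ := List.any_eq_true.mp h
    have hv := List.all_eq_true.mp hchk.1 cc hcc
    simp only [Bool.and_eq_true] at hv
    obtain ⟨⟨⟨hc1, hc2⟩, hc3⟩, hc4⟩ := hv
    obtain ⟨r, hr1, hr2⟩ := List.any_eq_true.mp hc1
    have hcmem : cc.1 ∈ compPerm := (Nat.eq_of_beq_eq_true hr2) ▸ hr1
    obtain ⟨c, hc⟩ := exists_crepr_of_valid (k := k) compPerm_valid hcmem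
    obtain ⟨B, rfl⟩ := mem_range_of_inList k ⟨_, hcmem, hc⟩
    obtain ⟨d, hd⟩ := exists_crepr (k := k) (p := cc.2) (by rw [hc2, hc3]; rfl)
    have hdi : d = (compHom k B)⁻¹ :=
      eq_inv_of_mul_eq_one_right ((hc.mul hd).eq_of_same crepr_one hc4)
    subst hdi
    have hX : compHom k A * (compHom k B * (compHom k A * (compHom k B)⁻¹)) ∈ M.map C.subtype := by
      refine mul_mem hAM ?_
      obtain ⟨m, hm, he⟩ := hAM
      refine ⟨⟨compHom k B, compHom_mem_centralizer hz B⟩ * m *
        ⟨compHom k B, compHom_mem_centralizer hz B⟩⁻¹,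
        Subgroup.Normal.conj_mem inferInstance m hm _, ?_⟩
      rw [← he]
      simp [mul_assoc]
    have e168 : (compHom k A * (compHom k B * (compHom k A * (compHom k B)⁻¹))) ^ 168 = 1 := by
      rw [← map_inv, ← map_mul, ← map_mul, ← map_mul]; exact h168 _
    have := ((hr.mul (hc.mul (hr.mul hd))).pow8).same_of_eq crepr_one
      (pow8_of_pGroup (k := k) hM' hX e168)
    rw [this] at hn; simp at hn

theorem fourSub_elementaryAbelian : IsElementaryAbelian 2 (fourSub k) := by
  have hchk := four_check
  rw [Bool.and_eq_true] at hchk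
  refine ⟨Subgroup.isMulCommutative_closure fun x hx y hy => ?_, fun a ha => ?_⟩
  · obtain ⟨p, hp, hxp⟩ := hx
    obtain ⟨q, hq, hyq⟩ := hy
    exact commute_of_check hxp hyq (List.all_eq_true.mp (List.all_eq_true.mp hchk.1 p hp) q hq)
  · obtain ⟨p, hp, hap⟩ := mem_fourSub.mp ha
    rw [pow_two]
    exact (hap.mul hap).eq_of_same crepr_one (List.all_eq_true.mp hchk.2 p hp)

end H90
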