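import Cfsg.Agent.H90.CentralizerLarge

/-!
The only subgroup of odd order normalised by the core is the trivial one.
-/

set_option autoImplicit false

namespace H90

open Cfsg

/-- The three generators that together with the involution generate the elementary abelian
subgroup. -/
def threeGens : List ℕ := fourGens.tail

theorem threeGens_length : threeGens.length = 3 := by decide +kernel

theorem threeList_valid : validList (prodList threeGens) = true := by decide +kernel

theorem threeList_orbits : ((List.range 24).all fun i => invAFix.testBit i ||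
    (prodList threeGens).any fun h => Nat.beq (img h 0) i || Nat.beq (img h 1) i) = true := by
  decide +kernel

theorem threeList_square : ((prodList threeGens).all fun h =>
    samePerm (compN h h) idN && (prodList threeGens).all fun h' => commutes' h h') = true := by
  decide +kernel

theorem threeFirst : (validList threeGens &&
    (List.range 24).all (fun i => Nat.beq (img (threeGens.getD 0 idN) i) i == invAFix.testBit i) &&
      !invAFix.testBit 0 && !invAFix.testBit 1) = true := by decide +kernel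

/-- Flip the central involution in according to a sign. -/
def flipZ (e : Bool) (t : ℕ) : ℕ := if e then compN invAN t else t

theorem three_pairing : ∀ a b c : Bool, (prodList coreGens).any (fun q =>
    samePerm (compN q (threeGens.getD 0 idN)) (compN (flipZ a (threeGens.getD 0 idN)) q) &&
    samePerm (compN q (threeGens.getD 1 idN)) (compN (flipZ b (threeGens.getD 1 idN)) q) &&
    samePerm (compN q (threeGens.getD 2 idN)) (compN (flipZ c (threeGens.getD 2 idN)) q)) = true := by
  decide +kernel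

theorem exists_disjoint_octad : ∃ n < 4096, popc (encode n) = 8 ∧ encode n &&& invAFix = 0 := by
  have h : (List.range 4096).any (fun n =>
      Nat.beq (popc (encode n)) 8 && Nat.beq (encode n &&& invAFix) 0) = true := by decide +kernel
  obtain ⟨n, hn, h'⟩ := List.any_eq_true.mp h
  rw [Bool.and_eq_true] at h'
  exact ⟨n, List.mem_range.mp hn, Nat.eq_of_beq_eq_true h'.1, Nat.eq_of_beq_eq_true h'.2⟩

/-- An element commuting with a regular group on the two orbits, with fourth power one. -/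
theorem pow_four_orbit {α : Type*} (u : Equiv.Perm α) (H : Set (Equiv.Perm α))
    (hH : ∀ h ∈ H, h * h = 1 ∧ u * h = h * u ∧ ∀ h' ∈ H, h * h' = h' * h) (p q : α)
    (hp : ∃ h ∈ H, u p = h p ∨ u p = h q) (hq : ∃ h ∈ H, u q = h p ∨ u q = h q) :
    u (u (u (u p))) = p := by
  have hinv : ∀ h ∈ H, ∀ x, h (h x) = x := fun h hh x => by
    rw [← Equiv.Perm.mul_apply, (hH h hh).1, Equiv.Perm.one_apply]
  have hu : ∀ h ∈ H, ∀ x, u (h x) = h (u x) := fun h hh x => by
    rw [← Equiv.Perm.mul_apply, (hH h hh).2.1, Equiv.Perm.mul_apply]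
  have hc : ∀ h ∈ H, ∀ h' ∈ H, ∀ x, h (h' x) = h' (h x) := fun h hh h' hh' x => by
    rw [← Equiv.Perm.mul_apply, (hH h hh).2.2 h' hh', Equiv.Perm.mul_apply]
  obtain ⟨h, hh, hp⟩ := hp
  obtain ⟨h', hh', hq⟩ := hq
  rcases hp with hp | hp
  · have h2 : u (u p) = p := by rw [hp, hu h hh, hp, hinv h hh]
    rw [h2, h2]
  rcases hq with hq | hq
  · have h2 : u (u p) = h (h' p) := by rw [hp, hu h hh, hq]
    rw [h2, hu h hh, hu h hh, hu h' hh', hu h' hh', h2, hc h' hh' h hh, hinv h hh, hinv h' hh']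
  · have hpq : p = h (h' q) := by
      refine u.injective ?_
      rw [hu h hh, hu h' hh', hq, hinv h' hh', hp]
    have hqp : q = h' (h p) := by rw [hpq, hinv h hh, hinv h' hh']
    have h1 : u p = h' p := by rw [hp, hqp, hc h hh h' hh', hinv h hh]
    have h2 : u (u p) = p := by rw [h1, hu h' hh', h1, hinv h' hh']
    rw [h2, h2]

/-- The step of the fixed point free argument. -/
theorem inverted_step {G : Type*} [Group G] {K : Subgroup G} {z t k : G}
    (hab : ∀ a ∈ K, ∀ b ∈ K, a * b = b * a) (hinv : ∀ a ∈ K, z * a * z⁻¹ = a⁻¹)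
    (hz : z * z = 1) (ht : t * t = 1) (hzt : z * t = t * z) (hk : k ∈ K)
    (htk : t * k * t⁻¹ ∈ K) :
    ∃ a ∈ K, ∃ b ∈ K, k * k = a * b ∧ t * a = a * t ∧ (z * t) * b = b * (z * t) ∧
      ∀ s : G, s * k = k * s → s * t = t * s → s * a = a * s ∧ s * b = b * s := by
  set k' := t * k * t⁻¹ with hk'
  have ht' : t⁻¹ = t := inv_eq_of_mul_eq_one_right ht
  have hflip : t * k' * t⁻¹ = k := by
    rw [hk', ht']
    simp only [← mul_assoc, ht, one_mul]
    rw [mul_assoc, ht, mul_one]
  refine ⟨k * k', mul_mem hk htk, k * k'⁻¹, mul_mem hk (inv_mem htk), ?_, ?_, ?_, fun s hsk hst => ?_⟩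
  · rw [show k * k' * (k * k'⁻¹) = k * (k' * k) * k'⁻¹ by group, hab k' htk k hk]; group
  · have : t * (k * k') * t⁻¹ = k * k' := by
      rw [show t * (k * k') * t⁻¹ = (t * k * t⁻¹) * (t * k' * t⁻¹) by group, hflip, ← hk',
        hab k' htk k hk]
    exact mul_inv_eq_iff_eq_mul.mp this
  · have : (z * t) * (k * k'⁻¹) * (z * t)⁻¹ = k * k'⁻¹ := by
      rw [show (z * t) * (k * k'⁻¹) * (z * t)⁻¹ =
        z * ((t * k * t⁻¹) * (t * k' * t⁻¹)⁻¹) * z⁻¹ by group, hflip, ← hk',
        hinv _ (mul_mem htk (inv_mem hk)), mul_inv_rev, inv_inv]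
    exact mul_inv_eq_iff_eq_mul.mp this
  · have hc : Commute s k' := by
      rw [hk']
      exact (Commute.mul_right (Commute.mul_right hst hsk) (Commute.inv_right hst))
    exact ⟨Commute.mul_right hsk hc, Commute.mul_right hsk hc.inv_right⟩

variable {k z : ↥M24} (hz : CRepr k z invAN)
include hz

omit hz in
/-- An element of odd order commuting with the three generators is trivial. -/
theorem eq_one_of_commutes_three {g : ↥M24} (hodd : Odd (orderOf g)) {t : ℕ → ↥M24}
    (ht : ∀ i < 3, CRepr k (t i) (threeGens.getD i idN)) (hc : ∀ i < 3, t i * g = g * t i) : g = 1 := by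
  set u : ↥M24 := k⁻¹ * g * k with hu
  have hall : ∀ x ∈ listSub k threeGens, x * g = g * x := by
    intro x hx
    induction hx using Subgroup.closure_induction with
    | mem x hx =>
      obtain ⟨p, hp, hx⟩ := hx
      obtain ⟨i, hi, rfl⟩ := List.getElem_of_mem hp
      have hti := ht i (threeGens_length ▸ hi)
      rw [List.getD_eq_getElem _ _ hi] at hti
      rw [hx.unique hti]
      exact hc i (threeGens_length ▸ hi)
    | one => simp
    | mul a b _ _ h1 h2 => exact Commute.mul_left h1 h2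
    | inv a _ h1 => exact Commute.inv_left h1
  have h3 := threeFirst
  simp only [Bool.and_eq_true, Bool.not_eq_true'] at h3
  obtain ⟨⟨⟨hv, hfix⟩, hp0⟩, hp1⟩ := h3
  let H : Set (Equiv.Perm GolayPt) := {σ | ∃ h ∈ prodList threeGens, Repr σ h}
  have hHu : ∀ σ ∈ H, u.1 * σ = σ * u.1 := by
    rintro σ ⟨h, hh, hσ⟩
    obtain ⟨x, hx⟩ := exists_crepr_of_valid (k := k) threeList_valid hh
    have e := hall x (mem_listSub_of_prodList hv ⟨h, hh, hx⟩)
    rw [hσ.unique hx, ← Subgroup.coe_mul, ← Subgroup.coe_mul, hu,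
      show k⁻¹ * g * k * (k⁻¹ * x * k) = k⁻¹ * (g * x) * k by group, ← e]
    exact congrArg Subtype.val (by group)
  have hH : ∀ σ ∈ H, σ * σ = 1 ∧ u.1 * σ = σ * u.1 ∧ ∀ σ' ∈ H, σ * σ' = σ' * σ := by
    intro σ hσH
    refine ⟨?_, hHu σ hσH, ?_⟩
    · obtain ⟨h, hh, hσ⟩ := hσH
      have hs := List.all_eq_true.mp threeList_square h hh
      rw [Bool.and_eq_true] at hs
      refine ((hσ.mul hσ).unique fun j => ?_)
      rw [repr_one j]
      exact (Nat.eq_of_beq_eq_true (List.all_eq_true.mp hs.1 j.val (List.mem_range.mpr j.isLt))).symm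
    · obtain ⟨h, hh, hσ⟩ := hσH
      rintro σ' ⟨h', hh', hσ'⟩
      have hs := List.all_eq_true.mp threeList_square h hh
      rw [Bool.and_eq_true] at hs
      refine ((hσ.mul hσ').unique fun j => ?_)
      rw [(hσ'.mul hσ) j]
      exact (Nat.eq_of_beq_eq_true
        (List.all_eq_true.mp (List.all_eq_true.mp hs.2 h' hh') j.val (List.mem_range.mpr j.isLt))).symm
  -- the fixed points of the first generator
  have hout : ∀ x : GolayPt, invAFix.testBit (idx x).val = false →
      ∃ σ ∈ H, x = σ (pt 0) ∨ x = σ (pt 1) := by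
    intro x hx
    have h := List.all_eq_true.mp threeList_orbits _ (List.mem_range.mpr (idx x).isLt)
    rw [hx, Bool.false_or, List.any_eq_true] at h
    obtain ⟨p, hp, hpx⟩ := h
    obtain ⟨y, hy⟩ := exists_crepr_of_valid (k := k) threeList_valid hp
    refine ⟨_, ⟨p, hp, hy⟩, ?_⟩
    have hy' : Repr (k⁻¹ * y * k : ↥M24).1 p := hy
    rcases (Bool.or_eq_true _ _).mp hpx with h | h
    · exact Or.inl (idx_injective (Fin.ext (by rw [hy' 0]; exact (Nat.eq_of_beq_eq_true h).symm)))
    · exact Or.inr (idx_injective (Fin.ext (by rw [hy' 1]; exact (Nat.eq_of_beq_eq_true h).symm)))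
  have hut : ∀ x : GolayPt, invAFix.testBit (idx x).val = false →
      invAFix.testBit (idx (u.1 x)).val = false := by
    intro x hx
    have ht0 : Repr (k⁻¹ * t 0 * k : ↥M24).1 (threeGens.getD 0 idN) := ht 0 (by norm_num)
    set τ : Equiv.Perm GolayPt := (k⁻¹ * t 0 * k : ↥M24).1
    have hτ : ∀ y : GolayPt, τ y = y ↔ invAFix.testBit (idx y).val = true := by
      intro y
      rw [← beq_iff_eq.mp (List.all_eq_true.mp hfix _ (List.mem_range.mpr (idx y).isLt)), Nat.beq_eq,
        ← ht0.apply]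
      exact ⟨fun e => by rw [e], fun e => idx_injective (Fin.ext e)⟩
    have hcomm : τ * u.1 = u.1 * τ := by
      rw [← Subgroup.coe_mul, ← Subgroup.coe_mul, hu,
        show k⁻¹ * t 0 * k * (k⁻¹ * g * k) = k⁻¹ * (t 0 * g) * k by group, hc 0 (by norm_num)]
      exact congrArg Subtype.val (by group)
    by_contra hne
    rw [Bool.not_eq_false] at hne
    have h1 := (hτ _).mpr hne
    rw [← Equiv.Perm.mul_apply, hcomm, Equiv.Perm.mul_apply] at h1
    have := (hτ x).mp (u.1.injective h1)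
    rw [hx] at this
    exact Bool.false_ne_true this
  have hp0' : invAFix.testBit (idx (pt 0)).val = false := by rw [idx_pt]; exact hp0
  have hp1' : invAFix.testBit (idx (pt 1)).val = false := by rw [idx_pt]; exact hp1
  have hup := hout _ (hut _ hp0')
  have huq := hout _ (hut _ hp1')
  have h4 : ∀ x, x ∉ setOf' invAFix → (u ^ 4 : ↥M24).1 x = x := by
    intro x hx
    rw [mem_setOf', Bool.not_eq_true] at hx
    have e4 : ∀ y, (u ^ 4 : ↥M24).1 y = u.1 (u.1 (u.1 (u.1 y))) := fun y => by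
      rw [SubmonoidClass.coe_pow]
      rfl
    have hp4 : u.1 (u.1 (u.1 (u.1 (pt 0)))) = pt 0 := pow_four_orbit u.1 H hH (pt 0) (pt 1) hup huq
    have hq4 : u.1 (u.1 (u.1 (u.1 (pt 1)))) = pt 1 := by
      refine pow_four_orbit u.1 H hH (pt 1) (pt 0) ?_ ?_
      · obtain ⟨σ, hσ, h⟩ := huq; exact ⟨σ, hσ, h.symm⟩
      · obtain ⟨σ, hσ, h⟩ := hup; exact ⟨σ, hσ, h.symm⟩
    obtain ⟨σ, hσ, hxσ⟩ := hout x hx
    have hcu : ∀ y, u.1 (σ y) = σ (u.1 y) := fun y => by
      rw [← Equiv.Perm.mul_apply, hHu σ hσ, Equiv.Perm.mul_apply]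
    rw [e4]
    rcases hxσ with rfl | rfl
    · rw [hcu, hcu, hcu, hcu, hp4]
    · rw [hcu, hcu, hcu, hcu, hq4]
  obtain ⟨n, hn, h8, hdisj⟩ := exists_disjoint_octad
  have hsq : (u ^ 4 : ↥M24).1 * (u ^ 4 : ↥M24).1 = 1 := by
    refine (octad_fix _ (octad_of_code hn h8)).2 _ ⟨(u ^ 4).2, ?_⟩
    refine (mem_fixingSubgroup_iff (Equiv.Perm GolayPt)).mpr ?_
    intro x hx
    refine h4 x fun hmem => ?_
    have : x ∈ setOf' (encode n &&& invAFix) := by
      rw [setOf'_and]; exact Finset.mem_inter.mpr ⟨hx, hmem⟩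
    rw [hdisj, mem_setOf'] at this
    simp at this
  have hu8 : u ^ 8 = 1 := Subtype.ext (by
    rw [show (8 : ℕ) = 4 + 4 from rfl, pow_add]; exact hsq)
  have hg8 : g ^ 8 = 1 := by
    have : g = k * u * k⁻¹ := by rw [hu]; group
    rw [this, conj_pow, hu8]; group
  obtain ⟨j, -, hj⟩ := (Nat.dvd_prime_pow Nat.prime_two).mp
    (orderOf_dvd_of_pow_eq_one (show g ^ 2 ^ 3 = 1 from hg8))
  rcases j with _ | j
  · exact orderOf_eq_one_iff.mp (by simpa using hj)
  · rw [hj] at hodd
    exact absurd hodd (by simp [Nat.odd_iff, pow_succ])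

theorem odd_normalized_eq_bot (K : Subgroup ↥M24) (hK : Odd (Nat.card K))
    (hQK : coreSub k ≤ Subgroup.normalizer (K : Set ↥M24)) : K = ⊥ := by
  have hconj : ∀ q ∈ coreSub k, ∀ a ∈ K, q * a * q⁻¹ ∈ K := fun q hq a ha =>
    ((Subgroup.mem_normalizer_iff.mp (hQK hq)) a).mp ha
  have hoddel : ∀ a ∈ K, Odd (orderOf a) := fun a ha => Odd.of_dvd_nat hK (K.orderOf_dvd_natCard ha)
  have hinter : ∀ a ∈ K, a ∈ coreSub k → a = 1 := by
    intro a ha hq
    obtain ⟨n, hn⟩ := coreSub_pGroup (k := k) ⟨a, hq⟩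
    have hn' : a ^ 2 ^ n = 1 := by simpa using congrArg Subtype.val hn
    obtain ⟨j, -, hj⟩ := (Nat.dvd_prime_pow Nat.prime_two).mp (orderOf_dvd_of_pow_eq_one hn')
    have ho := hoddel a ha
    rcases j with _ | j
    · exact orderOf_eq_one_iff.mp (by simpa using hj)
    · rw [hj] at ho; exact absurd ho (by simp [Nat.odd_iff, pow_succ])
  have hzQ := z_mem_coreSub hz
  have hfree : ∀ a ∈ K, z * a = a * z → a = 1 := by
    intro a ha hza
    have hac : a ∈ Subgroup.centralizer ({z} : Set ↥M24) :=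
      Subgroup.mem_centralizer_singleton_iff.mpr hza.symm
    have hcen : a ∈ Subgroup.centralizer (coreSub k : Set ↥M24) := by
      refine Subgroup.mem_centralizer_iff.mpr fun q hq => ?_
      have h1 : a * q * a⁻¹ * q⁻¹ ∈ coreSub k :=
        mul_mem (((Subgroup.mem_normalizer_iff.mp (coreSub_normalized hz hac)) q).mp hq) (inv_mem hq)
      have h2 : a * q * a⁻¹ * q⁻¹ ∈ K := by
        rw [show a * q * a⁻¹ * q⁻¹ = a * (q * a⁻¹ * q⁻¹) by group]
        exact mul_mem ha (hconj q hq _ (inv_mem ha))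
      have e := mul_inv_eq_one.mp (hinter _ h2 h1)
      exact (mul_inv_eq_iff_eq_mul.mp e).symm
    rw [centralizer_coreSub hz] at hcen
    obtain ⟨x, -, rfl⟩ := hcen
    exact hinter _ ha x.2
  have hz2 : z * z = 1 := z_sq hz
  have hinvert : ∀ a ∈ K, z * a * z⁻¹ = a⁻¹ := by
    let f : K → K := fun a => ⟨a.1⁻¹ * (z * a.1 * z⁻¹), mul_mem (inv_mem a.2) (hconj z hzQ a.1 a.2)⟩
    have hf : Function.Injective f := by
      intro a b e
      have e' : a.1⁻¹ * (z * a.1 * z⁻¹) = b.1⁻¹ * (z * b.1 * z⁻¹) := congrArg Subtype.val e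
      have h1 : z * (b.1 * a.1⁻¹) * z⁻¹ = b.1 * a.1⁻¹ := by
        calc z * (b.1 * a.1⁻¹) * z⁻¹ = (z * b.1 * z⁻¹) * (z * a.1 * z⁻¹)⁻¹ := by group
          _ = b.1 * (b.1⁻¹ * (z * b.1 * z⁻¹)) * (z * a.1 * z⁻¹)⁻¹ := by group
          _ = b.1 * a.1⁻¹ := by rw [← e']; group
      have := hfree _ (mul_mem b.2 (inv_mem a.2)) (mul_inv_eq_iff_eq_mul.mp h1)
      exact Subtype.ext (mul_inv_eq_one.mp this).symm
    intro a ha
    obtain ⟨b, hb⟩ := (Finite.injective_iff_surjective.mp hf) ⟨a, ha⟩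
    have hb' : b.1⁻¹ * (z * b.1 * z⁻¹) = a := congrArg Subtype.val hb
    have hzz : z * (z * b.1 * z⁻¹) * z⁻¹ = b.1 := by
      rw [inv_eq_of_mul_eq_one_right hz2]
      simp only [← mul_assoc, hz2, one_mul]
      rw [mul_assoc, hz2, mul_one]
    calc z * a * z⁻¹ = (z * b.1 * z⁻¹)⁻¹ * (z * (z * b.1 * z⁻¹) * z⁻¹) := by rw [← hb']; group
      _ = a⁻¹ := by rw [hzz, ← hb']; group
  have hab : ∀ a ∈ K, ∀ b ∈ K, a * b = b * a := by
    intro a ha b hb
    have h := hinvert _ (mul_mem ha hb)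
    rw [show z * (a * b) * z⁻¹ = (z * a * z⁻¹) * (z * b * z⁻¹) by group, hinvert a ha, hinvert b hb,
      ← mul_inv_rev] at h
    exact (inv_injective h).symm
  have hsqr : ∀ a ∈ K, a * a = 1 → a = 1 := by
    intro a ha h
    have h1 := orderOf_dvd_of_pow_eq_one (show a ^ 2 = 1 by rw [pow_two, h])
    rcases (Nat.dvd_prime Nat.prime_two).mp h1 with e | e
    · exact orderOf_eq_one_iff.mp e
    · exact absurd (e ▸ hoddel a ha) (by decide)
  have h3v : validList threeGens = true := by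
    have := threeFirst; simp only [Bool.and_eq_true] at this; exact this.1.1.1
  have hex : ∀ i, i < 3 → ∃ x, CRepr k x (threeGens.getD i idN) ∧ x ∈ coreSub k := by
    intro i hi
    have h : i < threeGens.length := by rw [threeGens_length]; exact hi
    rw [List.getD_eq_getElem _ _ h]
    obtain ⟨x, hx⟩ := exists_crepr_of_valid (k := k) h3v (List.getElem_mem h)
    exact ⟨x, hx, mem_listSub_of_inList ⟨_, List.mem_of_mem_take (List.mem_of_mem_tail (List.getElem_mem h)), hx⟩⟩
  obtain ⟨t0, ht0, hq0⟩ := hex 0 (by norm_num)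
  obtain ⟨t1, ht1, hq1⟩ := hex 1 (by norm_num)
  obtain ⟨t2, ht2, hq2⟩ := hex 2 (by norm_num)
  let fl : Bool → ↥M24 → ↥M24 := fun e x => if e then z * x else x
  have hfl : ∀ (e : Bool) {x : ↥M24} {p : ℕ}, CRepr k x p → CRepr k (fl e x) (flipZ e p) := by
    intro e x p h
    cases e
    · exact h
    · exact hz.mul h
  have hbase : ∀ a b c : Bool, ∀ g ∈ K, fl a t0 * g = g * fl a t0 → fl b t1 * g = g * fl b t1 →
      fl c t2 * g = g * fl c t2 → g = 1 := by
    intro a b c g hg h0 h1 h2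
    obtain ⟨q, hq, hs⟩ := List.any_eq_true.mp (three_pairing a b c)
    simp only [Bool.and_eq_true] at hs
    obtain ⟨y, hy⟩ := exists_crepr_of_valid (k := k) coreList_valid hq
    have hyQ : y ∈ coreSub k := mem_coreSub.mpr ⟨q, hq, hy⟩
    have e0 : y * t0 = fl a t0 * y := (hy.mul ht0).eq_of_same ((hfl a ht0).mul hy) hs.1.1
    have e1 : y * t1 = fl b t1 * y := (hy.mul ht1).eq_of_same ((hfl b ht1).mul hy) hs.1.2
    have e2 : y * t2 = fl c t2 * y := (hy.mul ht2).eq_of_same ((hfl c ht2).mul hy) hs.2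
    have hgy : y⁻¹ * g * y ∈ K := by simpa using hconj y⁻¹ (inv_mem hyQ) g hg
    have key : ∀ s t : ↥M24, y * t = s * y → s * g = g * s → t * (y⁻¹ * g * y) = y⁻¹ * g * y * t := by
      intro s t hst hsg
      have : t = y⁻¹ * s * y := by rw [mul_assoc, ← hst, inv_mul_cancel_left]
      rw [this, show y⁻¹ * s * y * (y⁻¹ * g * y) = y⁻¹ * (s * g) * y by group, hsg]
      group
    have h := eq_one_of_commutes_three (k := k) (hoddel _ hgy)
      (t := fun i => if i = 0 then t0 else if i = 1 then t1 else t2)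
      (fun i hi => by interval_cases i <;> simpa)
      (fun i hi => by
        interval_cases i
        · simpa using key _ _ e0 h0
        · simpa using key _ _ e1 h1
        · simpa using key _ _ e2 h2)
    calc g = y * (y⁻¹ * g * y) * y⁻¹ := by group
      _ = 1 := by rw [h]; group
  have hcommQ : ∀ x ∈ coreSub k, ∀ e : Bool, fl e x ∈ coreSub k := fun x hx e => by
    cases e
    · exact hx
    · exact mul_mem hzQ hx
  have hflc : ∀ (e e' : Bool) (x y : ↥M24), x ∈ coreSub k → y ∈ coreSub k → x * y = y * x →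
      fl e x * fl e' y = fl e' y * fl e x := by
    intro e e' x y hx hy hxy
    have hxz : Commute x z := z_comm hz hx
    have hyz : Commute y z := z_comm hz hy
    cases e <;> cases e'
    · exact hxy
    · exact Commute.mul_right hxz hxy
    · exact Commute.mul_left hyz.symm hxy
    · exact Commute.mul_left (Commute.mul_right (Commute.refl z) hyz.symm) (Commute.mul_right hxz hxy)
  have htt : ∀ {p : ℕ} {x : ↥M24}, CRepr k x p → p ∈ threeGens → x * x = 1 ∧ (∀ {q : ℕ} {y : ↥M24},
      CRepr k y q → q ∈ threeGens → x * y = y * x) := by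
    intro p x hx hp
    have hxE : x ∈ fourSub k := mem_listSub_of_inList ⟨p, List.mem_of_mem_tail hp, hx⟩
    have hel := fourSub_elementaryAbelian hz
    refine ⟨by rw [← pow_two]; exact hel.2 x hxE, fun {q y} hy hq => ?_⟩
    haveI := hel.1
    exact setLike_mul_comm hxE (mem_listSub_of_inList ⟨q, List.mem_of_mem_tail hq, hy⟩)
  have hm : ∀ i, i < 3 → threeGens.getD i idN ∈ threeGens := fun i hi => by
    have h : i < threeGens.length := by rw [threeGens_length]; exact hi
    rw [List.getD_eq_getElem _ _ h]; exact List.getElem_mem h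
  -- one step of the descent
  have hstep : ∀ (g : ↥M24), g ∈ K → ∀ t ∈ coreSub k, t * t = 1 → ∀ P : ↥M24 → Prop,
      (∀ g' ∈ K, ∀ s : Bool, fl s t * g' = g' * fl s t → P g' → g' = 1) →
      (∀ a b : ↥M24, (∀ s : ↥M24, s * g = g * s → s * t = t * s → s * a = a * s ∧ s * b = b * s) →
        P a ∧ P b) → g = 1 := by
    intro g hg t ht ht2 P hP hPab
    obtain ⟨a, ha, b, hb, hgab, hta, htb, hs⟩ := inverted_step hab hinvert hz2 ht2
      (z_comm hz ht).symm hg (hconj t ht g hg)
    obtain ⟨hPa, hPb⟩ := hPab a b hs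
    have ha1 := hP a ha false hta hPa
    have hb1 := hP b hb true htb hPb
    refine hsqr g hg ?_
    rw [hgab, ha1, hb1, one_mul]
  rw [Subgroup.eq_bot_iff_forall]
  intro g hg
  refine hstep g hg t0 hq0 (htt ht0 (hm 0 (by norm_num))).1 (fun _ => True)
    (fun g0 hg0 a h0 _ => ?_) (fun _ _ _ => ⟨trivial, trivial⟩)
  refine hstep g0 hg0 t1 hq1 (htt ht1 (hm 1 (by norm_num))).1 (fun x => fl a t0 * x = x * fl a t0)
    (fun g1 hg1 b h1 h01 => ?_) (fun x y hxy => hxy _ h0
      (hflc a false t0 t1 hq0 hq1 ((htt ht0 (hm 0 (by norm_num))).2 ht1 (hm 1 (by norm_num)))))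
  refine hstep g1 hg1 t2 hq2 (htt ht2 (hm 2 (by norm_num))).1
    (fun x => fl a t0 * x = x * fl a t0 ∧ fl b t1 * x = x * fl b t1)
    (fun g2 hg2 c h2 h012 => hbase a b c g2 hg2 h012.1 h012.2 h2) (fun x y hxy => ?_)
  have c02 := hxy _ h01
    (hflc a false t0 t2 hq0 hq2 ((htt ht0 (hm 0 (by norm_num))).2 ht2 (hm 2 (by norm_num))))
  have c12 := hxy _ h1
    (hflc b false t1 t2 hq1 hq2 ((htt ht1 (hm 1 (by norm_num))).2 ht2 (hm 2 (by norm_num))))
  exact ⟨⟨c02.1, c12.1⟩, ⟨c02.2, c12.2⟩⟩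

end H90
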