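import Cfsg.Agent.H90.Perm

/-! Certificates for the group of the length-24 code (generated by a search script). -/

set_option autoImplicit false

namespace H90

/-- `x ↦ x + 1`, encoded. -/
def genTN : ℕ := 956302485175575353788796878166559809
/-- `x ↦ -1/x`, encoded. -/
def genSN : ℕ := 1795248432537898728475572672376535
/-- The cube twist, encoded. -/
def genDN : ℕ := 974380510768821363662145534143076928

/-- Straight-line program: each entry is the product of two earlier nodes. -/
def slpProg : List (ℕ × ℕ) := [
  (1, 1), (2, 1), (3, 1), (1, 4), (2, 4), (3, 4), (3, 5), (1, 6),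
  (3, 6), (2, 7), (1, 8), (1, 9), (3, 10), (1, 11), (1, 12), (1, 13),
  (1, 14), (2, 14), (3, 14), (3, 17), (2, 18), (3, 3), (10, 3), (10, 10),
  (27, 27), (27, 28), (28, 28), (30, 30), (29, 31), (5, 3), (33, 1), (34, 1),
  (35, 3), (36, 1), (37, 2), (10, 1), (5, 5), (4, 3), (26, 3), (42, 3),
  (43, 2), (44, 1), (17, 17), (46, 46), (46, 47), (48, 45), (6, 6), (33, 2),
  (51, 3), (25, 3), (7, 3), (16, 16), (55, 55), (55, 56), (8, 2), (58, 3),
  (59, 1), (60, 3), (23, 23), (62, 62), (62, 63), (64, 61), (38, 3), (3, 38),
  (65, 38), (65, 65), (38, 25), (65, 25), (3, 66), (38, 66), (3, 67), (38, 67),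
  (65, 68), (65, 53), (38, 71), (3, 72), (38, 72), (3, 73), (38, 75), (25, 25),
  (10, 2), (68, 68), (85, 85), (85, 86), (86, 86), (88, 88), (87, 89), (90, 49),
  (75, 75), (92, 92), (75, 93), (69, 69), (95, 95), (96, 83), (91, 91), (97, 91),
  (91, 97), (97, 97), (97, 98), (91, 99), (91, 100), (91, 101), (91, 102), (91, 103),
  (91, 104), (97, 104), (97, 105), (91, 106), (97, 106), (91, 107), (97, 108), (97, 111),
  (97, 112), (12, 1), (117, 2), (2, 118), (94, 119), (103, 103), (121, 121), (103, 122),
  (123, 120), (41, 2), (125, 3), (2, 126), (96, 127), (112, 112), (129, 129), (129, 130),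
  (131, 128), (124, 124), (132, 124), (124, 132), (132, 132), (132, 133), (124, 134), (132, 134),
  (124, 135), (132, 135), (124, 136), (132, 136), (124, 137), (132, 137), (132, 138), (124, 141),
  (132, 141), (124, 142), (124, 144), (50, 3), (40, 151), (78, 78), (153, 153), (153, 154),
  (155, 152), (114, 114), (157, 157), (157, 158), (159, 156), (144, 144), (161, 161), (161, 162),
  (163, 160), (11, 11), (165, 165), (165, 166), (167, 39), (80, 80), (80, 169), (170, 168),
  (123, 171), (163, 172), (54, 2), (174, 1), (57, 175), (109, 109), (109, 177), (177, 177),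
  (178, 179), (180, 176), (147, 147), (182, 135), (183, 181), (184, 164), (164, 173), (184, 173),
  (164, 184), (184, 184), (164, 185), (184, 185), (184, 186), (164, 187), (184, 187), (173, 188),
  (184, 188), (173, 190), (164, 191), (184, 192), (164, 194), (52, 1), (201, 3), (32, 202),
  (79, 79), (204, 204), (79, 205), (206, 203), (98, 98), (208, 208), (98, 209), (210, 207),
  (141, 141), (212, 212), (213, 211), (186, 186), (215, 214), (216, 216), (34, 2), (82, 82),
  (219, 219), (220, 220), (219, 221), (222, 218), (105, 105), (224, 224), (225, 225), (224, 226),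
  (227, 223), (138, 138), (138, 229), (230, 228), (189, 231), (217, 232), (155, 84), (99, 99),
  (235, 235), (236, 236), (235, 237), (238, 234), (187, 187), (240, 240), (241, 239), (217, 242),
  (22, 2), (244, 1), (81, 81), (246, 246), (247, 245), (209, 209), (208, 249), (250, 248),
  (148, 148), (252, 252), (252, 253), (254, 251), (164, 164), (164, 256), (257, 255), (216, 258),
  (72, 72), (260, 260), (261, 44), (110, 110), (263, 263), (264, 264), (263, 265), (266, 262),
  (139, 139), (268, 268), (269, 267), (184, 270), (243, 233), (259, 233), (271, 233), (259, 243),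
  (271, 243), (271, 259), (259, 272), (271, 272), (271, 273), (271, 278)]

/-- Node numbers of the transversal of level1. -/
def level1Ix : List ℕ := [0, 1, 4, 7, 12, 18, 9, 15, 22, 24, 23, 8, 14, 20, 10, 13, 19, 16, 6, 11, 17, 21, 5, 2]

/-- Node numbers of the transversal of level2. -/
def level2Ix : List ℕ := [0, 53, 77, 25, 68, 69, 71, 73, 67, 79, 70, 74, 38, 80, 65, 81, 75, 3, 76, 72, 66, 82, 78]

/-- Node numbers of the transversal of level3. -/
def level3Ix : List ℕ := [0, 115, 104, 97, 114, 100, 107, 113, 111, 103, 110, 102, 106, 91, 116, 105, 109, 101, 108, 99, 98, 112]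

/-- Node numbers of the transversal of level4. -/
def level4Ix : List ℕ := [0, 147, 133, 141, 132, 144, 134, 143, 150, 146, 138, 135, 140, 124, 142, 148, 149, 136, 145, 139, 137]

/-- Node numbers of the transversal of level5. -/
def level5Ix : List ℕ := [0, 190, 195, 173, 187, 198, 186, 197, 164, 191, 188, 185, 184, 196, 194, 192, 199, 189, 200, 193]

/-- Node numbers of the transversal of level6. -/
def level6Ix : List ℕ := [0, 217, 216]

/-- Node numbers of the transversal of level7. -/
def level7Ix : List ℕ := [0, 280, 278, 243, 277, 279, 281, 275, 274, 256, 276, 271, 273, 259, 272, 233]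

/-- The octad through the first five points, as an information word. -/
def oct0N : ℕ := 1183

/-- A dodecad containing the first five points, as a mask. -/
def dod0 : ℕ := 165759

/-- Rigidity certificate: a new fixed point and octads cutting it out. -/
def rigidCert : List (ℕ × List ℕ) := [
  (6, [493, 123]),
  (8, [2366, 493]),
  (9, [2745, 567]),
  (11, [2366, 2745]),
  (13, [2366, 181]),
  (14, [186, 181]),
  (15, [686, 61]),
  (16, [2215, 123]),
  (17, [2745, 246]),
  (18, [493, 567]),
  (19, [567, 171]),
  (20, [2215, 186]),
  (21, [181, 686]),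
  (22, [246, 171]),
  (23, [435, 47]),
  (10, [1763]),
  (12, [636])]

end H90
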