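import Cfsg.Agent.H90.Perm

/-! Data for Steiner systems S(5,6,12) (generated by a search script). -/

set_option autoImplicit false

namespace H90

/-- The blocks of the reference S(5,6,12), as a 4096-bit characteristic number. -/
def model12Bits : ℕ := 49106929207225348589017356017775495579661830853060137162070193455467185602779989304016440621172730200074260455960336709412211095238264886416347215393768361361346161488096225359690511407512934819695438541684952237088350234690036940043799270490866255254783182626249394772915236088472631230204887767248863056691900197505378399920211128569170283653576107553633175935721323811243005479172374132678552557043929896036312519010425147467001763793622259941493477183138330269435305898244214299402375850632075996047657176046018800622278028298704127904731930035706833192272070462695864836549388144947342884085379010559008134591274623570324554679429406723863963091897236708699491836189795956288606555965158081894071020605364413667558683539634044866066523147149661891419958829015756950147403384021816998101231524533090162872673733161000287804114276244100636964903643969488617527195593996074671002660724233039763954208535032344282152947430943566791735511699344351886132317907874361821162392173828474356086420391288289357289078824991584609879522520345931771550733343575267057574743536628584770606658798247989704359939112471448274288830062690734848581481374118963250721449759992455685999750833965777798933591883776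

/-- Relabellings taking each search leaf to the reference system. -/
def leafPerms12 : List ℕ := [
  407901468851537952,
  407895900495808544,
  407897037456181280,
  407899165775071264,
  407898035061917728,
  407900400446015520,
  407898138040469536,
  407900263141279776,
  407895969148176416,
  407901400199170080,
  407899303079807008,
  407896934477629472
]

/-- The automorphisms of the reference system fixing the three special points. -/
def autPerms12 : List ℕ := [
  407901468851537952,
  407896998935725120,
  407898199277246560,
  407893635936460928,
  407899061420825760,
  407900262067375296,
  407895801510106336,
  407894836278169856,
  407900401487218689,
  407899131419426881,
  407896830187380833,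
  407901430262797441,
  407895964888666273,
  407892606150876353,
  407894765477304545,
  407897999424032001,
  407898069417559042,
  407895937975058466,
  407892670708651106,
  407900161944164482,
  407893806692830370,
  407901224981139650,
  407899194599186658,
  407896927999368450,
  407901401102030851,
  407892568674738211,
  407900123486753859,
  407894899565993091,
  407897038428080291,
  407893598328291523,
  407897964256694499,
  407899265495631107,
  407895760843251716,
  407899300797060132,
  407893774351472708,
  407901296008404068,
  407894632440104100,
  407898026499377348,
  407892632933666020,
  407900300485132548,
  407893734789815301,
  407900233943683109,
  407901256219331653,
  407899167692687461,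
  407892500896023685,
  407894866244280517,
  407897100900204773,
  407895728692697349,
  407897069595134982,
  407897925440642086,
  407892708190883910,
  407894667837997158,
  407895897301813382,
  407900194283200678,
  407901329098343654,
  407893662650963206,
  407894734313395207,
  407896892663568423,
  407898133671026759,
  407893699090190439,
  407899031454420103,
  407901360334504103,
  407896004478633159,
  407892463413496071,
  407899092729040904,
  407894800951413800,
  407895868043336776,
  407900328535655528,
  407898166996795528,
  407892530890512552,
  407896865649005768,
  407893530643728616
]

/-- The third point on a line of the affine plane. -/
def thirdTbl : List ℕ := [0, 2, 1, 6, 8, 7, 3, 5, 4, 2, 1, 0, 8, 5, 4, 7, 6, 3, 1, 0, 2, 5, 6, 3, 4, 8, 7, 6, 8, 5, 3, 7, 2, 0, 4, 1, 8, 5, 6, 7, 4, 1, 2, 3, 0, 7, 4, 3, 2, 1, 5, 8, 0, 6, 3, 7, 4, 0, 2, 8, 6, 1, 5, 5, 6, 8, 4, 3, 0, 1, 7, 2, 4, 3, 7, 1, 0, 6, 5, 2, 8]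

end H90
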