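import Cfsg.Agent.H90.Orbits

/-! Octads against a dodecad. -/

set_option autoImplicit false

namespace H90

open Cfsg

theorem inter_card_dodec0 {o : Finset GolayPt} (ho : o ∈ octads) :
    (o ∩ dodec0).card = 2 ∨ (o ∩ dodec0).card = 4 ∨ (o ∩ dodec0).card = 6 := by
  obtain ⟨n, hn, h8, rfl⟩ := mem_wordsOfWeight_iff.mp ho
  have h : (wtList 8).all (fun n => let c := popc (encode n &&& dod0)
      Nat.beq c 2 || Nat.beq c 4 || Nat.beq c 6) = true := by decide +kernel
  have := List.all_eq_true.mp h n (mem_wtList.mpr ⟨hn, h8⟩)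
  simp only [Bool.or_eq_true, or_assoc] at this
  rw [dodec0, ← setOf'_and, card_setOf']
  rcases this with h | h | h <;> have := Nat.eq_of_beq_eq_true h <;> omega

theorem inter_card_dodecad {o d : Finset GolayPt} (ho : o ∈ octads) (hd : d ∈ dodecads) :
    (o ∩ d).card = 2 ∨ (o ∩ d).card = 4 ∨ (o ∩ d).card = 6 := by
  obtain ⟨σ, hσ, hσd⟩ := exists_M24_dodecad hd dodec0_mem
  have h := inter_card_dodec0 (o := o.image σ) (image_mem_wordsOfWeight hσ ho)
  rw [← hσd, ← Finset.image_inter _ _ σ.injective, Finset.card_image_of_injective _ σ.injective] at h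
  exact h

theorem ncard_inter_dodecad {d : Finset GolayPt} (hd : d ∈ dodecads) (k : ℕ) :
    {o : Finset GolayPt | o ∈ octads ∧ (o ∩ d).card = k}.ncard =
      ((wtList 8).filter fun n => Nat.beq (popc (encode n &&& dod0)) k).length := by
  classical
  obtain ⟨σ, hσ, hσd⟩ := exists_M24_dodecad dodec0_mem hd
  have h0 : {o : Finset GolayPt | o ∈ octads ∧ (o ∩ d).card = k} =
      (Finset.image σ) '' {o : Finset GolayPt | o ∈ octads ∧ (o ∩ dodec0).card = k} := by
    ext o
    simp only [Set.mem_ofPred_eq, Set.mem_image]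
    constructor
    · rintro ⟨ho, hk⟩
      refine ⟨o.image ⇑σ⁻¹, ⟨image_mem_wordsOfWeight (inv_mem hσ) ho, ?_⟩, ?_⟩
      · rw [← hk, ← hσd]
        have : o ∩ dodec0.image σ = (o.image ⇑σ⁻¹ ∩ dodec0).image σ := by
          rw [Finset.image_inter _ _ σ.injective, Finset.image_image, ← Equiv.Perm.coe_mul]
          simp
        rw [this, Finset.card_image_of_injective _ σ.injective]
      · rw [Finset.image_image, ← Equiv.Perm.coe_mul]; simp
    · rintro ⟨o', ⟨ho', hk⟩, rfl⟩
      refine ⟨image_mem_wordsOfWeight hσ ho', ?_⟩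
      rw [← hσd, ← Finset.image_inter _ _ σ.injective,
        Finset.card_image_of_injective _ σ.injective, hk]
  rw [h0, Set.ncard_image_of_injective _ (Finset.image_injective σ.injective)]
  set L := (wtList 8).filter fun n => Nat.beq (popc (encode n &&& dod0)) k with hL
  have hmem : ∀ n, n ∈ L ↔ (n < 4096 ∧ popc (encode n) = 8) ∧ popc (encode n &&& dod0) = k := by
    intro n; simp [hL, List.mem_filter, mem_wtList]
  have h1 : {o : Finset GolayPt | o ∈ octads ∧ (o ∩ dodec0).card = k} =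
      ↑(L.toFinset.image fun n => setOf' (encode n)) := by
    ext o
    simp only [Set.mem_ofPred_eq, Finset.coe_image, Set.mem_image, Finset.mem_coe,
      List.mem_toFinset, hmem]
    constructor
    · rintro ⟨ho, hk⟩
      obtain ⟨n, hn, h8, rfl⟩ := mem_wordsOfWeight_iff.mp ho
      exact ⟨n, ⟨⟨hn, h8⟩, by rw [← hk, dodec0, ← setOf'_and, card_setOf']⟩, rfl⟩
    · rintro ⟨n, ⟨⟨hn, h8⟩, hk⟩, rfl⟩
      exact ⟨mem_wordsOfWeight_iff.mpr ⟨n, hn, h8, rfl⟩,
        by rw [← hk, dodec0, ← setOf'_and, card_setOf']⟩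
  rw [h1, Set.ncard_coe_finset, Finset.card_image_of_injOn, List.toFinset_card_of_nodup]
  · exact (List.nodup_range.filter _).filter _
  · intro a ha b hb hab
    simp only [List.coe_toFinset, Set.mem_ofPred_eq, hmem] at ha hb
    exact encode_injOn ha.1.1 hb.1.1 (setOf'_injOn (encode_lt ha.1.1) (encode_lt hb.1.1) hab)

theorem inter_counts {d : Finset GolayPt} (hd : d ∈ dodecads) :
    {o : Finset GolayPt | o ∈ octads ∧ (o ∩ d).card = 6}.ncard = 132 ∧
      {o : Finset GolayPt | o ∈ octads ∧ (o ∩ d).card = 2}.ncard = 132 ∧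
      {o : Finset GolayPt | o ∈ octads ∧ (o ∩ d).card = 4}.ncard = 495 := by
  simp only [ncard_inter_dodecad hd]
  decide +kernel

/-- The hexads on a dodecad form a Steiner system S(5, 6, 12). -/
theorem hexads_steiner {d : Finset GolayPt} (hd : d ∈ dodecads) :
    IsSteinerSystem 5 6 {h : Finset {p : GolayPt // p ∈ d} |
      ∃ o ∈ octads, (o ∩ d).card = 6 ∧ h = Finset.subtype (fun p => p ∈ d) o} := by
  classical
  have hcard : ∀ o : Finset GolayPt, (Finset.subtype (fun p => p ∈ d) o).card = (o ∩ d).card := by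
    intro o
    rw [Finset.card_subtype, Finset.filter_mem_eq_inter]
  refine ⟨?_, fun s hs => ?_⟩
  · rintro h ⟨o, -, h6, rfl⟩
    rw [hcard, h6]
  · obtain ⟨o, ⟨ho, hso⟩, huniq⟩ := octads_steiner.2 (s.map (Function.Embedding.subtype _))
      (by rw [Finset.card_map, hs])
    have hsd : ∀ {o' : Finset GolayPt}, s ⊆ Finset.subtype (fun p => p ∈ d) o' ↔
        s.map (Function.Embedding.subtype _) ⊆ o' := fun {o'} => by
      simp only [Finset.subset_iff, Finset.mem_map, Function.Embedding.coe_subtype,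
        Finset.mem_subtype]
      exact ⟨fun h x ⟨y, hy, e⟩ => e ▸ h hy, fun h x hx => h ⟨x, hx, rfl⟩⟩
    have h6 : (o ∩ d).card = 6 := by
      have h5 : 5 ≤ (o ∩ d).card := by
        rw [← hcard, ← hs]; exact Finset.card_le_card (hsd.mpr hso)
      rcases inter_card_dodecad ho hd with h | h | h <;> omega
    refine ⟨_, ⟨⟨o, ho, h6, rfl⟩, hsd.mpr hso⟩, ?_⟩
    rintro h ⟨⟨o', ho', -, rfl⟩, hsh⟩
    rw [huniq o' ⟨ho', hsd.mp hsh⟩]

end H90
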