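import Cfsg.Agent.H94.Steiner

/-! Counting in Steiner systems: block-intersection numbers. -/

set_option autoImplicit false
set_option linter.unusedSectionVars false

namespace H90

open Finset

variable {α : Type*} [Fintype α] [DecidableEq α]

/-- Number of blocks meeting `Y` in `i` points. -/
noncomputable def meetNum (B : Set (Finset α)) (Y : Finset α) (i : ℕ) : ℕ :=
  ((H94.blockSet B).filter fun b => (b ∩ Y).card = i).card

theorem steiner_moment {t k : ℕ} {B : Set (Finset α)} (hB : Cfsg.IsSteinerSystem t k B)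
    (Y : Finset α) (N : ℕ) (hN : ∀ b ∈ B, (b ∩ Y).card ≤ N) (j m : ℕ) (hj : j ≤ t) (htk : t ≤ k)
    (hm : m * (k - j).choose (t - j) = (Fintype.card α - j).choose (t - j)) :
    ∑ i ∈ range (N + 1), i.choose j * meetNum B Y i = Y.card.choose j * m := by
  have h1 : ∑ b ∈ H94.blockSet B, (b ∩ Y).card.choose j = Y.card.choose j * m := by
    rw [H94.sum_choose_inter, ← card_powersetCard, ← smul_eq_mul, ← sum_const]
    refine sum_congr rfl fun S hS => ?_
    rw [mem_powersetCard] at hS
    have h := H94.steiner_lambda hB S (by omega)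
    rw [hS.2, ← hm] at h
    exact Nat.eq_of_mul_eq_mul_right (Nat.choose_pos (by omega)) h
  rw [← h1, ← sum_fiberwise_of_maps_to (g := fun b => (b ∩ Y).card) (t := range (N + 1))
    (fun b hb => mem_range.mpr (Nat.lt_succ_of_le (hN b (H94.mem_blockSet.mp hb))))]
  refine sum_congr rfl fun i _ => ?_
  rw [meetNum, sum_congr rfl (fun b hb => by rw [(mem_filter.mp hb).2]), sum_const, smul_eq_mul,
    mul_comm]

theorem meetNum_pos {B : Set (Finset α)} (Y : Finset α) {b : Finset α} (hb : b ∈ B) :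
    0 < meetNum B Y (b ∩ Y).card :=
  card_pos.mpr ⟨b, mem_filter.mpr ⟨H94.mem_blockSet.mpr hb, rfl⟩⟩

theorem meetNum_eq_zero {B : Set (Finset α)} (Y : Finset α) (i : ℕ)
    (h : ∀ b ∈ B, (b ∩ Y).card ≠ i) : meetNum B Y i = 0 := by
  rw [meetNum, card_eq_zero, filter_eq_empty_iff]
  exact fun b hb => h b (H94.mem_blockSet.mp hb)

theorem steiner_inter_lt {t k : ℕ} {B : Set (Finset α)} (hB : Cfsg.IsSteinerSystem t k B)
    {b c : Finset α} (hb : b ∈ B) (hc : c ∈ B) (hne : b ≠ c) : (b ∩ c).card < t := by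
  by_contra h
  obtain ⟨u, hu, huc⟩ := exists_subset_card_eq (s := b ∩ c) (n := t) (by omega)
  exact hne (H94.steiner_unique hB hb hc huc (hu.trans inter_subset_left)
    (hu.trans inter_subset_right))

/-- With respect to one of its blocks, a system has a single block meeting it in `k` points and
none in `t, …, k-1`. -/
theorem meetNum_block {t k : ℕ} {B : Set (Finset α)} (hB : Cfsg.IsSteinerSystem t k B) (htk : t ≤ k)
    {b : Finset α} (hb : b ∈ B) :
    meetNum B b k = 1 ∧ ∀ i, t ≤ i → i < k → meetNum B b i = 0 := by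
  refine ⟨?_, fun i h1 h2 => meetNum_eq_zero b i fun c hc e => ?_⟩
  · rw [meetNum, card_eq_one]
    refine ⟨b, ext fun c => ?_⟩
    rw [mem_filter, H94.mem_blockSet, mem_singleton]
    refine ⟨fun ⟨hc, e⟩ => ?_, by rintro rfl; exact ⟨hb, by rw [inter_self, hB.1 c hb]⟩⟩
    by_contra hne
    have := steiner_inter_lt hB hc hb hne
    omega
  · rcases eq_or_ne c b with rfl | hne
    · rw [inter_self, hB.1 c hc] at e; omega
    · have := steiner_inter_lt hB hc hb hne
      omega

theorem s24_meet {B : Set (Finset α)} (hα : Fintype.card α = 24)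
    (hB : Cfsg.IsSteinerSystem 5 8 B) {b : Finset α} (hb : b ∈ B) :
    meetNum B b 0 = 30 ∧ meetNum B b 1 = 0 ∧ meetNum B b 3 = 0 := by
  obtain ⟨h8, h0⟩ := meetNum_block hB (by norm_num) hb
  have hb8 := hB.1 b hb
  have hM := fun j m hj hm => steiner_moment hB b 8
    (fun c _ => hb8 ▸ card_le_card inter_subset_right) j m hj (by norm_num) hm
  have e0 := hM 0 759 (by norm_num) (by rw [hα]; decide +kernel)
  have e1 := hM 1 253 (by norm_num) (by rw [hα]; decide +kernel)
  have e2 := hM 2 77 (by norm_num) (by rw [hα]; decide +kernel)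
  have e3 := hM 3 21 (by norm_num) (by rw [hα]; decide +kernel)
  have e4 := hM 4 5 (by norm_num) (by rw [hα]; decide +kernel)
  simp only [hb8, sum_range_succ, sum_range_zero, h8, h0 5 le_rfl (by norm_num),
    h0 6 (by norm_num) (by norm_num), h0 7 (by norm_num) (by norm_num)] at e0 e1 e2 e3 e4
  norm_num [Nat.choose] at e0 e1 e2 e3 e4
  omega

theorem s24_inter {B : Set (Finset α)} (hα : Fintype.card α = 24)
    (hB : Cfsg.IsSteinerSystem 5 8 B) {b c : Finset α} (hb : b ∈ B) (hc : c ∈ B) (hbc : b ≠ c) :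
    (b ∩ c).card = 0 ∨ (b ∩ c).card = 2 ∨ (b ∩ c).card = 4 := by
  have h := steiner_inter_lt hB hb hc hbc
  have hp := meetNum_pos c hb
  obtain ⟨-, h1, h3⟩ := s24_meet hα hB hc
  rcases (by omega : (b ∩ c).card = 0 ∨ (b ∩ c).card = 1 ∨ (b ∩ c).card = 2 ∨ (b ∩ c).card = 3 ∨
    (b ∩ c).card = 4) with e | e | e | e | e <;> rw [e] at hp ⊢ <;> omega

theorem s24_disjoint_count {B : Set (Finset α)} (hα : Fintype.card α = 24)
    (hB : Cfsg.IsSteinerSystem 5 8 B) {b : Finset α} (hb : b ∈ B) :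
    {c : Finset α | c ∈ B ∧ Disjoint b c}.ncard = 30 := by
  rw [H94.ncard_sep_eq, ← (s24_meet hα hB hb).1, meetNum]
  congr 1
  refine filter_congr fun c _ => ?_
  rw [card_eq_zero, ← disjoint_iff_inter_eq_empty, disjoint_comm]

theorem s23_meet {B : Set (Finset α)} (hα : Fintype.card α = 23)
    (hB : Cfsg.IsSteinerSystem 4 7 B) {b : Finset α} (hb : b ∈ B) :
    meetNum B b 0 = 0 ∧ meetNum B b 2 = 0 := by
  obtain ⟨h8, h0⟩ := meetNum_block hB (by norm_num) hb
  have hb7 := hB.1 b hb
  have hM := fun j m hj hm => steiner_moment hB b 7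
    (fun c _ => hb7 ▸ card_le_card inter_subset_right) j m hj (by norm_num) hm
  have e0 := hM 0 253 (by norm_num) (by rw [hα]; decide +kernel)
  have e1 := hM 1 77 (by norm_num) (by rw [hα]; decide +kernel)
  have e2 := hM 2 21 (by norm_num) (by rw [hα]; decide +kernel)
  have e3 := hM 3 5 (by norm_num) (by rw [hα]; decide +kernel)
  simp only [hb7, sum_range_succ, sum_range_zero, h8, h0 4 le_rfl (by norm_num),
    h0 5 (by norm_num) (by norm_num), h0 6 (by norm_num) (by norm_num)] at e0 e1 e2 e3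
  norm_num [Nat.choose] at e0 e1 e2 e3
  omega

theorem s23_inter {B : Set (Finset α)} (hα : Fintype.card α = 23)
    (hB : Cfsg.IsSteinerSystem 4 7 B) {b c : Finset α} (hb : b ∈ B) (hc : c ∈ B) (hbc : b ≠ c) :
    (b ∩ c).card = 1 ∨ (b ∩ c).card = 3 := by
  have h := steiner_inter_lt hB hb hc hbc
  have hp := meetNum_pos c hb
  obtain ⟨h0, h2⟩ := s23_meet hα hB hc
  rcases (by omega : (b ∩ c).card = 0 ∨ (b ∩ c).card = 1 ∨ (b ∩ c).card = 2 ∨ (b ∩ c).card = 3)
    with e | e | e | e <;> rw [e] at hp ⊢ <;> omega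

theorem s12_compl {B : Set (Finset α)} (hα : Fintype.card α = 12)
    (hB : Cfsg.IsSteinerSystem 5 6 B) {b : Finset α} (hb : b ∈ B) : bᶜ ∈ B := by
  obtain ⟨h6, h0⟩ := meetNum_block hB (by norm_num) hb
  have hb6 := hB.1 b hb
  have hM := fun j m hj hm => steiner_moment hB b 6
    (fun c _ => hb6 ▸ card_le_card inter_subset_right) j m hj (by norm_num) hm
  have e0 := hM 0 132 (by norm_num) (by rw [hα]; decide +kernel)
  have e1 := hM 1 66 (by norm_num) (by rw [hα]; decide +kernel)
  have e2 := hM 2 30 (by norm_num) (by rw [hα]; decide +kernel)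
  have e3 := hM 3 12 (by norm_num) (by rw [hα]; decide +kernel)
  have e4 := hM 4 4 (by norm_num) (by rw [hα]; decide +kernel)
  simp only [hb6, sum_range_succ, sum_range_zero, h6, h0 5 le_rfl (by norm_num)] at e0 e1 e2 e3 e4
  norm_num [Nat.choose] at e0 e1 e2 e3 e4
  have hz : 0 < meetNum B b 0 := by omega
  obtain ⟨c, hc⟩ := card_pos.mp hz
  rw [mem_filter, H94.mem_blockSet, card_eq_zero, ← disjoint_iff_inter_eq_empty] at hc
  have : c = bᶜ := eq_of_subset_of_card_le (subset_compl_iff_disjoint_right.mpr hc.2)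
    (by rw [card_compl, hB.1 c hc.1, hb6, hα])
  exact this ▸ hc.1

theorem steiner_count {t k : ℕ} {B : Set (Finset α)} (hB : Cfsg.IsSteinerSystem t k B) :
    B.ncard * k.choose t = (Fintype.card α).choose t := by
  have h := H94.steiner_lambda hB ∅ (Nat.zero_le _)
  simp only [card_empty, Nat.sub_zero, empty_subset, filter_true] at h
  rw [← h]
  congr 1
  conv_lhs => rw [← H94.coe_blockSet B]
  exact Set.ncard_coe_finset _

theorem steiner_derived {t k : ℕ} {B : Set (Finset α)}
    (hB : Cfsg.IsSteinerSystem (t + 1) (k + 1) B) (p : α) :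
    Cfsg.IsSteinerSystem t k
      {b' : Finset {a : α // a ≠ p} | ∃ b ∈ B, p ∈ b ∧ b' = Finset.subtype (fun a => a ≠ p) b} := by
  classical
  refine ⟨?_, fun s hs => ?_⟩
  · rintro b' ⟨b, hb, hp, rfl⟩
    rw [card_subtype, filter_ne', card_erase_of_mem hp, hB.1 b hb]
    omega
  · set S : Finset α := insert p (s.map (Function.Embedding.subtype _)) with hS
    have hScard : S.card = t + 1 := by
      rw [hS, card_insert_of_notMem, card_map, hs]
      simp [mem_map]
    obtain ⟨b, ⟨hb, hSb⟩, huniq⟩ := hB.2 S hScard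
    have hiff : ∀ c : Finset α, p ∈ c → (s ⊆ c.subtype (fun a => a ≠ p) ↔ S ⊆ c) := by
      intro c hpc
      rw [hS, insert_subset_iff, map_eq_image, image_subset_iff]
      simp only [hpc, true_and, subset_iff, mem_subtype, Function.Embedding.coe_subtype]
    have hpb : p ∈ b := hSb (mem_insert_self _ _)
    refine ⟨_, ⟨⟨b, hb, hpb, rfl⟩, (hiff b hpb).mpr hSb⟩, ?_⟩
    rintro _ ⟨⟨c, hc, hpc, rfl⟩, hsc⟩
    rw [huniq c ⟨hc, (hiff c hpc).mp hsc⟩]

end H90
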