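import Cfsg.Agent.H90.DataTwelve
import Cfsg.Agent.H90.SteinerCounts

/-!
A verified search showing that a Steiner system S(5,6,12) on `Fin 12` with five prescribed blocks
is the reference system up to relabelling.
-/

set_option autoImplicit false

namespace H90

open Finset

/-- The subset of `Fin 12` with a given mask. -/
def set12 (m : ℕ) : Finset (Fin 12) := univ.filter fun i => m.testBit i.val

/-- The mask of a subset of `Fin 12`. -/
def mask12 (s : Finset (Fin 12)) : ℕ := Nat.ofBits fun i : Fin 12 => decide (i ∈ s)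

theorem mem_set12 {m : ℕ} {i : Fin 12} : i ∈ set12 m ↔ m.testBit i.val = true := by simp [set12]

theorem mask12_lt (s : Finset (Fin 12)) : mask12 s < 4096 := Nat.ofBits_lt_two_pow _

theorem set12_mask12 (s : Finset (Fin 12)) : set12 (mask12 s) = s := by
  ext i; simp [mem_set12, mask12, Nat.testBit_ofBits_lt _ _ i.isLt]

theorem set12_injOn {a b : ℕ} (ha : a < 4096) (hb : b < 4096) (h : set12 a = set12 b) : a = b := by
  apply Nat.eq_of_testBit_eq
  intro i
  by_cases hi : i < 12
  · have h' := Finset.ext_iff.mp h ⟨i, hi⟩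
    simp only [mem_set12] at h'
    exact Bool.eq_iff_iff.mpr h'
  · have hp : 2 ^ 12 ≤ 2 ^ i := Nat.pow_le_pow_right (by norm_num) (by omega)
    rw [Nat.testBit_lt_two_pow (lt_of_lt_of_le ha hp), Nat.testBit_lt_two_pow (lt_of_lt_of_le hb hp)]

theorem mask12_set12 {m : ℕ} (hm : m < 4096) : mask12 (set12 m) = m :=
  set12_injOn (mask12_lt _) hm (set12_mask12 _)

theorem card_set12 (m : ℕ) : (set12 m).card = popcAux 12 m := by
  rw [popcAux_eq, set12]
  refine Finset.card_bij (fun p _ => p.val) ?_ ?_ ?_
  · intro p hp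
    simpa using hp
  · intro p _ q _ h
    exact Fin.ext h
  · intro i hi
    simp only [Finset.mem_filter, Finset.mem_range] at hi
    exact ⟨⟨i, hi.1⟩, by simp [hi.2], rfl⟩

theorem set12_compl {m : ℕ} : set12 (4095 ^^^ m) = (set12 m)ᶜ := by
  ext i
  rw [mem_compl, mem_set12, mem_set12, Nat.testBit_xor,
    show (4095 : ℕ) = 2 ^ 12 - 1 from rfl, Nat.testBit_two_pow_sub_one]
  simp [i.isLt]

theorem set12_and (a b : ℕ) : set12 (a &&& b) = set12 a ∩ set12 b := by
  ext i; simp [mem_set12, Nat.testBit_and]

theorem set12_subset_iff {r d : ℕ} (hr : r < 4096) : set12 r ⊆ set12 d ↔ r &&& d = r := by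
  constructor
  · intro h
    refine set12_injOn (lt_of_le_of_lt Nat.and_le_left hr) hr ?_
    rw [set12_and, inter_eq_left]
    exact h
  · intro h
    rw [← h, set12_and]
    exact inter_subset_right

/-! ### Bit sets indexed by 5-subsets -/

/-- The five-point subsets of a six-point mask, as a bit set. -/
def covAux (d : ℕ) : ℕ → ℕ
  | 0 => 0
  | k + 1 => bif d.testBit k then covAux d k ||| 2 ^ (d - 2 ^ k) else covAux d k

/-- The five-point subsets of a six-point mask, as a bit set. -/
def cov (d : ℕ) : ℕ := covAux d 12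

theorem testBit_covAux (d r : ℕ) : ∀ k, (covAux d k).testBit r = true ↔
    ∃ i < k, d.testBit i = true ∧ d - 2 ^ i = r := by
  intro k
  induction k with
  | zero => simp [covAux]
  | succ k ih =>
    rw [covAux]
    cases hk : d.testBit k
    · simp only [cond_false, ih]
      constructor
      · rintro ⟨i, hi, h⟩; exact ⟨i, by omega, h⟩
      · rintro ⟨i, hi, h1, h2⟩
        rcases eq_or_ne i k with rfl | hne
        · simp [hk] at h1
        · exact ⟨i, by omega, h1, h2⟩
    · simp only [cond_true, Nat.testBit_or, Bool.or_eq_true, ih, Nat.testBit_two_pow,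
        decide_eq_true_eq]
      constructor
      · rintro (⟨i, hi, h⟩ | h)
        · exact ⟨i, by omega, h⟩
        · exact ⟨k, by omega, hk, h⟩
      · rintro ⟨i, hi, h1, h2⟩
        rcases eq_or_ne i k with rfl | hne
        · exact Or.inr h2
        · exact Or.inl ⟨i, by omega, h1, h2⟩

theorem sub_two_pow {d : ℕ} (i : Fin 12) (hd : d < 4096) (hi : d.testBit i.val = true) :
    d - 2 ^ i.val < 4096 ∧ set12 (d - 2 ^ i.val) = (set12 d).erase i := by
  have hxor : d - 2 ^ i.val = d ^^^ 2 ^ i.val := by
    have h : (List.range 4096).all (fun d => (List.range 12).all fun i =>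
        !d.testBit i || Nat.beq (d - 2 ^ i) (d ^^^ 2 ^ i)) = true := by decide +kernel
    have := List.all_eq_true.mp (List.all_eq_true.mp h d (List.mem_range.mpr hd)) i.val
      (List.mem_range.mpr i.isLt)
    simpa [hi] using this
  refine ⟨lt_of_le_of_lt (Nat.sub_le _ _) hd, ?_⟩
  ext j
  rw [hxor, mem_erase, mem_set12, mem_set12, Nat.testBit_xor, Nat.testBit_two_pow]
  by_cases hj : j = i
  · subst hj; simp [hi]
  · have : i.val ≠ j.val := fun e => hj (Fin.ext e).symm
    simp [hj, this]

theorem testBit_cov {d r : ℕ} (hd : d < 4096) (h6 : popcAux 12 d = 6) :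
    (cov d).testBit r = true ↔ r < 4096 ∧ popcAux 12 r = 5 ∧ r &&& d = r := by
  rw [cov, testBit_covAux]
  constructor
  · rintro ⟨i, hi, hb, rfl⟩
    obtain ⟨h1, h2⟩ := sub_two_pow ⟨i, hi⟩ hd hb
    refine ⟨h1, ?_, (set12_subset_iff h1).mp (h2 ▸ erase_subset _ _)⟩
    rw [← card_set12, h2, card_erase_of_mem (mem_set12.mpr hb), card_set12, h6]
  · rintro ⟨hr, h5, hsub⟩
    have hs := (set12_subset_iff hr).mpr hsub
    obtain ⟨i, hi⟩ : ∃ i, set12 d \ set12 r = {i} := by
      rw [← card_eq_one, card_sdiff_of_subset hs, card_set12, card_set12, h6, h5]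
    have hid : i ∈ set12 d ∧ i ∉ set12 r := mem_sdiff.mp (hi ▸ mem_singleton_self i)
    obtain ⟨h1, h2⟩ := sub_two_pow i hd (mem_set12.mp hid.1)
    refine ⟨i.val, i.isLt, mem_set12.mp hid.1, set12_injOn h1 hr ?_⟩
    rw [h2, erase_eq, ← hi, Finset.sdiff_sdiff_eq_self hs]

/-- All five-point subsets, as a bit set. -/
def fullAux : ℕ → ℕ
  | 0 => 0
  | k + 1 => bif Nat.beq (popcAux 12 k) 5 then fullAux k ||| 2 ^ k else fullAux k

theorem testBit_fullAux (r : ℕ) : ∀ k, (fullAux k).testBit r = true ↔ r < k ∧ popcAux 12 r = 5 := by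
  intro k
  induction k with
  | zero => simp [fullAux]
  | succ k ih =>
    rw [fullAux]
    cases hk : Nat.beq (popcAux 12 k) 5
    · simp only [cond_false, ih]
      constructor
      · exact fun h => ⟨by omega, h.2⟩
      · rintro ⟨h1, h2⟩
        rcases eq_or_ne r k with rfl | hne
        · rw [h2] at hk; exact absurd hk (by decide)
        · exact ⟨by omega, h2⟩
    · simp only [cond_true, Nat.testBit_or, Bool.or_eq_true, ih, Nat.testBit_two_pow,
        decide_eq_true_eq]
      constructor
      · rintro (⟨h1, h2⟩ | rfl)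
        · exact ⟨by omega, h2⟩
        · exact ⟨by omega, Nat.eq_of_beq_eq_true hk⟩
      · rintro ⟨h1, h2⟩
        rcases eq_or_ne r k with rfl | hne
        · exact Or.inr rfl
        · exact Or.inl ⟨by omega, h2⟩

/-! ### The search -/

/-- Add a block and its complement. -/
def addPair (st : List ℕ × ℕ) (d : ℕ) : Option (List ℕ × ℕ) :=
  bif Nat.beq (st.2 &&& cov d) (cov d) &&
      Nat.beq ((st.2 ^^^ cov d) &&& cov (4095 ^^^ d)) (cov (4095 ^^^ d))
  then some ((4095 ^^^ d) :: d :: st.1, st.2 ^^^ cov d ^^^ cov (4095 ^^^ d))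
  else none

/-- Image of a 12-bit mask under an encoded map. -/
def pm12 (p m : ℕ) : ℕ := permMaskAux p m 12

/-- An encoded map is a permutation of `Fin 12` fixing the three special points. -/
def isPerm12 (p : ℕ) : Bool :=
  decide ((∀ i : Fin 12, img p i.val < 12) ∧ (∀ i j : Fin 12, img p i.val = img p j.val → i = j) ∧
    ∀ i : Fin 12, 9 ≤ i.val → img p i.val = i.val)

/-- The bit set of the relabelled blocks. -/
def imageBits (p : ℕ) : List ℕ → ℕ
  | [] => 0
  | d :: ds => 2 ^ pm12 p d ||| imageBits p ds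

/-- Some listed relabelling carries the blocks to the reference system. -/
def leafOK (ch : List ℕ) : Bool :=
  leafPerms12.any fun p => isPerm12 p && Nat.beq (imageBits p ch) model12Bits

/-- Exhaustive search. -/
def search12 : ℕ → List ℕ × ℕ → Bool
  | 0, _ => false
  | f + 1, st =>
    bif Nat.beq st.2 0 then leafOK st.1 else
      (List.range 12).all fun i => (Nat.log2 st.2).testBit i ||
        match addPair st (Nat.log2 st.2 ||| 2 ^ i) with
        | none => true
        | some s => search12 f s

/-- Soundness invariant of a search state relative to a set `S` of blocks. -/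
structure SearchInv (S : Set ℕ) (st : List ℕ × ℕ) : Prop where
  mem : ∀ d ∈ st.1, d ∈ S
  compl : ∀ d ∈ st.1, (4095 ^^^ d) ∈ st.1
  open5 : ∀ r, st.2.testBit r = true → r < 4096 ∧ popcAux 12 r = 5 ∧ ∀ d ∈ st.1, r &&& d ≠ r
  cover : ∀ d ∈ S, d ∈ st.1 ∨
    ∀ r, r < 4096 → popcAux 12 r = 5 → r &&& d = r → st.2.testBit r = true

/-- The hypotheses on the block masks. -/
structure BlockMasks (S : Set ℕ) : Prop where
  six : ∀ d ∈ S, d < 4096 ∧ popcAux 12 d = 6
  uniq : ∀ r, r < 4096 → popcAux 12 r = 5 → ∃! d, d ∈ S ∧ r &&& d = r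
  closed : ∀ d ∈ S, (4095 ^^^ d) ∈ S

theorem xor_of_sub {R c : ℕ} (h : R &&& c = c) (r : ℕ) :
    (R ^^^ c).testBit r = (R.testBit r && !c.testBit r) := by
  have := congrArg (fun n : ℕ => n.testBit r) h
  simp only [Nat.testBit_and] at this
  rw [Nat.testBit_xor]
  revert this
  cases R.testBit r <;> cases c.testBit r <;> simp

theorem addPair_spec {S : Set ℕ} (hS : BlockMasks S) {st : List ℕ × ℕ} (hI : SearchInv S st)
    {d : ℕ} (hd : d ∈ S) (hnot : d ∉ st.1) :
    ∃ s, addPair st d = some s ∧ SearchInv S s := by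
  set e := 4095 ^^^ d with he
  have hed : 4095 ^^^ e = d := by rw [he, ← Nat.xor_assoc, Nat.xor_self, Nat.zero_xor]
  have heS : e ∈ S := hS.closed d hd
  have henot : e ∉ st.1 := fun h => hnot (hed ▸ hI.compl e h)
  obtain ⟨hd1, hd2⟩ := hS.six d hd
  obtain ⟨he1, he2⟩ := hS.six e heS
  have hne : d ≠ e := by
    intro h
    have h' : d ^^^ d = 0 := Nat.xor_self d
    rw [he] at h
    have : (4095 : ℕ) = d ^^^ d := by
      conv_rhs => rw [h]; arg 2; rw [← h]
      rw [Nat.xor_assoc, Nat.xor_self, Nat.xor_zero]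
    omega
  have hsub : ∀ c, c ∈ S → c ∉ st.1 → ∀ r, (cov c).testBit r = true → st.2.testBit r = true := by
    intro c hc hcn r hr
    obtain ⟨h1, h2, h3⟩ := (testBit_cov (hS.six c hc).1 (hS.six c hc).2).mp hr
    exact (hI.cover c hc).resolve_left hcn r h1 h2 h3
  have h1 : st.2 &&& cov d = cov d := Nat.eq_of_testBit_eq fun r => by
    rw [Nat.testBit_and]
    cases h : (cov d).testBit r
    · simp
    · simp [hsub d hd hnot r h]
  have hdisj : ∀ r, (cov e).testBit r = true → (cov d).testBit r = false := by
    intro r hr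
    cases h : (cov d).testBit r
    · rfl
    · exfalso
      obtain ⟨a1, a2, a3⟩ := (testBit_cov hd1 hd2).mp h
      obtain ⟨-, -, b3⟩ := (testBit_cov he1 he2).mp hr
      exact hne ((hS.uniq r a1 a2).unique ⟨hd, a3⟩ ⟨heS, b3⟩)
  have h2 : (st.2 ^^^ cov d) &&& cov e = cov e := Nat.eq_of_testBit_eq fun r => by
    rw [Nat.testBit_and, xor_of_sub h1]
    cases h : (cov e).testBit r
    · simp
    · simp [hsub e heS henot r h, hdisj r h]
  refine ⟨(e :: d :: st.1, st.2 ^^^ cov d ^^^ cov e), ?_, ?_⟩
  · rw [addPair, ← he, show Nat.beq (st.2 &&& cov d) (cov d) = true by rw [h1]; exact Nat.beq_refl _,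
      show Nat.beq ((st.2 ^^^ cov d) &&& cov e) (cov e) = true by rw [h2]; exact Nat.beq_refl _]
    rfl
  · refine ⟨?_, ?_, ?_, ?_⟩
    · intro x hx
      simp only [List.mem_cons] at hx
      rcases hx with rfl | rfl | hx
      · exact heS
      · exact hd
      · exact hI.mem x hx
    · intro x hx
      simp only [List.mem_cons] at hx ⊢
      rcases hx with rfl | rfl | hx
      · exact Or.inr (Or.inl hed)
      · exact Or.inl rfl
      · exact Or.inr (Or.inr (hI.compl x hx))
    · intro r hr
      simp only [xor_of_sub h2, xor_of_sub h1, Bool.and_eq_true, Bool.not_eq_true'] at hr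
      obtain ⟨⟨hrR, hrd⟩, hre⟩ := hr
      obtain ⟨a1, a2, a3⟩ := hI.open5 r hrR
      refine ⟨a1, a2, fun x hx => ?_⟩
      simp only [List.mem_cons] at hx
      rcases hx with rfl | rfl | hx
      · intro h; rw [(testBit_cov he1 he2).mpr ⟨a1, a2, h⟩] at hre; simp at hre
      · intro h; rw [(testBit_cov hd1 hd2).mpr ⟨a1, a2, h⟩] at hrd; simp at hrd
      · exact a3 x hx
    · intro x hx
      by_cases hxd : x = d
      · exact Or.inl (by simp [hxd])
      by_cases hxe : x = e
      · exact Or.inl (by simp [hxe])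
      rcases hI.cover x hx with h | h
      · exact Or.inl (by simp [h])
      · refine Or.inr fun r a1 a2 a3 => ?_
        have b1 : (cov d).testBit r = false := by
          cases hb : (cov d).testBit r
          · rfl
          · exact absurd ((hS.uniq r a1 a2).unique ⟨hx, a3⟩ ⟨hd, ((testBit_cov hd1 hd2).mp hb).2.2⟩) hxd
        have b2 : (cov e).testBit r = false := by
          cases hb : (cov e).testBit r
          · rfl
          · exact absurd ((hS.uniq r a1 a2).unique ⟨hx, a3⟩ ⟨heS, ((testBit_cov he1 he2).mp hb).2.2⟩) hxe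
        simp only [xor_of_sub h2, xor_of_sub h1, h r a1 a2 a3, b1, b2]
        rfl

theorem search12_sound {S : Set ℕ} (hS : BlockMasks S) :
    ∀ f st, SearchInv S st → search12 f st = true →
      ∃ ch, (∀ d, d ∈ S ↔ d ∈ ch) ∧ leafOK ch = true := by
  intro f
  induction f with
  | zero => intro st _ h; simp [search12] at h
  | succ f ih =>
    intro st hI h
    rw [search12] at h
    cases h0 : Nat.beq st.2 0
    · rw [h0, cond_false] at h
      have hR : st.2 ≠ 0 := fun e => by rw [e] at h0; simp at h0
      set r := Nat.log2 st.2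
      have hr : st.2.testBit r = true := by
        obtain ⟨hle, hlt⟩ := Nat.log2_eq_iff hR |>.mp (rfl : Nat.log2 st.2 = r)
        obtain ⟨j, hj, hb⟩ := Nat.exists_ge_and_testBit_of_ge_two_pow hle
        have : j < r + 1 := by
          by_contra hge
          have := Nat.testBit_lt_two_pow (lt_of_lt_of_le hlt
            (Nat.pow_le_pow_right (by norm_num) (Nat.le_of_not_lt hge)))
          rw [this] at hb; simp at hb
        rw [show r = j by omega]; exact hb
      obtain ⟨hr1, hr2, hr3⟩ := hI.open5 r hr
      obtain ⟨d, ⟨hd, hrd⟩, -⟩ := hS.uniq r hr1 hr2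
      have hnot : d ∉ st.1 := fun hmem => hr3 d hmem hrd
      obtain ⟨hd1, hd2⟩ := hS.six d hd
      have hs := (set12_subset_iff hr1).mpr hrd
      obtain ⟨i, hi⟩ : ∃ i, set12 d \ set12 r = {i} := by
        rw [← card_eq_one, card_sdiff_of_subset hs, card_set12, card_set12, hd2, hr2]
      have hid : i ∈ set12 d ∧ i ∉ set12 r := mem_sdiff.mp (hi ▸ mem_singleton_self i)
      have hdeq : r ||| 2 ^ i.val = d := by
        refine set12_injOn (Nat.or_lt_two_pow (n := 12) hr1
          (Nat.pow_lt_pow_right (by norm_num) i.isLt)) hd1 ?_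
        ext j
        rw [mem_set12, Nat.testBit_or, Nat.testBit_two_pow, Bool.or_eq_true, decide_eq_true_eq,
          ← mem_set12]
        constructor
        · rintro (hj | hj)
          · exact hs hj
          · rw [← Fin.ext hj]; exact hid.1
        · intro hj
          by_cases hjr : j ∈ set12 r
          · exact Or.inl hjr
          · right
            have : j ∈ set12 d \ set12 r := mem_sdiff.mpr ⟨hj, hjr⟩
            rw [hi, mem_singleton] at this
            rw [this]
      have h' := List.all_eq_true.mp h i.val (List.mem_range.mpr i.isLt)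
      rw [show r.testBit i.val = false by simpa [mem_set12] using hid.2, Bool.false_or, hdeq] at h'
      obtain ⟨s, hs1, hs2⟩ := addPair_spec hS hI hd hnot
      rw [hs1] at h'
      exact ih s hs2 h'
    · rw [h0, cond_true] at h
      refine ⟨st.1, fun d => ⟨fun hd => ?_, hI.mem d⟩, h⟩
      rcases hI.cover d hd with hc | hc
      · exact hc
      · exfalso
        obtain ⟨hd1, hd2⟩ := hS.six d hd
        have hne : (set12 d).Nonempty := card_pos.mp (by rw [card_set12, hd2]; norm_num)
        obtain ⟨i, hi⟩ := hne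
        have hb : (cov d).testBit (d - 2 ^ i.val) = true :=
          (testBit_covAux _ _ _).mpr ⟨i.val, i.isLt, mem_set12.mp hi, rfl⟩
        obtain ⟨a1, a2, a3⟩ := (testBit_cov hd1 hd2).mp hb
        have := hc _ a1 a2 a3
        rw [Nat.eq_of_beq_eq_true h0] at this
        simp at this

/-- The five prescribed blocks. -/
def seeds12 : List ℕ := [3591, 3657, 3857, 3850, 3745]

/-- Install prescribed blocks. -/
def addAll : List ℕ → List ℕ × ℕ → Option (List ℕ × ℕ)
  | [], st => some st
  | d :: ds, st =>
    bif st.1.contains d then none else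
      match addPair st d with
      | none => none
      | some s => addAll ds s

theorem addAll_spec {S : Set ℕ} (hS : BlockMasks S) :
    ∀ (ds : List ℕ) (st : List ℕ × ℕ), SearchInv S st → (∀ d ∈ ds, d ∈ S) →
      ∀ s, addAll ds st = some s → SearchInv S s := by
  intro ds
  induction ds with
  | nil =>
    intro st hI _ s h
    simp only [addAll, Option.some.injEq] at h
    exact h ▸ hI
  | cons d ds ih =>
    intro st hI hds s h
    rw [addAll] at h
    cases hc : st.1.contains d
    · rw [hc, cond_false] at h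
      obtain ⟨t, ht1, ht2⟩ := addPair_spec hS hI (hds d List.mem_cons_self)
        (by simpa using hc)
      rw [ht1] at h
      exact ih t ht2 (fun x hx => hds x (List.mem_cons_of_mem _ hx)) s h
    · rw [hc, cond_true] at h; simp at h

theorem initInv (S : Set ℕ) (k : ℕ) (hk : k = 4096) : SearchInv S ([], fullAux k) := by
  refine ⟨by simp, by simp, fun r hr => ?_, fun d _ => Or.inr fun r a1 a2 _ => ?_⟩
  · obtain ⟨h1, h2⟩ := (testBit_fullAux r k).mp hr
    exact ⟨hk ▸ h1, h2, by simp⟩
  · exact (testBit_fullAux r k).mpr ⟨hk.symm ▸ a1, a2⟩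

/-- Run the search. -/
def runSearch12 : Bool :=
  match addAll seeds12 ([], fullAux 4096) with
  | none => false
  | some s => search12 80 s

theorem runSearch12_true : runSearch12 = true := by decide +kernel

theorem blockMasks_leaf {S : Set ℕ} (hS : BlockMasks S) (hseed : ∀ d ∈ seeds12, d ∈ S) :
    ∃ ch, (∀ d, d ∈ S ↔ d ∈ ch) ∧ leafOK ch = true := by
  have h := runSearch12_true
  unfold runSearch12 at h
  have hI := initInv S 4096 rfl
  generalize fullAux 4096 = R at h hI
  split at h
  · simp at h
  · rename_i s hs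
    exact search12_sound hS 80 s (addAll_spec hS seeds12 _ hI hseed s hs) h

end H90
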