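import Cfsg.Agent.H90.SmallIndexBase
import Cfsg.Agent.H91.M24Objects

/-!
Subgroups of index 759, 1771 and 253 containing a fixed 2-subgroup.
-/

set_option autoImplicit false
set_option maxHeartbeats 400000

namespace H90

open Cfsg
open scoped Pointwise

theorem orbit_finset {G α : Type*} [Group G] [MulAction G α] [Fintype α] (K : Subgroup G) (q : α) :
    ∃ S : Finset α, (∀ y, y ∈ S ↔ ∃ g ∈ K, g • q = y) ∧
      (∀ g ∈ K, ∀ y ∈ S, g • y ∈ S) ∧ (∀ g ∈ K, ∀ y, g • y ∈ S → y ∈ S) ∧
      S.card ∣ Nat.card K := by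
  classical
  refine ⟨Finset.univ.filter fun y => ∃ g ∈ K, g • q = y, fun y => by simp, ?_, ?_, ?_⟩
  · intro g hg y hy
    simp only [Finset.mem_filter, Finset.mem_univ, true_and] at hy ⊢
    obtain ⟨h, hh, rfl⟩ := hy
    exact ⟨g * h, mul_mem hg hh, mul_smul _ _ _⟩
  · intro g hg y hy
    simp only [Finset.mem_filter, Finset.mem_univ, true_and] at hy ⊢
    obtain ⟨h, hh, e⟩ := hy
    exact ⟨g⁻¹ * h, mul_mem (inv_mem hg) hh, by rw [mul_smul, e, inv_smul_smul]⟩
  · have h := natCard_inf_stabilizer K q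
      (↑(Finset.univ.filter fun y => ∃ g ∈ K, g • q = y) : Set α) fun y => by simp
    rw [Set.ncard_coe_finset] at h
    exact ⟨_, (Eq.symm h).trans (mul_comm _ _)⟩

theorem smul_pts_mem_iff (g : ↥M24) (T : Finset GolayPt) (x : GolayPt) :
    g • x ∈ g • T ↔ x ∈ T := Finset.smul_mem_smul_finset_iff g

/-- Five common points and an octad are preserved together. -/
theorem smul_octad_of_five {g : ↥M24} {o R : Finset GolayPt} (ho : o ∈ octads) (hR : R ⊆ o)
    (h5 : 5 ≤ R.card) (hg : ∀ x ∈ R, g • x ∈ R) : g • o = o := by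
  refine octad_eq_of_five_le_inter (image_mem_wordsOfWeight g.2 ho) ho (h5.trans ?_)
  rw [← Finset.card_image_of_injective R (MulAction.injective g)]
  refine Finset.card_le_card fun y hy => ?_
  obtain ⟨x, hx, rfl⟩ := Finset.mem_image.mp hy
  exact Finset.mem_inter.mpr ⟨Finset.mem_image.mpr ⟨x, hR hx, rfl⟩, hR (hg x hx)⟩

section
variable {P H : Subgroup ↥M24}

/-- Points moved within the reference octad and points moved outside make one orbit. -/
theorem transitive_or_preserves (hP : TwoFrame P) (hle : P ≤ H) :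
    (∀ g ∈ H, g • octA = octA) ∨ ∀ y, ∃ g ∈ H, g • pt 7 = y := by
  by_cases h : ∀ g ∈ H, ∀ x ∈ octA, g • x ∈ octA
  · left
    intro g hg
    refine Finset.eq_of_subset_of_card_le (fun y hy => ?_) (by rw [Finset.card_smul_finset])
    obtain ⟨x, hx, rfl⟩ := Finset.mem_smul_finset.mp hy
    exact h g hg x hx
  · right
    push_neg at h
    obtain ⟨g, hg, x, hx, hgx⟩ := h
    have h0 : ∃ k ∈ H, k • pt 7 = pt 0 := by
      obtain ⟨a, ha, ea⟩ := hP.onOctad x hx
      obtain ⟨b, hb, -, eb⟩ := hP.outside _ hgx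
      refine ⟨b⁻¹ * (g * a), mul_mem (inv_mem (hle hb)) (mul_mem hg (hle ha)), ?_⟩
      rw [mul_smul, mul_smul, ea, inv_smul_eq_iff, eb]
    intro y
    by_cases hy : y ∈ octA
    · obtain ⟨a, ha, ea⟩ := hP.onOctad y hy
      exact ⟨a, hle ha, ea⟩
    · obtain ⟨k, hk, ek⟩ := h0
      obtain ⟨b, hb, -, eb⟩ := hP.outside y hy
      exact ⟨b * k, mul_mem (hle hb) hk, by rw [mul_smul, ek, eb]⟩

theorem natCard_pointStab (htr : ∀ y, ∃ g ∈ H, g • pt 7 = y) :
    Nat.card ↥(H ⊓ MulAction.stabilizer M24 (pt 7)) * 24 = Nat.card H := by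
  have h := natCard_inf_stabilizer H (pt 7) Set.univ fun y => by simpa using htr y
  rwa [Set.ncard_univ, Nat.card_eq_fintype_card (α := GolayPt), card_golayPt] at h

theorem mem_pointStab {g : ↥M24} :
    g ∈ H ⊓ MulAction.stabilizer M24 (pt 7) ↔ g ∈ H ∧ g • pt 7 = pt 7 := Iff.rfl

/-- The possible shapes of the orbit of an outside point under the stabiliser of the point 7. -/
theorem point_stab_shapes (hP : TwoFrame P) (hle : P ≤ H)
    (hn22 : ¬ 22 ∣ Nat.card ↥(H ⊓ MulAction.stabilizer M24 (pt 7)))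
    (hn23 : ¬ 23 ∣ Nat.card ↥(H ⊓ MulAction.stabilizer M24 (pt 7))) :
    (∀ g ∈ H, g • pt 7 = pt 7 → g • octA = octA) ∨
    ∃ T : Finset GolayPt, T ⊆ octA ∧ pt 7 ∈ T ∧
      (∀ g ∈ H, g • pt 7 = pt 7 → ∀ x ∈ T, g • x ∈ T) ∧
      ((T.card = 4 ∧ 20 ∣ Nat.card ↥(H ⊓ MulAction.stabilizer M24 (pt 7))) ∨
       (T.card = 3 ∧ 21 ∣ Nat.card ↥(H ⊓ MulAction.stabilizer M24 (pt 7)))) := by
  classical
  obtain ⟨S, hS, hSinv, hSinv', hdvd⟩ := orbit_finset (H ⊓ MulAction.stabilizer M24 (pt 7)) (pt 0)
  have hPK : ∀ g ∈ P, g • pt 7 = pt 7 → g ∈ H ⊓ MulAction.stabilizer M24 (pt 7) :=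
    fun g hg h => ⟨hle hg, h⟩
  have hout : ∀ y, y ∉ octA → y ∈ S := by
    intro y hy
    obtain ⟨g, hg, h7, h0⟩ := hP.outside y hy
    exact (hS y).mpr ⟨g, hPK g hg h7, h0⟩
  have h7S : pt 7 ∉ S := by
    intro h
    obtain ⟨g, hg, e⟩ := (hS _).mp h
    have : pt 0 = pt 7 := (MulAction.injective g) (e.trans hg.2.symm)
    exact absurd this (by decide +kernel)
  have hTinv : ∀ g ∈ H, g • pt 7 = pt 7 → ∀ x ∈ octA \ S, g • x ∈ octA \ S := by
    intro g hg h7 x hx
    rw [Finset.mem_sdiff] at hx ⊢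
    have hns : g • x ∉ S := fun h => hx.2 (hSinv' g ⟨hg, h7⟩ x h)
    exact ⟨by_contra fun hc => hns (hout _ hc), hns⟩
  have h7T : pt 7 ∈ octA \ S := Finset.mem_sdiff.mpr ⟨by decide +kernel, h7S⟩
  by_cases h5 : 5 ≤ (octA \ S).card
  · left
    intro g hg h7
    exact smul_octad_of_five octA_mem Finset.sdiff_subset h5 (hTinv g hg h7)
  right
  -- the four points in one class lie in the orbit
  have hclass : ∀ a b, (∃ g ∈ P, g • pt 7 = pt 7 ∧ g • a = b) → (a ∈ S ↔ b ∈ S) := by
    rintro a b ⟨g, hg, h7, rfl⟩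
    exact ⟨fun h => hSinv g (hPK g hg h7) a h, fun h => hSinv' g (hPK g hg h7) a h⟩
  have hquad : ∀ y ∈ ({pt 4, pt 13, pt 20, pt 10} : Finset GolayPt), y ∈ S ↔ pt 4 ∈ S :=
    fun y hy => (hclass _ _ (hP.quad y hy)).symm
  have h4S : pt 4 ∈ S := by
    by_contra h4
    refine h5 ?_
    have hsub : ({pt 7, pt 4, pt 13, pt 20, pt 10} : Finset GolayPt) ⊆ octA \ S := by
      intro y hy
      rw [Finset.mem_insert] at hy
      rcases hy with rfl | hy
      · exact h7T
      · refine Finset.mem_sdiff.mpr ⟨?_, fun h => h4 ((hquad y hy).mp h)⟩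
        simp only [Finset.mem_insert, Finset.mem_singleton] at hy
        rcases hy with rfl | rfl | rfl | rfl <;> decide +kernel
    refine le_trans (le_of_eq ?_) (Finset.card_le_card hsub)
    decide +kernel
  have h1218 : pt 12 ∈ S ↔ pt 18 ∈ S := hclass _ _ hP.pair
  have hTsub : octA \ S ⊆ ({pt 7, pt 21, pt 12, pt 18} : Finset GolayPt) := by
    intro y hy
    rw [Finset.mem_sdiff, octA_list] at hy
    simp only [Finset.mem_insert, Finset.mem_singleton] at hy ⊢
    obtain ⟨hy1, hy2⟩ := hy
    rcases hy1 with rfl | rfl | rfl | rfl | rfl | rfl | rfl | rfl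
    · exact absurd h4S hy2
    · simp
    · exact absurd ((hquad _ (by simp)).mpr h4S) hy2
    · simp
    · exact absurd ((hquad _ (by simp)).mpr h4S) hy2
    · simp
    · exact absurd ((hquad _ (by simp)).mpr h4S) hy2
    · simp
  have hScard : S.card + (octA \ S).card = 24 := by
    have h : S = (octA \ S)ᶜ := by
      ext y
      simp only [Finset.mem_compl, Finset.mem_sdiff, not_and, not_not]
      exact ⟨fun h _ => h, fun h => if hy : y ∈ octA then h hy else hout y hy⟩
    conv_lhs => arg 1; rw [h]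
    rw [add_comm, Finset.card_add_card_compl, card_golayPt]
  refine ⟨octA \ S, Finset.sdiff_subset, h7T, hTinv, ?_⟩
  have hmem : ∀ y, y ∈ ({pt 21, pt 12, pt 18} : Finset GolayPt) → y ∉ S → y ∈ octA \ S := by
    intro y hy hns
    refine Finset.mem_sdiff.mpr ⟨?_, hns⟩
    simp only [Finset.mem_insert, Finset.mem_singleton] at hy
    rcases hy with rfl | rfl | rfl <;> decide +kernel
  by_cases h21 : pt 21 ∈ S <;> by_cases h12 : pt 12 ∈ S
  · -- only the point 7 remains
    exfalso
    have he : octA \ S = {pt 7} := by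
      refine Finset.eq_singleton_iff_unique_mem.mpr ⟨h7T, fun y hy => ?_⟩
      have h := hTsub hy
      simp only [Finset.mem_insert, Finset.mem_singleton] at h
      rcases h with h | h | h | h
      · exact h
      · exact absurd (h ▸ h21) (Finset.mem_sdiff.mp hy).2
      · exact absurd (h ▸ h12) (Finset.mem_sdiff.mp hy).2
      · exact absurd (h ▸ h1218.mp h12) (Finset.mem_sdiff.mp hy).2
    rw [he, Finset.card_singleton] at hScard
    exact hn23 (by rwa [show S.card = 23 by omega] at hdvd)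
  · right
    have he : octA \ S = {pt 7, pt 12, pt 18} := by
      refine Finset.Subset.antisymm (fun y hy => ?_) ?_
      · have h := hTsub hy
        simp only [Finset.mem_insert, Finset.mem_singleton] at h ⊢
        rcases h with h | h | h | h
        · exact Or.inl h
        · exact absurd (h ▸ h21) (Finset.mem_sdiff.mp hy).2
        · exact Or.inr (Or.inl h)
        · exact Or.inr (Or.inr h)
      · intro y hy
        simp only [Finset.mem_insert, Finset.mem_singleton] at hy
        rcases hy with rfl | rfl | rfl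
        · exact h7T
        · exact hmem _ (by simp) h12
        · exact hmem _ (by simp) fun h => h12 (h1218.mpr h)
    have h3 : (octA \ S).card = 3 := by rw [he]; decide +kernel
    exact ⟨h3, by rwa [show S.card = 21 by omega] at hdvd⟩
  · exfalso
    have he : octA \ S = {pt 7, pt 21} := by
      refine Finset.Subset.antisymm (fun y hy => ?_) ?_
      · have h := hTsub hy
        simp only [Finset.mem_insert, Finset.mem_singleton] at h ⊢
        rcases h with h | h | h | h
        · exact Or.inl h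
        · exact Or.inr h
        · exact absurd (h ▸ h12) (Finset.mem_sdiff.mp hy).2
        · exact absurd (h ▸ h1218.mp h12) (Finset.mem_sdiff.mp hy).2
      · intro y hy
        simp only [Finset.mem_insert, Finset.mem_singleton] at hy
        rcases hy with rfl | rfl
        · exact h7T
        · exact hmem _ (by simp) h21
    have h2 : (octA \ S).card = 2 := by rw [he]; decide +kernel
    exact hn22 (by rwa [show S.card = 22 by omega] at hdvd)
  · left
    have he : octA \ S = {pt 7, pt 21, pt 12, pt 18} := by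
      refine Finset.Subset.antisymm hTsub fun y hy => ?_
      simp only [Finset.mem_insert, Finset.mem_singleton] at hy
      rcases hy with rfl | rfl | rfl | rfl
      · exact h7T
      · exact hmem _ (by simp) h21
      · exact hmem _ (by simp) h12
      · exact hmem _ (by simp) fun h => h12 (h1218.mpr h)
    have h4 : (octA \ S).card = 4 := by rw [he]; decide +kernel
    exact ⟨h4, by rwa [show S.card = 20 by omega] at hdvd⟩

theorem exists_elt_stab {p : ℕ} (hp : p.Prime)
    (hdvd : p ∣ Nat.card ↥(H ⊓ MulAction.stabilizer M24 (pt 7))) :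
    ∃ σ ∈ H, σ • pt 7 = pt 7 ∧ orderOf σ = p := by
  haveI : Fact p.Prime := ⟨hp⟩
  obtain ⟨σ, hσ⟩ := exists_prime_orderOf_dvd_card' p hdvd
  exact ⟨σ.1, σ.2.1, σ.2.2, by rw [Subgroup.orderOf_coe]; exact hσ⟩

/-- If the stabiliser of a point preserves the octad through it, the images of the octad are
disjoint. -/
theorem octad_images_disjoint (hP : TwoFrame P) (hle : P ≤ H)
    (hK : ∀ g ∈ H, g • pt 7 = pt 7 → g • octA = octA) {h : ↥M24} (hh : h ∈ H) {w : GolayPt}
    (hw : w ∈ octA) (hz : h • w ∈ octA) : h • octA = octA := by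
  obtain ⟨a, ha, ea⟩ := hP.onOctad w hw
  obtain ⟨b, hb, eb⟩ := hP.onOctad _ hz
  have := hK (b⁻¹ * h * a) (mul_mem (mul_mem (inv_mem (hle hb)) hh) (hle ha))
    (by rw [mul_smul, mul_smul, ea, inv_smul_eq_iff, eb])
  rw [mul_smul, mul_smul, hP.preserves a ha, inv_smul_eq_iff, hP.preserves b hb] at this
  exact this

attribute [local irreducible] octA

/-- The stabiliser of a point cannot preserve the octad through it if the group is transitive. -/
theorem no_trio (hP : TwoFrame P) (hle : P ≤ H) (htr : ∀ y, ∃ g ∈ H, g • pt 7 = y)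
    (h5 : 5 ∣ Nat.card ↥(H ⊓ MulAction.stabilizer M24 (pt 7))) :
    ¬ ∀ g ∈ H, g • pt 7 = pt 7 → g • octA = octA := by
  intro hK
  obtain ⟨σ, hσH, hσ7, hσ⟩ := exists_elt_stab (by norm_num) h5
  have hp : Nat.Prime 5 := by norm_num
  obtain ⟨h, hh, he⟩ := htr (pt 0)
  set B := h • octA with hB
  have hBcard : B.card = 8 := by rw [Finset.card_smul_finset, octA_mem.2]
  -- images meeting the octad coincide with it
  have key : ∀ g ∈ H, g • octA = octA ∨ Disjoint octA (g • octA) := by
    intro g hg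
    by_cases hd : Disjoint octA (g • octA)
    · exact Or.inr hd
    · obtain ⟨z, hz1, hz2⟩ := Finset.not_disjoint_iff.mp hd
      obtain ⟨w, hw, rfl⟩ := Finset.mem_smul_finset.mp hz2
      exact Or.inl (octad_images_disjoint hP hle hK hg hw hz1)
  have keyB : ∀ g ∈ H, ∀ g' ∈ H, g • octA = g' • octA ∨ Disjoint (g • octA) (g' • octA) := by
    intro g hg g' hg'
    rcases key (g⁻¹ * g') (mul_mem (inv_mem hg) hg') with e | e
    · left; rw [mul_smul, inv_smul_eq_iff] at e; exact e.symm
    · right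
      rw [Finset.disjoint_left] at e ⊢
      intro z hz1 hz2
      refine e (a := g⁻¹ • z) ((Finset.smul_mem_smul_finset_iff g).mp ?_) ?_
      · rw [smul_inv_smul]; exact hz1
      · rw [mul_smul, Finset.smul_mem_smul_finset_iff]; exact hz2
  have hOne : Disjoint octA B := by
    rcases key h hh with e | e
    · exfalso
      have : pt 0 ∈ octA := by rw [← e, ← he]; exact Finset.smul_mem_smul_finset (by decide +kernel)
      exact absurd this (by decide +kernel)
    · exact e
  have hσO : σ • octA = octA := hK σ hσH hσ7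
  have hσB : σ • B = B := by
    by_contra hne
    have hd1 : Disjoint B (σ • B) := by
      rcases keyB h hh (σ * h) (mul_mem hσH hh) with e | e
      · exact absurd (by rw [mul_smul] at e; exact e.symm) hne
      · rwa [mul_smul] at e
    have hO1 : Disjoint octA (σ • B) := by
      rw [← hσO]
      exact (Finset.disjoint_image (MulAction.injective σ)).mpr hOne
    have hO2 : Disjoint octA (σ • σ • B) := by
      rw [← hσO]
      exact (Finset.disjoint_image (MulAction.injective σ)).mpr hO1
    have hd2 : Disjoint B (σ • σ • B) := by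
      rcases keyB h hh (σ * (σ * h)) (mul_mem hσH (mul_mem hσH hh)) with e | e
      · exfalso
        rw [mul_smul, mul_smul] at e
        have h2 : (σ ^ 2) • B = B := by rw [pow_two, mul_smul]; exact e.symm
        refine hne ?_
        have h6 : (σ ^ 2) • (σ ^ 2) • (σ ^ 2) • B = B := by rw [h2, h2, h2]
        rw [← mul_smul, ← mul_smul, ← pow_add, ← pow_add, show 2 + (2 + 2) = 5 + 1 from rfl,
          pow_add, show σ ^ 5 = 1 by rw [← hσ]; exact pow_orderOf_eq_one σ, one_mul, pow_one] at h6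
        exact h6
      · rwa [mul_smul, mul_smul] at e
    have hd3 : Disjoint (σ • B) (σ • σ • B) :=
      (Finset.disjoint_image (MulAction.injective σ)).mpr hd1
    have hu : ((octA ∪ B) ∪ (σ • B ∪ σ • σ • B)).card ≤ 24 := by
      rw [← card_golayPt]; exact Finset.card_le_univ _
    rw [Finset.card_union_of_disjoint (Finset.disjoint_union_left.mpr
      ⟨Finset.disjoint_union_right.mpr ⟨hO1, hO2⟩, Finset.disjoint_union_right.mpr ⟨hd1, hd2⟩⟩),
      Finset.card_union_of_disjoint hOne, Finset.card_union_of_disjoint hd3] at hu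
    have c1 : (σ • B).card = 8 := (Finset.card_smul_finset σ B).trans hBcard
    have c2 : (σ • σ • B).card = 8 := (Finset.card_smul_finset σ (σ • B)).trans c1
    rw [c1, c2, hBcard, octA_mem.2] at hu
    omega
  have inv : ∀ T : Finset GolayPt, σ • T = T → ∀ x ∈ T, σ • x ∈ T := fun T hT x hx => by
    rw [← hT]; exact Finset.smul_mem_smul_finset hx
  have hC : ∀ x ∈ (octA ∪ B)ᶜ, σ • x ∈ (octA ∪ B)ᶜ := by
    intro x hx
    rw [Finset.mem_compl] at hx ⊢
    intro h
    refine hx ?_
    have : σ • (octA ∪ B) = octA ∪ B := by rw [Finset.smul_finset_union, hσO, hσB]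
    rw [← this] at h
    exact (Finset.smul_mem_smul_finset_iff σ).mp h
  have h1 := card_modEq_fix hp hσ octA (inv _ hσO)
  have h2 := card_modEq_fix hp hσ B (inv _ hσB)
  have h3 := card_modEq_fix hp hσ _ hC
  rw [octA_mem.2] at h1
  rw [hBcard] at h2
  rw [Finset.card_compl, card_golayPt, Finset.card_union_of_disjoint hOne, octA_mem.2, hBcard] at h3
  have hsum : (octA ∩ fixSet σ).card + (B ∩ fixSet σ).card + ((octA ∪ B)ᶜ ∩ fixSet σ).card ≤
      (fixSet σ).card := by
    have d1 : Disjoint (octA ∩ fixSet σ) (B ∩ fixSet σ) :=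
      hOne.mono Finset.inter_subset_left Finset.inter_subset_left
    have d2 : Disjoint (octA ∩ fixSet σ ∪ B ∩ fixSet σ) ((octA ∪ B)ᶜ ∩ fixSet σ) :=
      disjoint_compl_right.mono
        (Finset.union_subset (Finset.inter_subset_left.trans Finset.subset_union_left)
          (Finset.inter_subset_left.trans Finset.subset_union_right))
        Finset.inter_subset_left
    rw [← Finset.card_union_of_disjoint d1, ← Finset.card_union_of_disjoint d2]
    exact Finset.card_le_card (Finset.union_subset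
      (Finset.union_subset Finset.inter_subset_right Finset.inter_subset_right)
      Finset.inter_subset_right)
  rw [card_fixSet hp le_rfl hσ] at hsum
  unfold Nat.ModEq at h1 h2 h3
  omega

/-- Images of an invariant set of size `24 % p` meeting it coincide with it. -/
theorem block_step {p : ℕ} (hp : p.Prime) (h5 : 5 ≤ p) {T : Finset GolayPt}
    (hT : ∀ g ∈ H, g • pt 7 = pt 7 → ∀ x ∈ T, g • x ∈ T) (hc : T.card = 24 % p)
    (hdvd : p ∣ Nat.card ↥(H ⊓ MulAction.stabilizer M24 (pt 7)))
    {h : ↥M24} (hh : h ∈ H) (hmem : h • pt 7 ∈ T) : h • T = T := by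
  obtain ⟨σ, hσH, hσ7, hσ⟩ := exists_elt_stab hp hdvd
  have hσT := fixSet_eq hp h5 hσ T (hT σ hσH hσ7) hc
  have hfix : σ • h • pt 7 = h • pt 7 := mem_fixSet.mp (hσT ▸ hmem)
  have h' : (h⁻¹ * σ * h) • pt 7 = pt 7 := by rw [mul_smul, mul_smul, hfix, inv_smul_smul]
  have hc' : orderOf (h⁻¹ * σ * h) = p := by
    rw [← hσ, show h⁻¹ * σ * h = MulAut.conj h⁻¹ σ by simp, MulEquiv.orderOf_eq]
  have hτT := fixSet_eq hp h5 hc' T
    (hT _ (mul_mem (mul_mem (inv_mem hh) hσH) hh) h') hc
  refine Finset.eq_of_subset_of_card_le (fun y hy => ?_) (by rw [Finset.card_smul_finset])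
  obtain ⟨x, hx, rfl⟩ := Finset.mem_smul_finset.mp hy
  rw [← hσT, mem_fixSet]
  have hx' : (h⁻¹ * σ * h) • x = x := mem_fixSet.mp (hτT.symm ▸ hx)
  rwa [mul_smul, mul_smul, inv_smul_eq_iff] at hx'

theorem no_triple (hP : TwoFrame P) (hle : P ≤ H) {T : Finset GolayPt}
    (htr : ∀ y, ∃ g ∈ H, g • pt 7 = y) (hsub : T ⊆ octA) (h7 : pt 7 ∈ T)
    (hT : ∀ g ∈ H, g • pt 7 = pt 7 → ∀ x ∈ T, g • x ∈ T) (hc : T.card = 3) :
    ¬ 7 ∣ Nat.card ↥(H ⊓ MulAction.stabilizer M24 (pt 7)) := by
  classical
  intro hdvd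
  have step : ∀ h ∈ H, h • pt 7 ∈ T → h • T = T := fun h hh hm =>
    block_step (p := 7) (by norm_num) (by norm_num) hT hc hdvd hh hm
  choose a ha hax using hP.onOctad
  obtain ⟨F, hFiff⟩ : ∃ F : Finset (Finset GolayPt), ∀ B, B ∈ F ↔ ∃ y hy, a y hy • T = B :=
    ⟨octA.attach.image fun y => a y.1 y.2 • T, fun B => by
      simp only [Finset.mem_image, Finset.mem_attach, true_and, Subtype.exists]⟩
  have hcover : octA = F.biUnion id := by
    refine Finset.Subset.antisymm (fun y hy => ?_) fun y hy => ?_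
    · exact Finset.mem_biUnion.mpr ⟨a y hy • T, (hFiff _).mpr ⟨y, hy, rfl⟩,
        Finset.mem_smul_finset.mpr ⟨pt 7, h7, hax y hy⟩⟩
    · obtain ⟨B, hB, hyB⟩ := Finset.mem_biUnion.mp hy
      obtain ⟨w, hw, rfl⟩ := (hFiff B).mp hB
      obtain ⟨x, hx, rfl⟩ := Finset.mem_smul_finset.mp hyB
      exact (hP.preserves _ (ha w hw)).subset (Finset.smul_mem_smul_finset (hsub hx))
  have hblocks : ∀ g ∈ P, ∀ g' ∈ P, g • T = g' • T ∨ Disjoint (g • T) (g' • T) := by
    intro g hg g' hg'
    by_cases hd : Disjoint (g • T) (g' • T)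
    · exact Or.inr hd
    left
    obtain ⟨z, hz1, hz2⟩ := Finset.not_disjoint_iff.mp hd
    obtain ⟨t, ht, rfl⟩ := Finset.mem_smul_finset.mp hz1
    obtain ⟨t', ht', e⟩ := Finset.mem_smul_finset.mp hz2
    obtain ⟨k, hk, ek⟩ := htr t'
    have hgk : (g⁻¹ * g' * k) ∈ H := mul_mem (mul_mem (inv_mem (hle hg)) (hle hg')) hk
    have hkT : k • T = T := step k hk (ek ▸ ht')
    have := step _ hgk (by rw [mul_smul, mul_smul, ek, e, inv_smul_smul]; exact ht)
    rw [mul_smul, mul_smul, hkT, inv_smul_eq_iff] at this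
    exact this.symm
  have hcard : (F.biUnion id).card = F.card * 3 := by
    have hd : (F : Set (Finset GolayPt)).PairwiseDisjoint id := by
      intro B hB B' hB' hne
      obtain ⟨w, hw, rfl⟩ := (hFiff B).mp hB
      obtain ⟨w', hw', rfl⟩ := (hFiff B').mp hB'
      exact (hblocks _ (ha w hw) _ (ha w' hw')).resolve_left hne
    rw [Finset.card_biUnion hd]
    refine Finset.sum_const_nat fun B hB => ?_
    obtain ⟨w, hw, rfl⟩ := (hFiff B).mp hB
    exact (Finset.card_smul_finset _ T).trans hc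
  rw [← hcover, octA_mem.2] at hcard
  omega

/-- The sextet preserved in the case of index 1771. -/
theorem exists_sextet (hP : TwoFrame P) (hle : P ≤ H) {T : Finset GolayPt}
    (htr : ∀ y, ∃ g ∈ H, g • pt 7 = y) (hsub : T ⊆ octA) (h7 : pt 7 ∈ T)
    (hT : ∀ g ∈ H, g • pt 7 = pt 7 → ∀ x ∈ T, g • x ∈ T) (hc : T.card = 4)
    (hdvd : 5 ∣ Nat.card ↥(H ⊓ MulAction.stabilizer M24 (pt 7))) :
    ∃ S ∈ sextets, ∀ g ∈ H, g • S = S := by
  classical
  have hp : Nat.Prime 5 := by norm_num
  have step : ∀ h ∈ H, h • pt 7 ∈ T → h • T = T := fun h hh hm =>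
    block_step hp le_rfl hT hc hdvd hh hm
  choose a ha hax using htr
  obtain ⟨F, hFiff⟩ : ∃ F : Finset (Finset GolayPt), ∀ B, B ∈ F ↔ ∃ y, a y • T = B :=
    ⟨Finset.univ.image fun y => a y • T, fun B => by
      simp only [Finset.mem_image, Finset.mem_univ, true_and]⟩
  have hF : ∀ g ∈ H, g • T ∈ F := by
    intro g hg
    refine (hFiff _).mpr ⟨g • pt 7, ?_⟩
    have h1 := step ((a (g • pt 7))⁻¹ * g) (mul_mem (inv_mem (ha _)) hg)
      (by rw [mul_smul, inv_smul_eq_iff.mpr (hax _).symm]; exact h7)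
    rw [mul_smul, inv_smul_eq_iff] at h1
    exact h1.symm
  have hdisj : ∀ g ∈ H, ∀ g' ∈ H, g • T = g' • T ∨ Disjoint (g • T) (g' • T) := by
    intro g hg g' hg'
    by_cases hd : Disjoint (g • T) (g' • T)
    · exact Or.inr hd
    left
    obtain ⟨z, hz1, hz2⟩ := Finset.not_disjoint_iff.mp hd
    obtain ⟨t, ht, rfl⟩ := Finset.mem_smul_finset.mp hz1
    obtain ⟨t', ht', e⟩ := Finset.mem_smul_finset.mp hz2
    have hkT : a t' • T = T := step _ (ha t') ((hax t').symm ▸ ht')
    have := step (g⁻¹ * g' * a t') (mul_mem (mul_mem (inv_mem hg) hg') (ha t'))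
      (by rw [mul_smul, mul_smul, hax t', e, inv_smul_smul]; exact ht)
    rw [mul_smul, mul_smul, hkT, inv_smul_eq_iff] at this
    exact this.symm
  have hcover : Finset.univ = F.biUnion id := by
    refine (Finset.eq_univ_iff_forall.mpr fun y => ?_).symm
    exact Finset.mem_biUnion.mpr ⟨a y • T, (hFiff _).mpr ⟨y, rfl⟩,
      Finset.mem_smul_finset.mpr ⟨pt 7, h7, hax y⟩⟩
  have hFmem : ∀ B ∈ F, ∃ g ∈ H, g • T = B := fun B hB => by
    obtain ⟨y, rfl⟩ := (hFiff B).mp hB
    exact ⟨a y, ha y, rfl⟩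
  have hcard4 : ∀ B ∈ F, B.card = 4 := fun B hB => by
    obtain ⟨g, -, rfl⟩ := hFmem B hB
    rw [Finset.card_smul_finset, hc]
  have hF6 : F.card = 6 := by
    have h : (F.biUnion id).card = F.card * 4 := by
      have hd : (F : Set (Finset GolayPt)).PairwiseDisjoint id := by
        intro B hB B' hB' hne
        obtain ⟨g, hg, rfl⟩ := hFmem B hB
        obtain ⟨g', hg', rfl⟩ := hFmem B' hB'
        exact (hdisj g hg g' hg').resolve_left hne
      rw [Finset.card_biUnion hd]
      exact Finset.sum_const_nat hcard4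
    rw [← hcover, Finset.card_univ, card_golayPt] at h
    omega
  have hpres : ∀ g ∈ H, g • F = F := by
    intro g hg
    refine Finset.eq_of_subset_of_card_le (fun B hB => ?_) (by rw [Finset.card_smul_finset])
    obtain ⟨B', hB', rfl⟩ := Finset.mem_smul_finset.mp hB
    obtain ⟨k, hk, rfl⟩ := hFmem B' hB'
    rw [← mul_smul]
    exact hF _ (mul_mem hg hk)
  -- the partner of `T` inside the octad
  obtain ⟨x, hx, hxT⟩ := Finset.exists_mem_notMem_of_card_lt_card
    (s := T) (t := octA) (by rw [hc, octA_mem.2]; norm_num)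
  obtain ⟨b, hb, hbx⟩ := hP.onOctad x hx
  set T' := b • T with hT'
  have hT'sub : T' ⊆ octA := by
    rw [hT', ← hP.preserves b hb]; exact Finset.smul_finset_subset_smul_finset hsub
  have hTT' : Disjoint T T' := by
    rcases hdisj 1 (one_mem _) b (hle hb) with e | e
    · exfalso
      rw [one_smul] at e
      have : x ∈ b • T := hbx ▸ Finset.smul_mem_smul_finset h7
      exact hxT (e.symm ▸ this)
    · rwa [one_smul] at e
  have hunion : T ∪ T' = octA := by
    refine Finset.eq_of_subset_of_card_le (Finset.union_subset hsub hT'sub) ?_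
    rw [Finset.card_union_of_disjoint hTT', hT', Finset.card_smul_finset, hc, octA_mem.2]
  obtain ⟨σ, hσH, hσ7, hσ⟩ := exists_elt_stab hp hdvd
  have hσT := fixSet_eq hp le_rfl hσ T (hT σ hσH hσ7) hc
  have hσfix : ∀ n : ℕ, (σ ^ n) • T = T := by
    intro n
    induction n with
    | zero => rw [pow_zero, one_smul]
    | succ n ih =>
      rw [pow_succ', mul_smul, ih]
      exact step σ hσH (by rw [hσ7]; exact h7)
  have hmove : σ • T' ≠ T' := by
    intro e
    have h := fixSet_eq hp le_rfl hσ T' (fun y hy => e ▸ Finset.smul_mem_smul_finset hy)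
      (by rw [hT', Finset.card_smul_finset, hc])
    rw [hσT] at h
    rw [h, disjoint_self, Finset.bot_eq_empty] at hTT'
    have h4 := hcard4 _ (hF b (hle hb))
    rw [← hT', hTT', Finset.card_empty] at h4
    exact absurd h4 (by norm_num)
  let orb : Fin 5 → Finset GolayPt := fun i => (σ ^ i.val) • T'
  have horb : Function.Injective orb := by
    intro i j e
    by_contra hne
    refine hmove ?_
    have hmem : ∀ n : ℕ, (σ ^ n) • T' = T' → n % 5 ≠ 0 → σ • T' = T' := by
      intro n hn h0
      have hmul : ∀ m : ℕ, (σ ^ (n * m)) • T' = T' := by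
        intro m
        induction m with
        | zero => rw [Nat.mul_zero, pow_zero, one_smul]
        | succ m ih => rw [Nat.mul_succ, pow_add, mul_smul, hn, ih]
      obtain ⟨m, hm⟩ : ∃ m, n * m % 5 = 1 := by
        have : n % 5 = 1 ∨ n % 5 = 2 ∨ n % 5 = 3 ∨ n % 5 = 4 := by omega
        rcases this with h | h | h | h
        · exact ⟨1, by omega⟩
        · exact ⟨3, by omega⟩
        · exact ⟨2, by omega⟩
        · exact ⟨4, by omega⟩
      have := hmul m
      rwa [← pow_mod_orderOf, hσ, hm, pow_one] at this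
    rcases lt_trichotomy i.val j.val with h | h | h
    · refine hmem (j.val - i.val) ?_ (by omega)
      apply MulAction.injective (σ ^ i.val)
      show (σ ^ i.val) • (σ ^ (j.val - i.val)) • T' = (σ ^ i.val) • T'
      rw [← mul_smul, ← pow_add, Nat.add_sub_cancel' h.le]
      exact e.symm
    · exact absurd (Fin.ext h) hne
    · refine hmem (i.val - j.val) ?_ (by omega)
      apply MulAction.injective (σ ^ j.val)
      show (σ ^ j.val) • (σ ^ (i.val - j.val)) • T' = (σ ^ j.val) • T'
      rw [← mul_smul, ← pow_add, Nat.add_sub_cancel' h.le]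
      exact e
  have hTF : T ∈ F := by simpa using hF 1 (one_mem _)
  have hrest : F.erase T = Finset.univ.image orb := by
    refine (Finset.eq_of_subset_of_card_le ?_ ?_).symm
    · intro B hB
      obtain ⟨i, -, rfl⟩ := Finset.mem_image.mp hB
      refine Finset.mem_erase.mpr ⟨fun e => ?_, ?_⟩
      · have h' : (σ ^ i.val) • T' = T := e
        have h'' : T' = T := (MulAction.injective (σ ^ i.val)) (h'.trans (hσfix i.val).symm)
        rw [h'', disjoint_self, Finset.bot_eq_empty] at hTT'
        rw [hTT', Finset.card_empty] at hc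
        exact absurd hc (by norm_num)
      · show (σ ^ i.val) • T' ∈ F
        rw [hT', ← mul_smul]
        exact hF _ (mul_mem (Subgroup.pow_mem _ hσH _) (hle hb))
    · rw [Finset.card_erase_of_mem hTF, hF6, Finset.card_image_of_injective _ horb,
        Finset.card_univ, Fintype.card_fin]
  have hTB : ∀ B ∈ F, B ≠ T → T ∪ B ∈ octads := by
    intro B hB hne
    have : B ∈ F.erase T := Finset.mem_erase.mpr ⟨hne, hB⟩
    rw [hrest, Finset.mem_image] at this
    obtain ⟨i, -, rfl⟩ := this
    show T ∪ (σ ^ i.val) • T' ∈ octads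
    rw [← hσfix i.val, ← Finset.smul_finset_union, hunion]
    exact image_mem_wordsOfWeight (σ ^ i.val).2 octA_mem
  refine ⟨F, ⟨hF6, hcard4, fun B hB B' hB' hne => ?_⟩, hpres⟩
  obtain ⟨g, hg, rfl⟩ := hFmem B hB
  have hB'' : g⁻¹ • B' ∈ F := by
    rw [← hpres g⁻¹ (inv_mem hg)]; exact Finset.smul_mem_smul_finset hB'
  have := hTB _ hB'' fun e => hne (by rw [← e, smul_inv_smul])
  have h := image_mem_wordsOfWeight g.2 this
  have e : g • (T ∪ g⁻¹ • B') = g • T ∪ B' := by rw [Finset.smul_finset_union, smul_inv_smul]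
  rw [← e]
  exact h

theorem natCard_sextet_stab {S : Finset (Finset GolayPt)} (hS : S ∈ sextets) :
    Nat.card (MulAction.stabilizer M24 S) * 1771 = 244823040 := by
  have h := natCard_stabilizer_mul (G := M24) S sextets fun S' => by
    constructor
    · intro hS'
      obtain ⟨g, hg, e⟩ := H91.Orb.sextets_transitive hS hS'
      exact ⟨⟨g, hg⟩, e⟩
    · rintro ⟨g, rfl⟩
      exact H91.Orb.smul_sextet g.2 hS
  have hn : sextets.ncard = 1771 := by
    have := H91.Orb.sext_listing.ncard (fun _ => true) (fun _ => True) (fun _ _ => by simp)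
    have hl : H91.Orb.sextObjs.length = 1771 := by decide +kernel
    simpa [hl] using this
  rwa [hn, natCard_M24] at h

theorem index_odd_main (hP : TwoFrame P) (hle : P ≤ H) :
    (H.index = 759 → H = MulAction.stabilizer M24 octA) ∧
    (H.index = 1771 → ∃ S ∈ sextets, H = MulAction.stabilizer M24 S) ∧ H.index ≠ 253 := by
  have hmul : Nat.card H * H.index = 244823040 := by rw [Subgroup.card_mul_index, natCard_M24]
  have hdich := transitive_or_preserves hP hle
  have hpresCase : (∀ g ∈ H, g • octA = octA) → Nat.card H ∣ 322560 := fun h => by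
    rw [← natCard_stab_octad octA_mem]
    exact Subgroup.card_dvd_of_le fun g hg => h g hg
  have htrans : ∀ n : ℕ, Nat.card H = 24 * n → (∀ y, ∃ g ∈ H, g • pt 7 = y) →
      ¬ 22 ∣ n → ¬ 23 ∣ n → 5 ∣ n →
      ∃ T : Finset GolayPt, T ⊆ octA ∧ pt 7 ∈ T ∧
        (∀ g ∈ H, g • pt 7 = pt 7 → ∀ x ∈ T, g • x ∈ T) ∧
        ((T.card = 4 ∧ ¬ 7 ∣ n) ∨ (T.card = 3 ∧ 21 ∣ n ∧ ¬ 7 ∣ n)) := by
    intro n hn htr h22 h23 h5
    have hK : Nat.card ↥(H ⊓ MulAction.stabilizer M24 (pt 7)) = n := by
      have := natCard_pointStab htr; omega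
    rcases point_stab_shapes hP hle (hK ▸ h22) (hK ▸ h23) with h | ⟨T, hsub, h7, hT, hc⟩
    · exact absurd h (no_trio hP hle htr (hK ▸ h5))
    refine ⟨T, hsub, h7, hT, ?_⟩
    rw [hK] at hc
    rcases hc with ⟨hc, -⟩ | ⟨hc, h21⟩
    · refine Or.inl ⟨hc, fun h7n => ?_⟩
      obtain ⟨σ, hσH, hσ7, hσ⟩ := exists_elt_stab (p := 7) (by norm_num) (hK ▸ h7n)
      have h := card_modEq_fix (by norm_num) hσ T (hT σ hσH hσ7)
      have h1 : (T ∩ fixSet σ).card ≤ (fixSet σ).card := Finset.card_le_card Finset.inter_subset_right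
      rw [card_fixSet (by norm_num) (by norm_num) hσ] at h1
      unfold Nat.ModEq at h
      rw [hc] at h
      omega
    · exact Or.inr ⟨hc, h21, fun h7n => no_triple hP hle htr hsub h7 hT hc (hK ▸ h7n)⟩
  refine ⟨fun hi => ?_, fun hi => ?_, fun hi => ?_⟩ <;> rw [hi] at hmul
  · have hcard : Nat.card H = 322560 := by omega
    rcases hdich with h | htr
    · exact Subgroup.eq_of_le_of_card_ge (fun g hg => h g hg)
        (by rw [natCard_stab_octad octA_mem, hcard])
    · obtain ⟨T, -, -, -, ⟨-, h⟩ | ⟨-, -, h⟩⟩ := htrans 13440 (by omega) htr (by norm_num) (by norm_num)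
        (by norm_num) <;> exact absurd (by norm_num : 7 ∣ 13440) h
  · have hcard : Nat.card H = 138240 := by omega
    rcases hdich with h | htr
    · have := hpresCase h
      rw [hcard] at this
      norm_num at this
    · obtain ⟨T, hsub, h7, hT, ⟨hc, -⟩ | ⟨-, h21, -⟩⟩ := htrans 5760 (by omega) htr (by norm_num)
        (by norm_num) (by norm_num)
      · have hK : Nat.card ↥(H ⊓ MulAction.stabilizer M24 (pt 7)) = 5760 := by
          have := natCard_pointStab htr; omega
        obtain ⟨S, hS, hinv⟩ := exists_sextet hP hle htr hsub h7 hT hc (by rw [hK]; norm_num)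
        refine ⟨S, hS, Subgroup.eq_of_le_of_card_ge (fun g hg => hinv g hg) ?_⟩
        have := natCard_sextet_stab hS
        omega
      · norm_num at h21
  · have hcard : Nat.card H = 967680 := by omega
    rcases hdich with h | htr
    · have := hpresCase h
      rw [hcard] at this
      norm_num at this
    · obtain ⟨T, -, -, -, ⟨-, h⟩ | ⟨-, -, h⟩⟩ := htrans 40320 (by omega) htr (by norm_num) (by norm_num)
        (by norm_num) <;> exact absurd (by norm_num : 7 ∣ 40320) h

end

end H90
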